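import Cfsg.Agent.ThO.Q2
import Cfsg.Agent.ThO.TDat

set_option autoImplicit false
set_option Elab.async false
set_option maxRecDepth 100000
set_option linter.all false

namespace Cfsg.Agent.ThO
open Cfsg.Agent.CGT

theorem nd1 : test As As1 (tst1 (nth [] alw 1)) ps X0 (expand (dbl Wb) (nth [] NW 1)) = true := by decide +kernel
theorem nd2 : test As As1 (tst1 (nth [] alw 2)) ps X0 (expand (dbl Wb) (nth [] NW 2)) = true := by decide +kernel
theorem nd3 : test As As1 (tst1 (nth [] alw 3)) ps X0 (expand (dbl Wb) (nth [] NW 3)) = true := by decide +kernel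
theorem nd4 : test As As1 (tst1 (nth [] alw 4)) ps X0 (expand (dbl Wb) (nth [] NW 4)) = true := by decide +kernel
theorem nd5 : test As As1 (tst1 (nth [] alw 5)) ps X0 (expand (dbl Wb) (nth [] NW 5)) = true := by decide +kernel
theorem nd6 : test As As1 (tst1 (nth [] alw 6)) ps X0 (expand (dbl Wb) (nth [] NW 6)) = true := by decide +kernel
theorem nd7 : test As As1 (tst1 (nth [] alw 7)) ps X0 (expand (dbl Wb) (nth [] NW 7)) = true := by decide +kernel
theorem nd8 : test As As1 (tst1 (nth [] alw 8)) ps X0 (expand (dbl Wb) (nth [] NW 8)) = true := by decide +kernel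
theorem nd9 : test As As1 (tst1 (nth [] alw 9)) ps X0 (expand (dbl Wb) (nth [] NW 9)) = true := by decide +kernel
theorem nd10 : test As As1 (tst1 (nth [] alw 10)) ps X0 (expand (dbl Wb) (nth [] NW 10)) = true := by decide +kernel
theorem nd_all : ∀ i < 11, i ≠ 0 → test As As1 (tst1 (nth [] alw i)) ps X0 (expand (dbl Wb) (nth [] NW i)) = true := by
  intro i hi h0
  interval_cases i
  exacts [absurd rfl h0, nd1, nd2, nd3, nd4, nd5, nd6, nd7, nd8, nd9, nd10]

end Cfsg.Agent.ThO
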