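import Cfsg.Agent.ThO.Q2

set_option autoImplicit false
set_option Elab.async false
set_option maxRecDepth 100000
set_option linter.all false

namespace Cfsg.Agent.ThO
open Cfsg.Agent.CGT

theorem zr0 : q2 (Z (nth [] R0 0)) [] = true := by decide +kernel
theorem zr1 : q2 (Z (nth [] R0 1)) [] = true := by decide +kernel
theorem zr2 : q2 (Z (nth [] R0 2)) [] = true := by decide +kernel
theorem zr3 : q2 (Z (nth [] R0 3)) [] = true := by decide +kernel
theorem zr4 : q2 (Z (nth [] R0 4)) [] = true := by decide +kernel
theorem zr5 : q2 (Z (nth [] R0 5)) [] = true := by decide +kernel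
theorem zr6 : q2 (Z (nth [] R0 6)) [] = true := by decide +kernel
theorem zr7 : q2 (Z (nth [] R0 7)) [] = true := by decide +kernel
theorem zr8 : q2 (Z (nth [] R0 8)) [] = true := by decide +kernel
theorem zr9 : q2 (Z (nth [] R0 9)) [] = true := by decide +kernel
theorem zr10 : q2 (Z (nth [] R0 10)) [] = true := by decide +kernel
theorem zr11 : q2 (Z (nth [] R0 11)) [] = true := by decide +kernel
theorem zr12 : q2 (Z (nth [] R0 12)) [] = true := by decide +kernel
theorem zr13 : q2 (Z (nth [] R0 13)) [] = true := by decide +kernel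
theorem zr14 : q2 (Z (nth [] R0 14)) [] = true := by decide +kernel
theorem zr15 : q2 (Z (nth [] R0 15)) [] = true := by decide +kernel
theorem zr16 : q2 (Z (nth [] R0 16)) [] = true := by decide +kernel
theorem zr17 : q2 (Z (nth [] R0 17)) [] = true := by decide +kernel
theorem zr_all : ∀ i < 18, q2 (Z (nth [] R0 i)) [] = true := by
  intro i hi
  interval_cases i
  exacts [zr0, zr1, zr2, zr3, zr4, zr5, zr6, zr7, zr8, zr9, zr10, zr11, zr12, zr13, zr14, zr15, zr16, zr17]

end Cfsg.Agent.ThO
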