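import Cfsg.Agent.ThO.Q2

set_option autoImplicit false
set_option Elab.async false
set_option maxRecDepth 100000
set_option linter.all false

namespace Cfsg.Agent.ThO
open Cfsg.Agent.CGT

theorem pu0 : (fun j => q2 (nth [] LW0 j ++ [14]) (14 :: nth [] TW0 j)) 0 = true := by decide +kernel
theorem pu1 : (fun j => q2 (nth [] LW0 j ++ [14]) (14 :: nth [] TW0 j)) 1 = true := by decide +kernel
theorem pu2 : (fun j => q2 (nth [] LW0 j ++ [14]) (14 :: nth [] TW0 j)) 2 = true := by decide +kernel
theorem pu3 : (fun j => q2 (nth [] LW0 j ++ [14]) (14 :: nth [] TW0 j)) 3 = true := by decide +kernel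
theorem pu4 : (fun j => q2 (nth [] LW0 j ++ [14]) (14 :: nth [] TW0 j)) 4 = true := by decide +kernel
theorem pu5 : (fun j => q2 (nth [] LW0 j ++ [14]) (14 :: nth [] TW0 j)) 5 = true := by decide +kernel
theorem pu6 : (fun j => q2 (nth [] LW0 j ++ [14]) (14 :: nth [] TW0 j)) 6 = true := by decide +kernel
theorem pu_all : ∀ i < 7, (fun j => q2 (nth [] LW0 j ++ [14]) (14 :: nth [] TW0 j)) i = true := by
  intro i hi
  interval_cases i
  exacts [pu0, pu1, pu2, pu3, pu4, pu5, pu6]
theorem act6 : List.Forall₂ (fun w i => (fun u v => q2 (expand (dbl WC) u) (expand (dbl WC) v))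
    (2 * 6 :: w ++ [2 * 6 + 1]) (Ew i) = true) GW (nth [] ims 6) := by decide +kernel
theorem cen6 : q2 (expand (dbl WC) [0, 2 * 6]) (expand (dbl WC) [2 * 6, 0]) = true := by decide +kernel

end Cfsg.Agent.ThO
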