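import Cfsg.Agent.ThO.KLev
import Cfsg.Agent.ThO.Q2a
import Cfsg.Agent.ThO.Q2b
import Cfsg.Agent.ThO.Nodes
import Cfsg.Agent.ThL.Dce

set_option autoImplicit false
set_option maxRecDepth 100000
set_option linter.style.haveILetI false

/-! The involution centraliser of `Th`; all automorphisms are inner. -/

namespace Cfsg.Agent.ThO

open Cfsg.Agent.CGT Equiv

theorem γc0 : γc 0 = δ 0 := w0 _

theorem PP_C0 : PP ≤ C0 γc := gp_le fun a ha => by
  have c : ∀ a ∈ [0, 2, 4, 6, 8, 10], expand (dbl WP) [a] = expand (dbl WC) [a] ∧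
      a ∈ [0, 2, 4, 6, 8, 10, 12] := by decide +kernel
  rw [← ev_singleton (ext γp), ← ev_expand_dbl, (c a ha).1, ev_expand_dbl, ev_singleton]
  exact ext_mem_gp _ (c a ha).2

theorem hy : Hy γc := by
  have S := eqG_snd.wg WC
  have S2 := q2_snd.wg WC
  have c1 : ∀ j < 6, eqG (expand (dbl WC) [0, 2 * j]) (expand (dbl WC) [2 * j, 0]) = true := by
    decide +kernel
  have c2 : ∀ j < 6, List.Forall₂ (fun w i => eqG (expand (dbl WC) (2 * j :: w ++ [2 * j + 1]))
      (expand (dbl WC) (Ew i)) = true) GW (nth [] ims j) := by decide +kernel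
  refine ⟨fun _ hj => wg_of_le _ hj, fun e => ρ_a_ne (by rw [← γc0, e, map_one]),
    S.cl (by decide +kernel) (by decide +kernel) (by decide +kernel), hRC, fun j => ?_, fun j hj => ?_,
    Bd.step (lc_fin hRC fun u hu => ?_) cnt_H.2.2 (by norm_num)⟩
  · rcases lt_trichotomy j 6 with hj | rfl | hj
    · exact S.cen j (c1 j hj)
    · exact S2.cen 6 cen6
    · rw [show γc j = 1 from wg_of_le _ hj]; exact Commute.one_right _
  · rcases lt_trichotomy j 6 with hj | rfl | hj
    · exact S.act j (c2 j hj)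
    · exact S2.act 6 act6
    · omega
  · have c : ∀ u ∈ lc_S0, expand (dbl WC) u = expand (dbl WP) u ∧ wordIn [0, 2, 4, 6, 8, 10] u = true := by
      decide +kernel
    rw [← ev_expand_dbl, (c u hu).1, ev_expand_dbl]
    exact wordIn_sound _ (c u hu).2

noncomputable abbrev XX : Ctx ThL.K Th PUnit := Dce.ctx0.{0, 0, 0} φ ThL.γ σ (δ 7) HH

theorem e14 : ext δ 14 = δ 7 := ext_two_mul δ 7

theorem XX_s (w : List ℕ) : XX.s w = ev (ext δ) (xp w) := σ_ev w

theorem σ_mem (h : ThL.K) : σ h ∈ HH := by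
  obtain ⟨w, -, rfl⟩ := exists_word (ThL.gen_top ▸ Subgroup.mem_top h)
  rw [σ_ev, xp, ev_expand_dbl]
  exact wg_mem (by decide +kernel) w

theorem zs_eq {xs ys : List (List ℕ)} (h : List.Forall₂ (fun x y => eqG (xp x) y = true) xs ys) :
    XX.zs xs = ev (ext δ) (Z ys) := by
  induction h with
  | nil => rfl
  | cons h _ ih =>
    rw [Ctx.zs, ih, XX_s, eqG_snd _ _ h, Z, Z, List.flatMap_cons, ev_append, ev_cons, e14]; rfl

theorem push0 (w : List ℕ) : ev (ext δ) (expand (dbl LW0) w) * δ 7 = δ 7 * ev (ext δ) (expand (dbl TW0) w) := by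
  have e : ∀ j, (MulAut.conj (δ 7)).toMonoidHom (wg δ TW0 j) = wg δ LW0 j := fun j => by
    by_cases hj : j < 7
    · have := q2_snd _ _ (pu_all j hj)
      rw [ev_append, ev_singleton, ev_cons, e14] at this
      exact mul_inv_eq_iff_eq_mul.2 this.symm
    · rw [wg_of_le _ (not_lt.1 hj), wg_of_le _ (not_lt.1 hj), map_one]
  rw [ev_expand_dbl, ev_expand_dbl, ← funext e, ← map_ev_ext]
  exact inv_mul_cancel_right _ _

theorem hyp : ThL.dd.Hyp XX ThL.m_ns := by
  have C := ThL.cert.choose_spec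
  have ht : ∀ v, XX.τ v = 1 := fun _ => rfl
  refine ⟨C.M, C.base, by decide +kernel, fun _ _ => by simp [Dce.ctx0], σ_mem, ?_, fun j => ?_,
    fun i => ?_, fun i hi => absurd hi List.not_mem_nil⟩
  · have := q2_snd _ _ (zr_all 17 (by norm_num))
    rw [← zs_eq (xs := [ThL.dd.P, ThL.dd.Q]) (by decide +kernel)] at this
    rw [ht, mul_one, show XX.s ThL.dd.P = 1 from XX.s_nil, one_mul, inv_eq_iff_mul_eq_one]
    simpa [Ctx.zs, show XX.s ThL.dd.P = 1 from XX.s_nil] using this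
  · rw [ht, mul_one]
    by_cases hj : j < 8
    · have c : ∀ j < 8, eqG (xp (nth [] ThL.dd.LW j)) (expand (dbl LW0) (nth [] LL j)) = true ∧
          eqG (xp (nth [] ThL.dd.TW j)) (expand (dbl TW0) (nth [] LL j)) = true := by decide +kernel
      have := push0 (nth [] LL j)
      rw [← eqG_snd _ _ (c j hj).1, ← eqG_snd _ _ (c j hj).2, ← σ_ev, ← σ_ev] at this
      exact this
    · rw [wg_of_le _ (not_lt.1 hj), wg_of_le _ (not_lt.1 hj), map_one, one_mul, mul_one]
  · rw [ht]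
    by_cases hi : i < 18
    · have c : ∀ i < 18, List.Forall₂ (fun x y => eqG (xp x) y = true) (nth [] ThL.dd.R i)
          (nth [] R0 i) := by decide +kernel
      rw [zs_eq (c i hi)]
      exact q2_snd _ _ (zr_all i hi)
    · rw [nth_eq, List.getD_eq_default _ _ (not_lt.1 hi)]; rfl

theorem gen8 : gp δ [0, 2, 4, 6, 8, 10, 12, 14] = ⊤ := pres_gen gens_all _ _ (by decide +kernel)

theorem cover (g : Th) : ThL.dd.InX XX [0, 1, 2, 3, 4, 5, 6, 7, 8, 9, 10] g := by
  have C := ThL.cert.choose_spec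
  have hA : ∀ a, XX.ι a ∈ XX.H := fun _ => HH.one_mem
  refine Dce.all_inX hyp hA (by decide) (ThL.dd_all hyp hA (ThL.stab C) C.orbit0.2) (gp_le fun a ha => ?_)
    (gen8 ▸ Subgroup.mem_top g)
  have c : ∀ a ∈ [0, 2, 4, 6, 8, 10, 12, 14], a = 14 ∨ xp [a] = [a] := by decide +kernel
  rcases c a ha with rfl | e
  · exact Subgroup.subset_closure (Or.inr e14)
  · exact Subgroup.subset_closure (Or.inl ⟨_, (σ_ev [a]).trans (by rw [e, ev_singleton])⟩)

noncomputable def Ww : ℕ → ℕ → List ℕ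
  | 0, _ => []
  | f + 1, n => (fun F : Fct => if F.a < n then
      invW (if F.j then xp F.p ++ 14 :: xp F.q else xp F.p) ++ Ww f F.a else [])
    (ThL.dd.F.get (nth 0 ThL.dd.df n))

theorem W_eq {f n : ℕ} (h : n ≤ f) : ThL.dd.W XX n = ev (ext δ) (Ww f n) := by
  induction f generalizing n with
  | zero => rw [Nat.le_zero.1 h, Dce.W_zero]; rfl
  | succ f ih =>
    rw [Dce.W, Ww]
    beta_reduce
    split_ifs with h1 h2
    · rw [ev_append, ev_invW, ← ih (by omega), Ctx.g, if_pos h2, XX_s, XX_s, ev_append, ev_cons, e14,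
        mul_assoc]
      rfl
    · rw [ev_append, ev_invW, ← ih (by omega), Ctx.g, if_neg h2, XX_s]
    · rfl

theorem cent_G (g : Th) (hg : Commute (γc 0) g) : g ∈ C0 γc := by
  rw [γc0] at hg
  obtain ⟨d, hd, h, h1⟩ := cover g
  have c : ∀ d ∈ [0, 1, 2, 3, 4, 5, 6, 7, 8, 9, 10], d < 11 ∧ Ww 10 d = nth [] NW d := by decide +kernel
  rw [W_eq (f := 10) (by have := (c d hd).1; omega), (c d hd).2] at h1
  change (σ h * _)⁻¹ * g ∈ HH at h1
  obtain ⟨i, hi, p, hp, e⟩ := cnt_H.2.1 _ (σ_mem h)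
  obtain ⟨j, hj, p', hp', e'⟩ := cnt_H.2.1 _ (inv_mem h1)
  rw [e] at h1 e'
  have key : ∃ c ∈ C0 γc, c⁻¹ * (kk i * ev (ext δ) (nth [] NW d)) ∈ HH := by
    by_cases h0 : d = 0
    · subst h0
      exact ⟨1, one_mem _, by simpa [NW, nth] using wg_mem (W := WK) (by decide +kernel) (kw i)⟩
    have t := tst_kk (nd_all d (c d hd).1 h0) hi
    rw [show kk i * ev (ext δ) (nth [] NW d) = (p⁻¹ * g * p') * kk j by
      rw [mul_assoc _ p', ← e']; group, map_mul,
      vv_inv ((((PP_comm hp).inv_right).mul_right hg).mul_right (PP_comm hp'))] at t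
    have t2 := vv_kk hj
    simp only [tst1, Bool.or_eq_true, Bool.not_eq_true', ← Bool.not_eq_true, Nat.beq_eq] at t
    have t3 := memL_sound (t.resolve_left fun h => h (by rw [t2]; show _ / 1024 = _; omega))
    have c2 : ∀ d < 11, ∀ i ∈ nth [] alw d, inC (nth [] NW d) = true ∧
        (fun w => memC w || memD w) (invW (nth [] NW d) ++ (expand (dbl WK) (kw i) ++ nth [] NW d)) = true := by
      decide +kernel
    obtain ⟨c3, c4⟩ := c2 d (c d hd).1 i t3
    refine ⟨ev (ext δ) (nth [] NW d), ?_, ?_⟩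
    · rw [← beqL_sound c3, ev_expand_dbl]; exact hy.ev_mem _
    · have := (Bool.or_eq_true _ _ ▸ c4 : _ ∨ _).elim memC_sound memD_sound
      rwa [ev_append, ev_append, ev_invW, ev_expand_dbl] at this
  obtain ⟨c, hc, h2⟩ := key
  have h3 := mul_mem h2 h1
  rw [show c⁻¹ * (kk i * ev (ext δ) (nth [] NW d)) * ((p * kk i * ev (ext δ) (nth [] NW d))⁻¹ * g) =
    c⁻¹ * (p⁻¹ * g) by group] at h3
  have h4 := PP_C0 (cent_H h3 ((γc0 ▸ hy.comm hc).inv_right.mul_right
    ((PP_comm hp).inv_right.mul_right hg)))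
  exact ((C0 γc).mul_mem_cancel_left (inv_mem (PP_C0 hp))).1 (((C0 γc).mul_mem_cancel_left (inv_mem hc)).1 h4)

theorem out : Nat.card (Cfsg.Out Th) = 1 := by
  haveI := ThL.cert.choose_spec.fin
  haveI : Finite XX.H := bdH.1
  haveI : Finite Th := Dce.finite_of_inX cover
  have e1 : γc 1 = ev (ext δ) [4] := rfl
  have f2 : ev (ext δ) [2, 0, 4, 2] * ev (ext δ) [2, 0, 4, 2] = 1 := by
    rw [← ev_append]; exact eqG_snd _ [] (by decide +kernel)
  have fa : ev (ext δ) [2, 0, 4, 2] * γc 0 * (ev (ext δ) [2, 0, 4, 2])⁻¹ = γc 1 := by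
    rw [e1, ← ev_invW, show γc 0 = ev (ext δ) [0] from rfl, ← ev_append, ← ev_append]
    exact eqG_snd _ _ (by decide +kernel)
  refine hy.out cent_G f2 fa (fun y hy' => cent_G _ ?_) fun H h1 h2 => ?_
  · have c2 : ∀ y ∈ [1, 6, 10, 18, 34, 66, 130], hm 1 y = hm y 1 := by decide +kernel
    have h1 : Commute (γc 1) (EE γc y) := by
      rw [← hy.E1, Commute, SemiconjBy, hy.mul, hy.mul, c2 y hy']
    have h2 := h1.map (MulAut.conj (ev (ext δ) [2, 0, 4, 2]))
    rwa [← fa, MulAut.conj_apply, MulAut.conj_apply, ← mul_assoc, ← mul_assoc, f2, one_mul, mul_assoc,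
      ← mul_inv_rev, f2, inv_one, mul_one] at h2
  · rw [eq_top_iff, ← gen8]
    refine gp_le fun a ha => ?_
    have c : ∀ a ∈ [0, 2, 4, 6, 8, 10, 12, 14], a = 2 ∨ inC [a] = true := by decide +kernel
    have m : ∀ w, inC w = true → ev (ext δ) w ∈ H := fun w hw => by
      rw [← beqL_sound hw, ev_expand_dbl]; exact h1 (hy.ev_mem _)
    rw [← ev_singleton (ext δ)]
    rcases c a ha with rfl | e
    · rw [eqG_snd [2] ([4, 6] ++ ([2, 0, 4, 2] ++ ([6] ++ ([2, 0, 4, 2] ++ ([6] ++ ([2, 0, 4, 2] ++ [6, 4]))))))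
        (by decide +kernel)]
      simp only [ev_append]
      exact mul_mem (m _ (by decide +kernel)) (mul_mem h2 (mul_mem (m _ (by decide +kernel)) (mul_mem h2
        (mul_mem (m _ (by decide +kernel)) (mul_mem h2 (m _ (by decide +kernel)))))))
    · exact m _ e

end Cfsg.Agent.ThO
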