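import Cfsg.Agent.ThO.CDat

set_option autoImplicit false
set_option maxRecDepth 100000
set_option linter.style.haveILetI false

/-! The involution centraliser `2^(1+8).A₉` acting on its normal extraspecial subgroup. -/

namespace Cfsg.Agent.ThO

open Cfsg.Agent.CGT Equiv

variable {G : Type*} [Group G]

noncomputable abbrev gs (γ : ℕ → G) : List G := GW.map (ev (ext γ))
noncomputable abbrev EE (γ : ℕ → G) (x : ℕ) : G := E (γ 0) (gs γ) x
abbrev C0 (γ : ℕ → G) : Subgroup G := gp γ [0, 2, 4, 6, 8, 10, 12]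
noncomputable abbrev A (w : List ℕ) (i : ℕ) : ℕ := ap 9 511 m_ts w i
noncomputable def blk (x : ℕ) : ℕ := field 4 15 blkT (Nat.mod x 256)

theorem gs_len (γ : ℕ → G) : (gs γ).length = 8 := List.length_map _

structure Hy (γ : ℕ → G) : Prop where
  one : ∀ j, 7 ≤ j → γ j = 1
  ne : γ 0 ≠ 1
  cl : Cl (γ 0) (gs γ)
  rel : Holds (ext γ) RC
  cen : ∀ j, Commute (γ 0) (γ j)
  act : ∀ j < 7, List.Forall₂ (fun g i => MulAut.conj (γ j) g = EE γ i) (gs γ) (nth [] ims j)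
  card : Bd (C0 γ) 92897280

theorem le_card' {φ : G →* Perm ℕ} {K : Subgroup G} [Finite K] {k : ℕ} {F : List ℕ}
    {ls : List Level} (h : ChainSound φ K k F ls) :
    chainCard ls * Nat.card (St φ K (chainBase F ls)) ≤ Nat.card (St φ K F) := by
  induction ls generalizing F with
  | nil => exact (one_mul _).le
  | cons l ls ih =>
    rw [card_St φ K l.b F]
    exact (mul_assoc _ _ _).trans_le (Nat.mul_le_mul h.1.le_ncard.2.1 (ih h.2))

theorem gp_sub_top (γ : ℕ → G) (L : List ℕ) (h : ∀ j, γ j ∈ gp γ L) :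
    gp (fun j => (⟨γ j, h j⟩ : gp γ L)) L = ⊤ := by
  rw [eq_top_iff]
  rintro ⟨x, hx⟩ -
  have : gp γ L ≤ (gp (fun j => (⟨γ j, h j⟩ : gp γ L)) L).map (gp γ L).subtype :=
    gp_le fun a ha => ⟨_, ext_mem_gp _ ha, map_ext (gp γ L).subtype _ a⟩
  obtain ⟨y, hy, e⟩ := this hx
  exact (Subtype.ext e : y = ⟨x, hx⟩) ▸ hy

variable {γ : ℕ → G}

theorem Hy.mem (h : Hy γ) (j : ℕ) : γ j ∈ C0 γ := by
  by_cases hj : j < 7
  · have := ext_mem_gp γ (L := [0, 2, 4, 6, 8, 10, 12]) (a := 2 * j) (by interval_cases j <;> simp)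
    rwa [ext_two_mul] at this
  · rw [h.one j (by omega)]; exact one_mem _

theorem Hy.ev_mem (h : Hy γ) (w : List ℕ) : ev (ext γ) w ∈ C0 γ :=
  CGT.ev_mem _ _ _ fun _ _ => ext_mem (h.mem _)

theorem Hy.E_mem (h : Hy γ) (x : ℕ) : EE γ x ∈ C0 γ :=
  ThO.E_mem (h.mem 0) (fun g hg => by obtain ⟨w, -, rfl⟩ := List.mem_map.1 hg; exact h.ev_mem w) x

theorem Hy.comm (h : Hy γ) {g : G} (hg : g ∈ C0 γ) : Commute (γ 0) g :=
  Subgroup.mem_centralizer_singleton_iff.1 (gp_le (H := Subgroup.centralizer {γ 0})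
    (fun _ _ => ext_mem (Subgroup.mem_centralizer_singleton_iff.2 (h.cen _).symm)) hg) |>.symm

theorem Hy.inj (h : Hy γ) {x y : ℕ} (hx : x < 512) (hy : y < 512) (e : EE γ x = EE γ y) : x = y :=
  h.cl.inj (gs_len γ) h.ne hx hy e

theorem Hy.mul (h : Hy γ) (x y : ℕ) : EE γ x * EE γ y = EE γ (hm x y) := h.cl.mul (gs_len γ) x y

theorem A_eq (w : List ℕ) {i : ℕ} (hi : i < 512) : A w i = ev (lp m_ns) w i :=
  ap_eq m_v m_ts_ok w hi

theorem A_lt (w : List ℕ) {i : ℕ} (hi : i < 512) : A w i < 512 := by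
  rw [A_eq w hi]; exact bddPerm_lt (ev_lp_mem m_v w) hi

theorem Hy.model (h : Hy γ) : ∃ φ : C0 γ →* Perm ℕ,
    Model φ (fun j => ⟨γ j, h.mem j⟩) 9 m_ns m_ts ∧
      ∀ g, φ g ∈ bddPerm 512 ∧ ∀ i < 512, (g : G) * EE γ i * (g : G)⁻¹ = EE γ (φ g i) := by
  have c : (allLt 7 fun j => allLt 512 fun i =>
      Nat.beq (A [Nat.mul 2 j] i) (actx (nth [] ims j) i)) = true := by decide +kernel
  obtain ⟨φ, h1, h2⟩ := exists_hom_rel (gp_sub_top γ _ h.mem) (N := 512) (p := netPerm m_ns)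
    (fun g i j => (g : G) * EE γ i * (g : G)⁻¹ = EE γ j) (fun _ _ => by simp)
    (fun x y i j l _ _ _ e1 e2 => by rw [← e2, ← e1, Subgroup.coe_mul]; group)
    (fun x i j _ _ e => by rw [← e, Subgroup.coe_inv]; group)
    (fun i j hi hj e => h.inj hi hj (by simpa using e))
    (fun j => by have := lp_mem m_v (2 * j); rwa [CGT.lp, ext_two_mul] at this)
    (fun j i hi => by
      by_cases hj : j < 7
      · have c1 : A [2 * j] i = actx (nth [] ims j) i :=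
          Nat.eq_of_beq_eq_true (allLt_iff.1 (allLt_iff.1 c j hj) i hi)
        rw [A_eq _ hi, ev_singleton, CGT.lp, ext_two_mul] at c1
        rw [c1]
        exact h.cl.map (gs_len γ) (MulAut.conj (γ j))
          (by rw [MulAut.conj_apply, ← (h.cen j).eq, mul_inv_cancel_right]) (h.act j hj) i
      · rw [netPerm_of_le m_ns (show 7 ≤ j by omega)]
        simp [h.one j (by omega)])
  exact ⟨φ, ⟨m_v, h1, m_ts_ok⟩, h2⟩

theorem Hy.cw (h : Hy γ) (w : List ℕ) {i : ℕ} (hi : i < 512) :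
    ev (ext γ) w * EE γ i * (ev (ext γ) w)⁻¹ = EE γ (A w i) := by
  obtain ⟨φ, M, h2⟩ := h.model
  have := (h2 (ev (ext fun j => ⟨γ j, h.mem j⟩) w)).2 i hi
  rw [M.map_ev', ← A_eq w hi] at this
  have e : ((ev (ext fun j => (⟨γ j, h.mem j⟩ : C0 γ)) w : C0 γ) : G) = ev (ext γ) w := by
    refine (map_ev _ (C0 γ).subtype w).trans ?_
    congr 1; funext a; exact map_ext (C0 γ).subtype _ a
  rwa [e] at this

theorem Hy.cm (h : Hy γ) {g : G} (hg : g ∈ C0 γ) {i : ℕ} (hi : i < 512) :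
    ∃ j < 512, g * EE γ i * g⁻¹ = EE γ j := by
  obtain ⟨φ, -, h2⟩ := h.model
  exact ⟨_, bddPerm_lt (h2 ⟨g, hg⟩).1 hi, (h2 ⟨g, hg⟩).2 i hi⟩

theorem Hy.cent (h : Hy γ) : Nat.card (C0 γ) = 92897280 ∧
    ∀ g ∈ C0 γ, (∀ i < 512, g * EE γ i * g⁻¹ = EE γ i) → g = 1 ∨ g = γ 0 := by
  obtain ⟨φ, M, h2⟩ := h.model
  haveI := h.card.1
  have h3 := c_sound M
  rw [gp_sub_top γ _ h.mem] at h3
  have h4 := le_card' h3
  rw [St_nil, Subgroup.card_top, show chainCard c_ls = 46448640 by decide +kernel] at h4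
  have h5 := h.card.2
  have hb : ∀ b ∈ chainBase [] c_ls, b < 512 := by decide +kernel
  have key : ∀ g (hg : g ∈ C0 γ), (∀ i < 512, g * EE γ i * g⁻¹ = EE γ i) →
      (⟨g, hg⟩ : C0 γ) ∈ St φ ⊤ (chainBase [] c_ls) := fun g hg e => ⟨trivial, fun b hb' =>
    h.inj (bddPerm_lt (h2 _).1 (hb b hb')) (hb b hb')
      (((h2 ⟨g, hg⟩).2 b (hb b hb')).symm.trans (e b (hb b hb')))⟩
  have ha := key _ (h.mem 0) fun i _ => by rw [(h.cl.commute i).eq, mul_inv_cancel_right]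
  generalize St φ ⊤ (chainBase [] c_ls) = S at *
  have hn : (⟨_, ha⟩ : S) ≠ 1 := fun e => h.ne (congrArg (fun x : S => (x.1.1 : G)) e)
  haveI : Nontrivial S := ⟨_, _, hn⟩
  have h6 : 1 < Nat.card S := Finite.one_lt_card
  refine ⟨by omega, fun g hg e => ?_⟩
  obtain ⟨y, -, hy⟩ := (Nat.card_eq_two_iff' (1 : S)).1 (by omega)
  by_cases h7 : (⟨_, key g hg e⟩ : S) = 1
  · exact Or.inl (congrArg (fun x : S => (x.1.1 : G)) h7)
  · exact Or.inr (congrArg (fun x : S => (x.1.1 : G)) ((hy _ h7).trans (hy _ hn).symm))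

theorem Hy.orb (h : Hy γ) : (∀ j, c_l0.O.testBit j = true → ∃ g ∈ C0 γ, g * EE γ 1 * g⁻¹ = EE γ j) ∧
    ∀ j, o2.O.testBit j = true → ∃ g ∈ C0 γ, g * EE γ 3 * g⁻¹ = EE γ j := by
  obtain ⟨φ, M, h2⟩ := h.model
  refine ⟨fun j hj => ?_, fun j hj => ?_⟩
  · obtain ⟨x, -, e⟩ := (c_sound M).1.2.1 j hj
    exact ⟨x, x.2, e ▸ (h2 x).2 1 (by norm_num)⟩
  · obtain ⟨x, -, e⟩ := (Level.ok_sound' M o2_ok).2.1 j hj
    exact ⟨x, x.2, e ▸ (h2 x).2 3 (by norm_num)⟩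

theorem Hy.blk (h : Hy γ) {g : G} (hg : g ∈ C0 γ) {i i' j j' n n' : ℕ} (hi : i < 512) (hi' : i' < 512)
    (e : g * EE γ i * g⁻¹ = EE γ j * γ 0 ^ n) (e' : g * EE γ i' * g⁻¹ = EE γ j' * γ 0 ^ n')
    (hb : blk i = blk i') : blk j = blk j' := by
  have c : (allLt 14 fun a => allLt 512 fun i =>
      Nat.beq (ThO.blk (A [a] i)) (nth 0 (nth [] pis a) (ThO.blk i))) = true := by decide +kernel
  obtain ⟨w, hw, rfl⟩ := exists_word hg
  rw [h.cw w hi] at e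
  rw [h.cw w hi'] at e'
  have e1 : ThO.blk (A w i) = ThO.blk j :=
    congrArg (field 4 15 blkT) (h.cl.mod_eq (gs_len γ) h.ne e)
  have e2 : ThO.blk (A w i') = ThO.blk j' :=
    congrArg (field 4 15 blkT) (h.cl.mod_eq (gs_len γ) h.ne e')
  rw [← e1, ← e2]
  clear e e' e1 e2 hg
  induction w with
  | nil => exact hb
  | cons a w ih =>
    have ha : a < 14 := by
      rcases hw a (by simp) with h1 | h1
      · simp at h1; omega
      · have : a = (a ^^^ 1) ^^^ 1 := by simp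
        simp only [List.mem_cons, List.not_mem_nil, or_false] at h1
        rcases h1 with h1 | h1 | h1 | h1 | h1 | h1 | h1 <;> rw [this, h1] <;> decide
    have c1 := allLt_iff.1 (allLt_iff.1 c a ha)
    have e : ∀ i < 512, A (a :: w) i = A [a] (A w i) := fun i hi => by
      rw [A_eq _ (A_lt w hi), A_eq _ hi, A_eq _ hi, ev_cons, ev_singleton, Perm.mul_apply]
    rw [e i hi, e i' hi', Nat.eq_of_beq_eq_true (c1 _ (A_lt w hi)),
      Nat.eq_of_beq_eq_true (c1 _ (A_lt w hi')), ih fun b hb => hw b (by simp [hb])]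

end Cfsg.Agent.ThO
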