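import Cfsg.Agent.ThO.Abs
import Cfsg.Agent.CGT.OutAbs

set_option autoImplicit false
set_option maxRecDepth 100000
set_option linter.style.haveILetI false

/-! Normalising an automorphism: it may be assumed to fix `a`, `s` and to normalise `Q`. -/

namespace Cfsg.Agent.ThO

open Cfsg.Agent.CGT Equiv Pointwise

variable {G : Type*} [Group G] {γ : ℕ → G}

def cj (g : G) (α : MulAut G) : MulAut G := MulAut.conj g * α

theorem cj_apply (g : G) (α : MulAut G) (x : G) : cj g α x = g * α x * g⁻¹ := rfl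

def Inn (α : MulAut G) : Prop := ∃ g, cj g α = 1

theorem Inn.of {g : G} {α : MulAut G} (h : Inn (cj g α)) : Inn α := by
  obtain ⟨k, hk⟩ := h
  exact ⟨k * g, by rw [cj, map_mul, mul_assoc]; exact hk⟩

theorem Hy.r (h : Hy γ) {r : List ℕ} (hr : memLL r RC = true) : ev (ext γ) r = 1 :=
  h.rel r (memLL_sound hr)

theorem Hy.E256 (_h : Hy γ) : EE γ 256 = γ 0 := E_256 (gs_len γ)

theorem Hy.E1 (_h : Hy γ) : EE γ 1 = γ 1 := by
  simp [EE, E, Ec, gs, GW, CGT.ext, Ec_zero]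

theorem Hy.Eadd (_h : Hy γ) (x n : ℕ) : EE γ (x + 256 * n) = EE γ x * γ 0 ^ n := E_add (gs_len γ) x n

noncomputable abbrev Hy.Q (h : Hy γ) : Subgroup G := h.cl.Q (gs_len γ)

theorem Hy.E_Q (h : Hy γ) (x : ℕ) : EE γ x ∈ h.Q := by
  have e := h.mul x 0
  rw [show EE γ 0 = 1 from E_zero, mul_one] at e
  exact ⟨_, hm_lt x 0, e.symm⟩

theorem Hy.a_Q (h : Hy γ) : γ 0 ∈ h.Q := h.E256 ▸ h.E_Q 256

theorem Hy.step1 (h : Hy γ) [Finite G] (hC : ∀ g, Commute (γ 0) g → g ∈ C0 γ) (α : MulAut G) :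
    ∃ g, cj g α (γ 0) = γ 0 := by
  haveI : Fact (Nat.Prime 2) := ⟨Nat.prime_two⟩
  have hQ : IsPGroup 2 h.Q := IsPGroup.of_card (n := 9) (h.cl.card_Q (gs_len γ) h.ne)
  obtain ⟨S, hS⟩ := hQ.exists_le_sylow
  obtain ⟨g, hg⟩ := MulAction.exists_smul_eq G (α • S) S
  have key : ∀ z : G, z ≠ 1 → (∀ y ∈ (S : Subgroup G), y * z = z * y) → z = γ 0 := fun z h1 h2 => by
    have h3 := h.cent.2 z (hC z (h2 _ (hS h.a_Q))) fun i _ => by
      rw [← h2 _ (hS (h.E_Q i)), mul_inv_cancel_right]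
    tauto
  haveI : Nontrivial S := ⟨⟨_, hS h.a_Q⟩, 1, fun e => h.ne (congrArg Subtype.val e)⟩
  haveI := S.isPGroup'.center_nontrivial
  obtain ⟨⟨z, hz⟩, hz1⟩ := exists_ne (1 : Subgroup.center S)
  have ez : z.1 = γ 0 := key z (fun e => hz1 (Subtype.ext (Subtype.ext e))) fun y hy =>
    congrArg Subtype.val (Subgroup.mem_center_iff.1 hz ⟨y, hy⟩)
  have e : cj g α • (S : Subgroup G) = S := by
    rw [cj, mul_smul]; exact congrArg Sylow.toSubgroup hg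
  have hm : ∀ x, cj g α x ∈ (S : Subgroup G) → x ∈ (S : Subgroup G) := fun x hx => by
    rw [← e] at hx
    exact Subgroup.smul_mem_pointwise_smul_iff.1 hx
  refine ⟨g, key _ (fun e => h.ne ((map_eq_one_iff _ (MulEquiv.injective _)).1 e)) fun y hy => ?_⟩
  obtain ⟨x, rfl⟩ := (cj g α).surjective y
  rw [← map_mul, ← map_mul, ← ez]
  exact congrArg _ (congrArg Subtype.val (Subgroup.mem_center_iff.1 hz ⟨x, hm x hy⟩))

theorem Hy.map_mem (h : Hy γ) (hC : ∀ g, Commute (γ 0) g → g ∈ C0 γ) {α : MulAut G}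
    (ha : α (γ 0) = γ 0) {g : G} (hg : g ∈ C0 γ) : α g ∈ C0 γ :=
  hC _ (ha ▸ (h.comm hg).map α)

theorem cj_fix {g x : G} {α : MulAut G} (h : Commute x g) (e : α x = x) : cj g α x = x := by
  rw [cj_apply, e, ← h.eq, mul_inv_cancel_right]

theorem Hy.s7 (h : Hy γ) : γ 4 ^ 7 = 1 := by
  have := h.r (r := [8, 8, 8, 8, 8, 8, 8]) (by decide +kernel)
  simpa [CGT.ext, pow_succ, mul_assoc] using this

theorem Hy.cs (h : Hy γ) {i : ℕ} (hi : i < 512) : γ 4 * EE γ i * (γ 4)⁻¹ = EE γ (A [8] i) := by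
  simpa [CGT.ext] using h.cw [8] hi

theorem Hy.step2 (h : Hy γ) (hC : ∀ g, Commute (γ 0) g → g ∈ C0 γ) {α : MulAut G}
    (ha : α (γ 0) = γ 0) : ∃ g, cj g α (γ 0) = γ 0 ∧ cj g α (γ 4) = γ 4 := by
  haveI := h.card.1
  haveI : Fact (Nat.Prime 7) := ⟨by norm_num⟩
  have h1 : γ 4 ≠ 1 := fun e => by
    have := h.cs (i := 4) (by norm_num)
    rw [e, show A [8] 4 = 8 by decide +kernel, one_mul, inv_one, mul_one] at this
    exact absurd (h.inj (by norm_num) (by norm_num) this) (by norm_num)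
  have h2 : orderOf (γ 4) = 7 := orderOf_eq_prime h.s7 h1
  obtain ⟨⟨g, hg⟩, k, k0, k7, e⟩ := exists_conj_pow (G := C0 γ) (p := 7) (by norm_num)
    (by rw [h.cent.1]; norm_num) (x := ⟨γ 4, h.mem 4⟩) (z := ⟨α (γ 4), h.map_mem hC ha (h.mem 4)⟩)
    (by rw [← Subgroup.orderOf_coe, h2]) (by rw [← Subgroup.orderOf_coe, α.orderOf_eq, h2])
  have e' : g * α (γ 4) * g⁻¹ = γ 4 ^ k := congrArg Subtype.val e
  have r1 := h.r (r := [8, 4, 8, 4]) (by decide +kernel)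
  have r2 := h.r (r := [4, 4]) (by decide +kernel)
  have r3 := h.r (r := [11, 8, 10, 9, 9]) (by decide +kernel)
  simp only [ev_cons, ev_nil, CGT.ext, mul_one] at r1 r2 r3
  norm_num at r1 r2 r3
  have hy : ((γ 5)⁻¹ * γ 2) * γ 4 * ((γ 5)⁻¹ * γ 2)⁻¹ = γ 4 ^ 5 := by
    have e1 : (γ 2)⁻¹ = γ 2 := inv_eq_of_mul_eq_one_right r2
    have e2 : γ 2 * (γ 4 * γ 2) = (γ 4)⁻¹ := eq_inv_of_mul_eq_one_right r1
    have e3 : (γ 5)⁻¹ * γ 4 * γ 5 = γ 4 ^ 2 := by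
      rw [← mul_inv_eq_one, ← r3]; group
    calc _ = (γ 5)⁻¹ * (γ 2 * (γ 4 * (γ 2)⁻¹)) * γ 5 := by group
      _ = ((γ 5)⁻¹ * γ 4 * γ 5)⁻¹ := by rw [e1, e2]; group
      _ = (γ 4 ^ 2)⁻¹ * γ 4 ^ 7 := by rw [e3, h.s7, mul_one]
      _ = _ := by group
  obtain ⟨m, hm⟩ : ∃ m, (k * 5 ^ m) % 7 = 1 := by
    interval_cases k
    exacts [⟨0, rfl⟩, ⟨2, rfl⟩, ⟨1, rfl⟩, ⟨4, rfl⟩, ⟨5, rfl⟩, ⟨3, rfl⟩]
  refine ⟨((γ 5)⁻¹ * γ 2) ^ m * g, cj_fix (h.comm (mul_mem (pow_mem (mul_mem (inv_mem (h.mem 5))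
    (h.mem 2)) m) hg)) ha, ?_⟩
  rw [cj_apply, mul_inv_rev, mul_assoc, mul_assoc, ← mul_assoc (α _), ← mul_assoc g, ← mul_assoc g, e',
    ← mul_assoc, conj_pow_iter hy, pow_eq_pow_mod _ h.s7, hm, pow_one]

theorem Hy.Q_le (h : Hy γ) {N : Subgroup G} (ha : γ 0 ∈ N) (hg : ∀ i < 8, EE γ (2 ^ i) ∈ N) (x : ℕ) :
    EE γ x ∈ N := ThO.E_mem ha (gen_mem (gs_len γ) hg) x

theorem Hy.step3 (h : Hy γ) [Finite G] (hC : ∀ g, Commute (γ 0) g → g ∈ C0 γ) {α : MulAut G}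
    (ha : α (γ 0) = γ 0) (x : ℕ) : α (EE γ x) ∈ h.Q := by
  have hi : α⁻¹ (γ 0) = γ 0 := by rw [MulAut.inv_apply, MulEquiv.symm_apply_eq, ha]
  let N := h.Q.map α.toMonoidHom
  have aN : γ 0 ∈ N := ⟨_, h.a_Q, ha⟩
  have nN : ∀ g ∈ C0 γ, ∀ n ∈ N, g * n * g⁻¹ ∈ N := by
    rintro g hg _ ⟨_, ⟨i, hi', rfl⟩, rfl⟩
    obtain ⟨j, -, e⟩ := h.cm (h.map_mem hC hi hg) hi'
    refine ⟨_, h.E_Q j, ?_⟩
    have := congrArg α e
    simpa using this.symm
  suffices N ≤ h.Q from this ⟨_, h.E_Q x, rfl⟩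
  by_cases hx : ∃ x < 512, x % 256 ≠ 0 ∧ EE γ x ∈ N
  · obtain ⟨x, x1, x2, x3⟩ := hx
    have k1 : ∀ j, c_l0.O.testBit j = true → (EE γ j ∈ N ↔ EE γ 1 ∈ N) := fun j hj => by
      obtain ⟨g, hg, e⟩ := h.orb.1 j hj
      refine ⟨fun hn => ?_, fun hn => e ▸ nN g hg _ hn⟩
      have := nN _ (inv_mem hg) _ hn
      rwa [← e, show g⁻¹ * (g * EE γ 1 * g⁻¹) * g⁻¹⁻¹ = EE γ 1 by group] at this
    have k2 : ∀ j, o2.O.testBit j = true → (EE γ j ∈ N ↔ EE γ 3 ∈ N) := fun j hj => by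
      obtain ⟨g, hg, e⟩ := h.orb.2 j hj
      refine ⟨fun hn => ?_, fun hn => e ▸ nN g hg _ hn⟩
      have := nN _ (inv_mem hg) _ hn
      rwa [← e, show g⁻¹ * (g * EE γ 3 * g⁻¹) * g⁻¹⁻¹ = EE γ 3 by group] at this
    have c : (allLt 512 fun x => Nat.beq (Nat.mod x 256) 0 || (c_l0.O.testBit x || o2.O.testBit x))
      = true := by decide +kernel
    have c1 := allLt_iff.1 c x x1
    simp only [Bool.or_eq_true, Nat.beq_eq] at c1
    have k3 : EE γ 1 ∈ N := by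
      rcases c1 with c1 | c1 | c1
      · exact absurd c1 x2
      · exact (k1 x c1).1 x3
      · have e3 := (k2 x c1).1 x3
        have := mul_mem e3 ((k2 7 (by decide +kernel)).2 e3)
        rw [h.mul] at this
        exact (k1 _ (by decide +kernel)).1 this
    have k4 : h.Q ≤ N := by
      rintro _ ⟨y, -, rfl⟩
      exact h.Q_le aN (fun i hi => (k1 _ (by interval_cases i <;> decide +kernel)).2 k3) y
    exact (Subgroup.eq_of_le_of_card_ge k4 (Subgroup.card_map_of_injective α.injective).le).ge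
  · push Not at hx
    rintro n hn
    have nC : n ∈ C0 γ := by
      obtain ⟨_, ⟨i, -, rfl⟩, rfl⟩ := hn
      exact h.map_mem hC ha (h.E_mem i)
    obtain ⟨y, hy⟩ := h.cl.inner (gs_len γ) (MulAut.conj n)
      (by rw [MulAut.conj_apply, ← (h.comm nC).eq, mul_inv_cancel_right]) fun i hi => by
        obtain ⟨j, -, e⟩ := h.cm nC (i := 2 ^ i) (by interval_cases i <;> norm_num)
        have q : (EE γ (2 ^ i))⁻¹ * EE γ j ∈ h.Q := mul_mem (inv_mem (h.E_Q _)) (h.E_Q _)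
        obtain ⟨z, z1, z2⟩ := q
        have : EE γ z ∈ N := by
          have := mul_mem (nN _ (inv_mem (h.E_mem (2 ^ i))) n hn) (inv_mem hn)
          rwa [show EE γ z = _ from z2, ← e, ← mul_assoc, ← mul_assoc, ← inv_inv (EE γ (2 ^ i)), inv_inv,
            ← inv_inv (EE γ (2 ^ i)), inv_inv (EE γ (2 ^ i))⁻¹]
        have z3 : z = 0 + 256 * (z / 256) := by
          by_contra hz
          exact hx z z1 (by omega) this
        refine ⟨z / 256, ?_⟩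
        have z4 : EE γ z = (EE γ (2 ^ i))⁻¹ * EE γ j := z2
        rw [z3, h.Eadd, show EE γ 0 = 1 from E_zero, one_mul] at z4
        rw [MulAut.conj_apply, z4, mul_inv_cancel_left]
        exact e
    have := h.cent.2 _ (mul_mem (inv_mem (h.E_mem y)) nC) fun i _ => by
      have := hy i
      rw [MulAut.conj_apply] at this
      calc _ = (EE γ y)⁻¹ * (n * EE γ i * n⁻¹) * EE γ y := by group
        _ = _ := by rw [this]; group
    rcases this with e | e <;> rw [inv_mul_eq_iff_eq_mul] at e <;> rw [e]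
    · exact mul_mem (h.E_Q y) (one_mem _)
    · exact mul_mem (h.E_Q y) h.a_Q

end Cfsg.Agent.ThO
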