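import Cfsg.Agent.ThO.Abs2

set_option autoImplicit false
set_option maxRecDepth 100000
set_option linter.style.haveILetI false

/-! An automorphism fixing `a` is, up to an inner one, trivial on the centraliser; then it is inner. -/

namespace Cfsg.Agent.ThO

open Cfsg.Agent.CGT Equiv

variable {G : Type*} [Group G] {γ : ℕ → G}

/-- The action of `α` on `Q / ⟨a⟩`. -/
def Rl (γ : ℕ → G) (α : MulAut G) (x y : ℕ) : Prop := ∃ n, α (EE γ x) = EE γ y * γ 0 ^ n

section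
variable (h : Hy γ) {α : MulAut G} (ha : α (γ 0) = γ 0) {x y x' y' : ℕ}
include h

theorem Hy.Emod (x : ℕ) : EE γ x = EE γ (x % 256) * γ 0 ^ (x / 256) := by
  rw [← h.Eadd, Nat.mod_add_div]

theorem Hy.pow2 (n : ℕ) : γ 0 ^ n * γ 0 ^ n = 1 := by
  rw [← (Commute.refl _).mul_pow, h.cl.aa, one_pow]

theorem Hy.uniq (e : Rl γ α x y) (e' : Rl γ α x y') : y % 256 = y' % 256 := by
  obtain ⟨n, e⟩ := e
  obtain ⟨m, e'⟩ := e'
  refine h.cl.mod_eq (gs_len γ) h.ne (n := m + n) ?_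
  rw [pow_add, ← mul_assoc, ← show _ = EE γ y' * _ from e', e, mul_assoc, h.pow2, mul_one]

include ha

theorem Hy.congr (e : Rl γ α x y) (e1 : x % 256 = x' % 256) (e2 : y % 256 = y' % 256) :
    Rl γ α x' y' := by
  obtain ⟨n, e⟩ := e
  rw [h.Emod x, h.Emod y, e1, e2, map_mul, map_pow, ha] at e
  refine ⟨y' / 256 + (y / 256 + (n + (x / 256 + x' / 256))), ?_⟩
  rw [h.Emod x', h.Emod y', map_mul, map_pow, ha, pow_add, mul_assoc, ← mul_assoc (γ 0 ^ _), h.pow2,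
    one_mul, pow_add, pow_add, ← mul_assoc, ← mul_assoc, ← e, pow_add, mul_assoc, ← mul_assoc (γ 0 ^ _),
    h.pow2, one_mul]

theorem Hy.hm (e : Rl γ α x y) (e' : Rl γ α x' y') :
    ∃ n, α (EE γ (hm x x')) = EE γ (hm y y') * γ 0 ^ n ∧ α (EE γ (hm x' x)) = EE γ (hm y' y) * γ 0 ^ n ∧
      α (EE γ (hm x x)) = EE γ (hm y y) := by
  obtain ⟨n, e⟩ := e
  obtain ⟨m, e'⟩ := e'
  have k : ∀ x y n m, EE γ x * γ 0 ^ n * (EE γ y * γ 0 ^ m) = EE γ x * EE γ y * γ 0 ^ (n + m) :=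
    fun x y n m => by
      rw [mul_assoc, ← mul_assoc (γ 0 ^ n), ((h.cl.commute y).pow_left n).eq, pow_add]
      simp only [mul_assoc]
  refine ⟨n + m, ?_, ?_, ?_⟩ <;> rw [← h.mul, ← h.mul, map_mul, e]
  · rw [e', k]
  · rw [e', k, add_comm]
  · rw [k, pow_add, h.pow2, mul_one]

theorem Hy.xor (e : Rl γ α x y) (e' : Rl γ α x' y') : Rl γ α (x ^^^ x') (y ^^^ y') := by
  obtain ⟨n, e, -⟩ := h.hm ha e e'
  refine h.congr ha ⟨n, e⟩ ?_ ?_ <;> rw [hm_mod, ← Nat.xor_mod_two_pow (n := 8)]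

theorem Hy.cmm (e : Rl γ α x y) (e' : Rl γ α x' y') : ThO.hm x x' = ThO.hm x' x ↔ ThO.hm y y' = ThO.hm y' y := by
  obtain ⟨n, e1, e2, -⟩ := h.hm ha e e'
  refine ⟨fun e => h.inj (hm_lt _ _) (hm_lt _ _) ?_, fun e => h.inj (hm_lt _ _) (hm_lt _ _) ?_⟩
  · rw [e, e2] at e1; exact (mul_right_cancel e1).symm
  · rw [e, ← e2] at e1; exact α.injective e1

theorem Hy.sqr (hx : x < 512) (e : Rl γ α x y) : ThO.hm x x = ThO.hm y y := by
  obtain ⟨-, -, -, e⟩ := h.hm ha e e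
  refine h.inj (hm_lt _ _) (hm_lt _ _) (Eq.trans ?_ e)
  rcases hm_four x hx with e | e <;> rw [e]
  · rw [show EE γ 0 = 1 from E_zero, map_one]
  · rw [h.E256, ha]

theorem Hy.zero (e : Rl γ α x y) (hy : y % 256 = 0) : x % 256 = 0 := by
  obtain ⟨n, e⟩ := h.congr ha e rfl (y' := 0) hy
  refine h.cl.mod_eq (gs_len γ) h.ne (y := 0) (n := n) (α.injective ?_)
  rw [map_mul, map_pow, ha, show E (γ 0) (gs γ) 0 = 1 from E_zero, map_one]
  exact e.trans (by rw [show EE γ 0 = 1 from E_zero])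

omit ha in
theorem Hy.cjR {g : G} (hg : g ∈ C0 γ) {z : ℕ} (e : Rl γ α x y) (e' : g * EE γ y * g⁻¹ = EE γ z) :
    Rl γ (cj g α) x z := by
  obtain ⟨n, e⟩ := e
  refine ⟨n, ?_⟩
  rw [cj_apply, e, ← e', mul_assoc g, mul_assoc, ((h.comm (inv_mem hg)).pow_left n).eq]
  simp only [mul_assoc]

omit ha in
theorem Hy.S (hs : α (γ 4) = γ 4) (hx : x < 512) (hy : y < 512) (e : Rl γ α x y) :
    Rl γ α (A [8] x) (A [8] y) := by
  obtain ⟨n, e⟩ := h.cjR (h.mem 4) e (h.cs hy)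
  exact ⟨n, by rw [← h.cs hx, map_mul, map_mul, map_inv, hs]; exact e⟩

omit ha in
theorem Hy.Sn (hs : α (γ 4) = γ 4) (hx : x < 512) (hy : y < 512) (e : Rl γ α x y) (k : ℕ) :
    (A [8])^[k] x < 512 ∧ (A [8])^[k] y < 512 ∧ Rl γ α ((A [8])^[k] x) ((A [8])^[k] y) := by
  induction k with
  | zero => exact ⟨hx, hy, e⟩
  | succ k ih =>
    simp only [Function.iterate_succ_apply']
    exact ⟨A_lt _ ih.1, A_lt _ ih.2.1, h.S hs ih.1 ih.2.1 ih.2.2⟩

end

theorem Hy.R0 (_h : Hy γ) (α : MulAut G) : Rl γ α 0 0 := ⟨0, by simp [show EE γ 0 = 1 from E_zero]⟩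

theorem Hy.ex (h : Hy γ) [Finite G] (hC : ∀ g, Commute (γ 0) g → g ∈ C0 γ) {α : MulAut G}
    (ha : α (γ 0) = γ 0) (x : ℕ) : ∃ y < 256, Rl γ α x y := by
  obtain ⟨y, -, e⟩ := h.step3 hC ha x
  exact ⟨y % 256, Nat.mod_lt _ (by norm_num), h.congr ha ⟨0, by rw [pow_zero, mul_one]; exact e.symm⟩
    rfl (Nat.mod_mod _ _).symm⟩

theorem Hy.step4 (h : Hy γ) [Finite G] (hC : ∀ g, Commute (γ 0) g → g ∈ C0 γ) {α : MulAut G}
    (ha : α (γ 0) = γ 0) (hs : α (γ 4) = γ 4) :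
    ∃ g, cj g α (γ 0) = γ 0 ∧ cj g α (γ 4) = γ 4 ∧ Rl γ (cj g α) 47 47 := by
  obtain ⟨y, hy, e⟩ := h.ex hC ha 47
  have k := fun k => (h.Sn hs (by norm_num) (by omega) e k).2.2
  have e1 := h.uniq (h.congr ha (h.xor ha (h.xor ha e (k 1)) (k 3)) (x' := 0) (by decide +kernel) rfl)
    (h.R0 α)
  have c : (allLt 256 fun y => Nat.beq y 0 ||
      (!(Nat.beq ((y ^^^ (A [8])^[1] y ^^^ (A [8])^[3] y) % 256) 0) ||
        !(allLt 7 fun i => !(Nat.beq (A (List.replicate i 8) y % 256) 47)))) = true := by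
    decide +kernel
  have c1 := allLt_iff.1 c y hy
  simp only [Bool.or_eq_true, Nat.beq_eq, Bool.not_eq_true', ← Bool.not_eq_true, allLt_iff] at c1
  rcases c1 with rfl | c1 | c1
  · exact absurd (h.zero ha e rfl) (by norm_num)
  · exact absurd e1 c1
  · push Not at c1
    obtain ⟨i, -, c1⟩ := c1
    have hc : Commute (γ 4) (ev (ext γ) (List.replicate i 8)) := by
      clear c1
      induction i with
      | zero => exact Commute.one_right _
      | succ i ih =>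
        rw [List.replicate_succ, ev_cons]
        exact (show Commute (γ 4) (ext γ (2 * 4)) by rw [ext_two_mul]).mul_right ih
    have ha' := cj_fix (h.comm (h.ev_mem (List.replicate i 8))) ha
    exact ⟨_, ha', cj_fix hc hs,
      h.congr ha' (h.cjR (h.ev_mem _) e (h.cw _ (by omega))) rfl c1⟩

set_option synthInstance.maxSize 2000 in
theorem Hy.step5 (h : Hy γ) [Finite G] (hC : ∀ g, Commute (γ 0) g → g ∈ C0 γ) {α : MulAut G}
    (ha : α (γ 0) = γ 0) (hs : α (γ 4) = γ 4) (e47 : Rl γ α 47 47) :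
    ∃ g, cj g α (γ 0) = γ 0 ∧ ∀ x, cj g α (EE γ x) = EE γ x := by
  have k := fun k => (h.Sn hs (by norm_num) (by norm_num) e47 k).2.2
  have e91 : Rl γ α 91 91 := h.congr ha (k 1) (by decide +kernel) (by decide +kernel)
  have e184 : Rl γ α 184 184 := h.congr ha (k 2) (by decide +kernel) (by decide +kernel)
  have e59 : Rl γ α 59 59 := by
    obtain ⟨y, hy, e⟩ := h.ex hC ha 59
    have k := fun k => (h.Sn hs (by norm_num) (by omega) e k).2.2
    have e1 := h.uniq (h.congr ha (h.xor ha (h.xor ha e (k 2)) (k 3)) (x' := 0) (by decide +kernel) rfl)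
      (h.R0 α)
    have c : ∀ y < 256, (y ^^^ (A [8])^[2] y ^^^ (A [8])^[3] y) % 256 = 0 % 256 →
        (ThO.hm 59 47 = ThO.hm 47 59 ↔ ThO.hm y 47 = ThO.hm 47 y) →
        (ThO.hm 59 91 = ThO.hm 91 59 ↔ ThO.hm y 91 = ThO.hm 91 y) →
        (ThO.hm 59 184 = ThO.hm 184 59 ↔ ThO.hm y 184 = ThO.hm 184 y) → y = 59 := by decide +kernel
    rwa [c y hy e1 (h.cmm ha e e47) (h.cmm ha e e91) (h.cmm ha e e184)] at e
  have k := fun k => (h.Sn hs (by norm_num) (by norm_num) e59 k).2.2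
  have e87 : Rl γ α 87 87 := h.congr ha (k 1) (by decide +kernel) (by decide +kernel)
  have e240 : Rl γ α 240 240 := h.congr ha (k 2) (by decide +kernel) (by decide +kernel)
  have k12 : ∀ x, x = 1 ∨ x = 2 → Rl γ α x 1 ∨ Rl γ α x 2 := fun x hx => by
    obtain ⟨y, hy, e⟩ := h.ex hC ha x
    have e1 := h.uniq (h.congr ha (h.S hs (by omega) (by omega) e) (x' := x)
      (by rcases hx with rfl | rfl <;> decide +kernel) rfl) e
    have e2 := h.sqr ha (by omega) e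
    rw [show ThO.hm x x = 0 by rcases hx with rfl | rfl <;> decide +kernel] at e2
    have c : ∀ y < 256, A [8] y % 256 = y % 256 → 0 = ThO.hm y y → y = 0 ∨ y = 1 ∨ y = 2 := by
      decide +kernel
    rcases c y hy e1 e2 with rfl | rfl | rfl
    · exact absurd (h.zero ha e rfl) (by omega)
    · exact Or.inl e
    · exact Or.inr e
  have k3 : (Rl γ α 1 1 ∧ Rl γ α 2 2) ∨ (Rl γ α 1 2 ∧ Rl γ α 2 1) := by
    rcases k12 1 (by simp) with e | e <;> rcases k12 2 (by simp) with e' | e'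
    · exact absurd (h.zero ha (h.xor ha e e') rfl) (by decide)
    · exact Or.inl ⟨e, e'⟩
    · exact Or.inr ⟨e, e'⟩
    · exact absurd (h.zero ha (h.xor ha e e') rfl) (by decide)
  have e3 : Rl γ α 3 3 := by rcases k3 with e | e <;> exact h.xor ha e.1 e.2
  have X := fun {x y x' y' : ℕ} => h.xor ha (x := x) (y := y) (x' := x') (y' := y')
  have e4 : Rl γ α 4 4 := X (X (X (X (X e3 e47) e91) e184) e59) e240
  have e8 : Rl γ α 8 8 := X (X (X (X (X e3 e47) e184) e59) e87) e240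
  have e16 : Rl γ α 16 16 := X (X (X e3 e91) e184) e240
  have e32 : Rl γ α 32 32 := X (X (X e3 e47) e91) e87
  have e64 : Rl γ α 64 64 := X (X (X e3 e47) e59) e87
  have e128 : Rl γ α 128 128 := X (X e3 e184) e59
  rcases k3 with ⟨e1, e2⟩ | ⟨e1, e2⟩
  · obtain ⟨y, hy⟩ := h.cl.inner (gs_len γ) α ha fun i hi => by
      interval_cases i
      exacts [e1, e2, e4, e8, e16, e32, e64, e128]
    refine ⟨(EE γ y)⁻¹, cj_fix (h.cl.commute y).inv_right ha, fun x => ?_⟩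
    rw [cj_apply, hy]; group
  · exfalso
    have hg := h.map_mem hC ha (h.ev_mem [6])
    have key : ∀ x y z, x < 512 → Rl γ α x y → Rl γ α (A [6] x) z →
        ∃ n, α (ev (ext γ) [6]) * EE γ y * (α (ev (ext γ) [6]))⁻¹ = EE γ z * γ 0 ^ n := by
      rintro x y z hx ⟨n, e⟩ ⟨m, e'⟩
      rw [← h.cw _ hx, map_mul, map_mul, map_inv, e, ← mul_assoc, mul_assoc _ (γ 0 ^ n),
        ((h.comm (inv_mem hg)).pow_left n).eq, ← mul_assoc] at e'
      exact ⟨m + n, by rw [pow_add, ← mul_assoc, ← e', mul_assoc _ (γ 0 ^ n), h.pow2, mul_one]⟩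
    obtain ⟨n, f1⟩ := key 27 27 166 (by norm_num) (X (X e3 e8) e16)
      (h.congr ha (X (X (X e1 e4) e32) e128) (by decide +kernel) rfl)
    obtain ⟨m, f2⟩ := key 4 4 1 (by norm_num) e4 (h.congr ha e2 (by decide +kernel) rfl)
    exact absurd (h.blk hg (by norm_num) (by norm_num) f1 f2 (by decide +kernel)) (by decide +kernel)

theorem Hy.step6 (h : Hy γ) (hC : ∀ g, Commute (γ 0) g → g ∈ C0 γ) {α : MulAut G}
    (ha : α (γ 0) = γ 0) (hq : ∀ x, α (EE γ x) = EE γ x) : ∀ g ∈ C0 γ, α g = g := by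
  have k : ∀ j, ∃ n, α (γ j) = γ j * γ 0 ^ n := fun j => by
    have := h.cent.2 _ (mul_mem (inv_mem (h.mem j)) (h.map_mem hC ha (h.mem j))) fun i hi => by
      obtain ⟨l, -, e⟩ := h.cm (h.mem j) hi
      have e' := congrArg α e
      rw [map_mul, map_mul, map_inv, hq, hq, ← e] at e'
      calc _ = (γ j)⁻¹ * (α (γ j) * EE γ i * (α (γ j))⁻¹) * γ j := by group
        _ = _ := by rw [e']; group
    rcases this with e | e <;> rw [inv_mul_eq_iff_eq_mul] at e
    exacts [⟨0, by rw [e, pow_zero]⟩, ⟨1, by rw [e, pow_one]⟩]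
  choose n hn using k
  have k1 : ∀ w, α (ev (ext γ) w) = ev (ext γ) w * γ 0 ^ (w.map fun a => n (a / 2)).sum := fun w => by
    induction w with
    | nil => simp
    | cons a w ih =>
      have e : α (ext γ a) = ext γ a * γ 0 ^ n (a / 2) := by
        unfold CGT.ext
        split_ifs
        · exact hn _
        · rw [map_inv, hn, mul_inv_rev, inv_eq_of_mul_eq_one_right (h.pow2 _),
            ((h.cen _).inv_right.pow_left _).eq]
      rw [ev_cons, map_mul, e, ih, List.map_cons, List.sum_cons, pow_add, mul_assoc, ← mul_assoc (γ 0 ^ _),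
        ((h.comm (h.ev_mem w)).pow_left _).eq]
      simp only [mul_assoc]
  have k2 : ∀ m, γ 0 ^ m = 1 → m % 2 = 0 := fun m e => by
    by_contra hm
    rw [← pow_mod_two h.cl.aa, show m % 2 = 1 by omega, pow_one] at e
    exact h.ne e
  have k3 : ∀ w, memLL w RC = true → (w.map fun a => n (a / 2)).sum % 2 = 0 := fun w hw => by
    have := k1 w
    rw [h.r hw, map_one, one_mul] at this
    exact k2 _ this.symm
  have r0 := k2 (n 0) (mul_eq_left.1 ((hn 0).symm.trans ha))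
  have r1 := k2 (n 1) (mul_eq_left.1 ((hn 1).symm.trans (h.E1 ▸ hq 1)))
  have r2 := k3 [8, 8, 8, 8, 8, 8, 8] (by decide +kernel)
  have r3 := k3 [10, 10, 10] (by decide +kernel)
  have r4 := k3 [7, 9, 6, 9, 9, 7, 8, 8, 8] (by decide +kernel)
  have r5 := k3 [4, 6, 4, 6, 4, 6] (by decide +kernel)
  have r6 := k3 [0, 2, 9, 13, 9, 13, 9, 13] (by decide +kernel)
  simp only [List.map_cons, List.map_nil, List.sum_cons, List.sum_nil, Nat.reduceDiv] at r2 r3 r4 r5 r6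
  have k4 : ∀ j, α (γ j) = γ j := fun j => by
    by_cases hj : j < 7
    · rw [hn, ← pow_mod_two h.cl.aa, show n j % 2 = 0 by interval_cases j <;> omega, pow_zero, mul_one]
    · rw [h.one j (by omega), map_one]
  exact fun g hg => gp_le (H := α.toMonoidHom.eqLocus (MonoidHom.id G))
    (fun a _ => ext_mem (k4 _)) hg

theorem Hy.step7 (h : Hy γ) (hC : ∀ g, Commute (γ 0) g → g ∈ C0 γ) {f : G} (f2 : f * f = 1)
    (fa : f * γ 0 * f⁻¹ = γ 1) (fy : ∀ y ∈ [1, 6, 10, 18, 34, 66, 130], f * EE γ y * f⁻¹ ∈ C0 γ)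
    (ht : ∀ H : Subgroup G, C0 γ ≤ H → f ∈ H → H = ⊤) {α : MulAut G}
    (hα : ∀ g ∈ C0 γ, α g = g) : Inn α := by
  have fin : ∀ β : MulAut G, (∀ g ∈ C0 γ, β g = g) → β f = f → Inn β := fun β h1 h2 =>
    ⟨1, MulEquiv.ext fun x => by
      have := ht (β.toMonoidHom.eqLocus (MonoidHom.id G)) h1 h2
      have hx : x ∈ β.toMonoidHom.eqLocus (MonoidHom.id G) := this ▸ Subgroup.mem_top x
      rw [cj_apply, one_mul, inv_one, mul_one]; exact hx⟩
  have dC : f⁻¹ * α f ∈ C0 γ := hC _ (aut_third (hα _ (h.mem 0)) (hα _ (h.mem 1)) fa).symm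
  have dy : ∀ y ∈ [1, 6, 10, 18, 34, 66, 130], Commute (f⁻¹ * α f) (EE γ y) := fun y hy =>
    aut_third (hα _ (h.E_mem y)) (hα _ (fy y hy)) rfl
  have fi : f⁻¹ = f := inv_eq_of_mul_eq_one_right f2
  have d2 : f * (f⁻¹ * α f) * f⁻¹ * (f⁻¹ * α f) = 1 := by
    rw [mul_inv_cancel_left, ← mul_assoc, mul_assoc (α f), ← mul_inv_rev, f2, inv_one, mul_one,
      ← map_mul, f2, map_one]
  have df : α f = f * (f⁻¹ * α f) := (mul_inv_cancel_left _ _).symm
  generalize f⁻¹ * α f = d at *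
  have L : ∀ d ∈ C0 γ, (∀ y ∈ [1, 6, 10, 18, 34, 66, 130], Commute d (EE γ y)) → Commute d (EE γ 2) →
      d = 1 ∨ d = γ 0 := fun d dC dy d2 => h.cent.2 d dC fun i _ => by
    have ha : γ 0 ∈ Subgroup.centralizer {d} := Subgroup.mem_centralizer_singleton_iff.2 (h.comm dC)
    have m : ∀ y, Commute d (EE γ y) → EE γ y ∈ Subgroup.centralizer {d} := fun y hy =>
      Subgroup.mem_centralizer_singleton_iff.2 hy.symm
    have := h.Q_le ha (fun i hi => by
      by_cases h0 : i = 0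
      · subst h0; exact m _ (dy _ (by simp))
      by_cases h1 : i = 1
      · subst h1; exact m _ d2
      have := mul_mem (m _ d2) (m (2 + 2 ^ i) (dy _ (by interval_cases i <;> simp_all)))
      rwa [h.mul, show ThO.hm 2 (2 + 2 ^ i) = 2 ^ i by
        interval_cases i <;> first | omega | decide +kernel] at this) i
    rw [← Subgroup.mem_centralizer_singleton_iff.1 this, mul_inv_cancel_right]
  obtain ⟨j, hj, e⟩ := h.cm dC (i := 2) (by norm_num)
  have R : ∀ y z, d * EE γ y * d⁻¹ = EE γ z → Rl γ (cj d 1) y z := fun y z e =>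
    ⟨0, by rw [pow_zero, mul_one]; exact e⟩
  have ha : cj d 1 (γ 0) = γ 0 := cj_fix (h.comm dC) rfl
  have c : (allLt 512 fun j => Nat.beq j 2 || (Nat.beq j 258 || (!(Nat.beq (ThO.hm j j) 0) ||
      !(allL [1, 6, 10, 18, 34, 66, 130] fun y =>
        decide (ThO.hm 2 y = ThO.hm y 2 ↔ ThO.hm j y = ThO.hm y j))))) = true := by decide +kernel
  have c1 := allLt_iff.1 c j hj
  simp only [Bool.or_eq_true, Nat.beq_eq, Bool.not_eq_true', ← Bool.not_eq_true, allL_iff,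
    decide_eq_true_eq] at c1
  have ac : γ 1 * γ 0 ≠ 1 := fun e => by
    rw [← h.E1, ← h.E256, h.mul, ← show EE γ 0 = 1 from E_zero] at e
    exact absurd (h.inj (hm_lt _ _) (by norm_num) e) (by decide +kernel)
  have cc : γ 1 * γ 1 = 1 := by rw [← h.E1, h.mul]; exact E_zero
  rcases c1 with rfl | rfl | c1 | c1
  · rcases L d dC dy (mul_inv_eq_iff_eq_mul.1 e) with rfl | rfl
    · exact fin α hα (by rw [df, mul_one])
    · exact absurd (fa ▸ d2) ac
  · have c2 : ∀ y ∈ [1, 6, 10, 18, 34, 66, 130], ThO.hm 1 y = ThO.hm y 1 := by decide +kernel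
    have := L (γ 1 * d) (mul_mem (h.mem 1) dC) (fun y hy => Commute.mul_left (by
      rw [← h.E1, Commute, SemiconjBy, h.mul, h.mul, c2 y hy]) (dy y hy)) (by
        rw [Commute, SemiconjBy, mul_assoc, mul_inv_eq_iff_eq_mul.1 e, ← mul_assoc, ← mul_assoc, ← h.E1,
          h.mul, h.mul, show ThO.hm 1 258 = ThO.hm 2 1 by decide +kernel])
    have ci : (γ 1)⁻¹ = γ 1 := inv_eq_of_mul_eq_one_right cc
    rcases this with e' | e' <;> rw [← eq_inv_mul_iff_mul_eq, ci] at e' <;> subst e'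
    · rw [mul_one, ← fa, show f * (f * γ 0 * f⁻¹) * f⁻¹ = (f * f) * γ 0 * (f * f)⁻¹ by group, f2, fa,
        one_mul, inv_one, mul_one, (h.cen 1).eq] at d2
      exact absurd d2 ac
    · refine Inn.of (g := γ 0) (fin _ (fun g hg => cj_fix (h.comm hg).symm (hα g hg)) ?_)
      rw [cj_apply, df]
      calc _ = f * (f⁻¹ * γ 0 * f⁻¹⁻¹) * γ 1 := by group
        _ = _ := by rw [fi, fa, mul_assoc, cc, mul_one]
  · exact absurd ((h.sqr ha (by norm_num) (R _ _ e)).symm.trans (by decide +kernel)) c1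
  · exact absurd (fun y hy => h.cmm ha (R _ _ e) (R y y (by rw [(dy y hy).eq, mul_inv_cancel_right]))) c1

theorem Hy.out (h : Hy γ) [Finite G] (hC : ∀ g, Commute (γ 0) g → g ∈ C0 γ) {f : G} (f2 : f * f = 1)
    (fa : f * γ 0 * f⁻¹ = γ 1) (fy : ∀ y ∈ [1, 6, 10, 18, 34, 66, 130], f * EE γ y * f⁻¹ ∈ C0 γ)
    (ht : ∀ H : Subgroup G, C0 γ ≤ H → f ∈ H → H = ⊤) : Nat.card (Cfsg.Out G) = 1 :=
  card_out_eq_one fun α => by
    obtain ⟨g1, h1⟩ := h.step1 hC α
    obtain ⟨g2, h2, h2'⟩ := h.step2 hC h1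
    obtain ⟨g3, h3, h3', h3''⟩ := h.step4 hC h2 h2'
    obtain ⟨g4, h4, h4'⟩ := h.step5 hC h3 h3' h3''
    exact (h.step7 hC f2 fa fy ht (h.step6 hC h4 h4')).of.of.of.of

end Cfsg.Agent.ThO
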