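import Cfsg.Agent.CGT.Dce

set_option autoImplicit false
set_option maxRecDepth 100000

/-! The extraspecial group `2^(1+8)` generated by eight anticommuting involutions; its elements are
coded by the numbers below 512. -/

namespace Cfsg.Agent.ThO

open Cfsg.Agent.CGT

noncomputable def pop (n x : ℕ) : ℕ :=
  Nat.rec (motive := fun _ => ℕ → ℕ) (fun _ => 0)
    (fun _ ih x => Nat.add (Nat.mod x 2) (ih (Nat.div x 2))) n x

noncomputable def sg (n x y : ℕ) : ℕ :=
  Nat.rec (motive := fun _ => ℕ → ℕ → ℕ) (fun _ _ => 0)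
    (fun n ih x y => Nat.add (Nat.mul (Nat.mod y 2) (pop n (Nat.div x 2))) (ih (Nat.div x 2) (Nat.div y 2)))
    n x y

/-- The product of codes. -/
noncomputable def hm (x y : ℕ) : ℕ :=
  Nat.add (Nat.mod (Nat.xor x y) 256)
    (Nat.mul 256 (Nat.mod (Nat.add (Nat.add (Nat.div x 256) (Nat.div y 256)) (sg 8 x y)) 2))

theorem hm_eq (x y : ℕ) : hm x y = (x ^^^ y) % 256 + 256 * ((x / 256 + y / 256 + sg 8 x y) % 2) := rfl

theorem hm_lt (x y : ℕ) : hm x y < 512 := by rw [hm_eq]; omega

theorem hm_mod (x y : ℕ) : hm x y % 256 = (x % 256) ^^^ (y % 256) := by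
  rw [hm_eq, Nat.add_mul_mod_self_left, Nat.mod_mod, ← Nat.xor_mod_two_pow (n := 8)]

/-- The image of a code under the map with given images of the generators. -/
noncomputable def actx (im : List ℕ) (x : ℕ) : ℕ :=
  List.rec (motive := fun _ => ℕ → ℕ) (fun x => Nat.mul 256 (Nat.mod x 2))
    (fun i _ ih x => (fun y => frc y (Bool.rec (hm i y) y (Nat.beq (Nat.mod x 2) 0))) (ih (Nat.div x 2)))
    im x

variable {G : Type*} [Group G]

def Ec : List G → ℕ → G
  | [], _ => 1
  | g :: gs, x => g ^ (x % 2) * Ec gs (x / 2)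

/-- The element with a given code. -/
def E (a : G) (gs : List G) (x : ℕ) : G := Ec gs x * a ^ (x / 256)

structure Cl (a : G) (gs : List G) : Prop where
  aa : a * a = 1
  cen : ∀ g ∈ gs, Commute a g
  sq : ∀ g ∈ gs, g * g = 1
  anti : gs.Pairwise fun g h => h * g = g * h * a

variable {a : G} {gs : List G}

theorem pow_mod_two {g : G} (h : g * g = 1) (n : ℕ) : g ^ (n % 2) = g ^ n :=
  (pow_eq_pow_mod n (by rw [sq, h])).symm

theorem commute_Ec {z : G} (h : ∀ g ∈ gs, Commute z g) (x : ℕ) : Commute z (Ec gs x) := by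
  induction gs generalizing x with
  | nil => exact Commute.one_right z
  | cons g gs ih =>
    exact ((h g (by simp)).pow_right _).mul_right (ih (fun g hg => h g (by simp [hg])) _)

theorem Ec_mul_gen {g : G} (hg : Commute a g) (hc : ∀ h ∈ gs, Commute a h)
    (h : ∀ h ∈ gs, h * g = g * h * a) (x : ℕ) :
    Ec gs x * g = g * Ec gs x * a ^ pop gs.length x := by
  induction gs generalizing x with
  | nil => show 1 * g = g * 1 * a ^ 0; simp
  | cons k gs ih =>
    have h1 := ih (fun h hh => hc h (by simp [hh])) (fun h' hh => h h' (by simp [hh])) (x / 2)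
    have h2 := commute_Ec (fun h hh => hc h (List.mem_cons_of_mem k hh)) (x / 2)
    show k ^ (x % 2) * Ec gs (x / 2) * g =
      g * (k ^ (x % 2) * Ec gs (x / 2)) * a ^ (x % 2 + pop gs.length (x / 2))
    rw [mul_assoc, h1]
    rcases Nat.mod_two_eq_zero_or_one x with e | e <;> rw [e]
    · simp
    · rw [pow_one, pow_add, pow_one, ← mul_assoc, ← mul_assoc, h k (by simp), mul_assoc _ a, h2.eq]
      simp only [mul_assoc]

theorem Cl.tail {g : G} (h : Cl a (g :: gs)) : Cl a gs :=
  ⟨h.aa, fun k hk => h.cen k (by simp [hk]), fun k hk => h.sq k (by simp [hk]), h.anti.of_cons⟩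

theorem Cl.Ec_mul (h : Cl a gs) (x y : ℕ) :
    Ec gs x * Ec gs y = Ec gs (x ^^^ y) * a ^ sg gs.length x y := by
  induction gs generalizing x y with
  | nil => show 1 * 1 = 1 * a ^ 0; simp
  | cons g gs ih =>
    have h1 := ih h.tail (x / 2) (y / 2)
    have h2 := Ec_mul_gen (h.cen g (by simp)) h.tail.cen (List.pairwise_cons.1 h.anti).1 (x / 2)
    have h3 := commute_Ec h.tail.cen (y / 2)
    show g ^ (x % 2) * Ec gs (x / 2) * (g ^ (y % 2) * Ec gs (y / 2)) =
      g ^ ((x ^^^ y) % 2) * Ec gs ((x ^^^ y) / 2) *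
        a ^ (y % 2 * pop gs.length (x / 2) + sg gs.length (x / 2) (y / 2))
    have e1 : g ^ ((x ^^^ y) % 2) = g ^ (x % 2) * g ^ (y % 2) := by
      rw [← pow_add, ← pow_mod_two (h.sq g (by simp)) (x % 2 + y % 2), Nat.xor_mod_two_eq, Nat.add_mod]
    rw [e1, Nat.xor_div_two, add_comm, pow_add, ← mul_assoc _ (a ^ _), mul_assoc _ (Ec gs _) (a ^ _),
      ← h1]
    rcases Nat.mod_two_eq_zero_or_one y with e | e <;> rw [e]
    · simp [mul_assoc]
    · rw [pow_one, one_mul, ← mul_assoc, mul_assoc _ _ g, h2]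
      simp only [mul_assoc]
      rw [(h3.pow_left _).eq]

theorem Ec_mod (x : ℕ) : Ec gs (x % 2 ^ gs.length) = Ec gs x := by
  induction gs generalizing x with
  | nil => rfl
  | cons g gs ih =>
    show g ^ (x % 2 ^ (gs.length + 1) % 2) * Ec gs (x % 2 ^ (gs.length + 1) / 2) = _
    rw [Nat.mod_mod_of_dvd _ (dvd_pow_self 2 (by omega)), pow_succ', Nat.mod_mul_right_div_self, ih]
    rfl

theorem Ec_zero : Ec gs 0 = 1 := by
  induction gs with
  | nil => rfl
  | cons g gs ih => show g ^ 0 * Ec gs 0 = 1; simp [ih]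

theorem Ec_mem {H : Subgroup G} (h : ∀ g ∈ gs, g ∈ H) (x : ℕ) : Ec gs x ∈ H := by
  induction gs generalizing x with
  | nil => exact H.one_mem
  | cons g gs ih =>
    exact H.mul_mem (H.pow_mem (h g (by simp)) _) (ih (fun g hg => h g (by simp [hg])) _)

theorem E_mem {H : Subgroup G} (ha : a ∈ H) (h : ∀ g ∈ gs, g ∈ H) (x : ℕ) : E a gs x ∈ H :=
  H.mul_mem (Ec_mem h x) (H.pow_mem ha _)

theorem E_zero : E a gs 0 = 1 := by simp [E, Ec_zero]

theorem E_add (hl : gs.length = 8) (x n : ℕ) : E a gs (x + 256 * n) = E a gs x * a ^ n := by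
  have h1 := Ec_mod (gs := gs) (x + 256 * n)
  have h2 := Ec_mod (gs := gs) x
  rw [hl] at h1 h2
  rw [E, E, ← h1, ← h2, Nat.add_mul_div_left _ _ (by norm_num), pow_add, mul_assoc]
  congr 2
  omega

theorem E_256 (hl : gs.length = 8) : E a gs 256 = a := by
  simpa [E_zero] using E_add (a := a) hl 0 1

theorem Cl.commute (h : Cl a gs) (x : ℕ) : Commute a (E a gs x) :=
  (commute_Ec h.cen x).mul_right ((Commute.refl a).pow_right _)

theorem Cl.mul (h : Cl a gs) (hl : gs.length = 8) (x y : ℕ) :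
    E a gs x * E a gs y = E a gs (hm x y) := by
  have h1 := h.Ec_mul x y
  have h2 := Ec_mod (gs := gs) (x ^^^ y)
  rw [hl] at h1 h2
  rw [hm_eq, E_add hl, pow_mod_two h.aa, E, E, E, Nat.div_eq_of_lt (Nat.mod_lt _ (by norm_num)),
    show (256 : ℕ) = 2 ^ 8 from rfl, h2, mul_assoc, ← mul_assoc (a ^ _),
    ((commute_Ec h.cen y).pow_left _).eq, ← mul_assoc, ← mul_assoc, h1]
  simp only [mul_assoc, ← pow_add]
  congr 2
  omega

theorem actx_lt (im : List ℕ) (x : ℕ) : actx im x < 512 := by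
  induction im generalizing x with
  | nil => show 256 * (x % 2) < 512; omega
  | cons i im ih =>
    have : actx (i :: im) x = Bool.rec (hm i (actx im (x / 2))) (actx im (x / 2)) (Nat.beq (x % 2) 0) :=
      frc_eq (actx im (x / 2)) _
    rw [this]
    cases Nat.beq (x % 2) 0
    · exact hm_lt _ _
    · exact ih _

theorem Cl.map (h : Cl a gs) (hl : gs.length = 8) {F : Type*} [FunLike F G G] [MonoidHomClass F G G]
    (β : F) (ha : β a = a) {im : List ℕ} (hi : List.Forall₂ (fun g i => β g = E a gs i) gs im) (x : ℕ) :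
    β (E a gs x) = E a gs (actx im x) := by
  have key : ∀ (l : List G) (im : List ℕ), List.Forall₂ (fun g i => β g = E a gs i) l im → ∀ x,
      β (Ec l x * a ^ (x / 2 ^ l.length)) = E a gs (actx im x) := by
    intro l im hi
    induction hi with
    | nil =>
      intro x
      have := E_add (a := a) hl 0 (x % 2)
      rw [zero_add, E_zero, one_mul, pow_mod_two h.aa] at this
      show β (1 * a ^ (x / 1)) = E a gs (256 * (x % 2))
      rw [this, one_mul, map_pow, ha, Nat.div_one]
    | @cons g i l im h1 _ ih =>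
      intro x
      have e : actx (i :: im) x =
        Bool.rec (hm i (actx im (x / 2))) (actx im (x / 2)) (Nat.beq (x % 2) 0) :=
        frc_eq (actx im (x / 2)) _
      show β (g ^ (x % 2) * Ec l (x / 2) * a ^ (x / 2 ^ (l.length + 1))) = _
      rw [e, mul_assoc, map_mul, pow_succ', ← Nat.div_div_eq_div_mul, ih]
      rcases Nat.mod_two_eq_zero_or_one x with e | e <;> rw [e]
      · simp
      · rw [pow_one, h1, h.mul hl]; rfl
  have := key gs im hi x
  rwa [hl] at this

theorem Cl.eq_zero (h : Cl a gs) (hl : gs.length = 8) (ha : a ≠ 1) {x : ℕ} (hx : x < 512)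
    (e : E a gs x = 1) : x = 0 := by
  have c : (allLt 512 fun x => Nat.beq x 0 || (Nat.beq x 256 || !(allLt 8 fun i =>
      Nat.beq (hm x (Nat.pow 2 i)) (hm (Nat.pow 2 i) x)))) = true := by decide +kernel
  have c1 := allLt_iff.1 c x hx
  simp only [Bool.or_eq_true, Nat.beq_eq, Bool.not_eq_true', ← Bool.not_eq_true, allLt_iff] at c1
  rcases c1 with c1 | rfl | c1
  · exact c1
  · exact absurd ((E_256 hl).symm.trans e) ha
  · push Not at c1
    obtain ⟨i, -, c2⟩ := c1
    generalize Nat.pow 2 i = y at c2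
    have h1 : E a gs (hm x y) = E a gs (hm y x) := by rw [← h.mul hl, ← h.mul hl, e, mul_one, one_mul]
    have h2 := hm_lt x y
    have h3 := hm_lt y x
    have h4 : hm x y % 256 = hm y x % 256 := by rw [hm_mod, hm_mod, Nat.xor_comm]
    rcases (by omega : hm x y = hm y x + 256 * 1 ∨ hm y x = hm x y + 256 * 1) with h5 | h5
    · rw [h5, E_add hl, pow_one, mul_eq_left] at h1; exact absurd h1 ha
    · rw [h5, E_add hl, pow_one, left_eq_mul] at h1; exact absurd h1 ha

theorem hm_four : ∀ y < 512, hm y y = 0 ∨ hm y y = 256 := fun y _ => by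
  have h1 := hm_lt y y
  have h2 := hm_mod y y
  rw [Nat.xor_self] at h2
  omega

theorem Cl.mod_eq (h : Cl a gs) (hl : gs.length = 8) (ha : a ≠ 1) {x y : ℕ} {n : ℕ}
    (e : E a gs x = E a gs y * a ^ n) : x % 256 = y % 256 := by
  have h1 : E a gs (hm (hm x y) (256 * ((n + hm y y / 256) % 2))) = 1 := by
    have h2 := E_add (a := a) hl 0 ((n + hm y y / 256) % 2)
    have h3 := E_add (a := a) hl 0 (hm y y / 256)
    have h4 : 0 + 256 * (hm y y / 256) = hm y y := by
      have := hm_mod y y; rw [Nat.xor_self] at this; omega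
    rw [h4, E_zero, one_mul] at h3
    rw [zero_add, E_zero, one_mul, pow_mod_two h.aa] at h2
    rw [← h.mul hl, ← h.mul hl, h2, e, mul_assoc (E a gs y), ((h.commute y).pow_left n).eq,
      ← mul_assoc, h.mul hl, h3, ← pow_add, ← pow_add, ← pow_mod_two h.aa]
    rw [show (hm y y / 256 + n + (n + hm y y / 256)) % 2 = 0 by omega, pow_zero]
  have h5 := congrArg (· % 256) (h.eq_zero hl ha (hm_lt _ _) h1)
  simp only [hm_mod, Nat.mul_mod_right, Nat.xor_zero, Nat.zero_mod] at h5
  exact Nat.xor_eq_zero_iff.1 h5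

theorem Cl.inj (h : Cl a gs) (hl : gs.length = 8) (ha : a ≠ 1) {x y : ℕ} (hx : x < 512)
    (hy : y < 512) (e : E a gs x = E a gs y) : x = y := by
  have h1 := h.mod_eq hl ha (n := 0) (by simpa using e)
  rcases (by omega : x = y ∨ x = y + 256 * 1 ∨ y = x + 256 * 1) with h5 | h5 | h5
  · exact h5
  · rw [h5, E_add hl, pow_one, mul_eq_left] at e; exact absurd e ha
  · rw [h5, E_add hl, pow_one, left_eq_mul] at e; exact absurd e ha

/-- The group of order 512. -/
def Cl.Q (h : Cl a gs) (hl : gs.length = 8) : Subgroup G where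
  carrier := {g | ∃ x < 512, E a gs x = g}
  one_mem' := ⟨0, by norm_num, E_zero⟩
  mul_mem' := by
    rintro _ _ ⟨x, -, rfl⟩ ⟨y, -, rfl⟩
    exact ⟨_, hm_lt x y, (h.mul hl x y).symm⟩
  inv_mem' := by
    rintro _ ⟨x, hx, rfl⟩
    refine ⟨_, hm_lt x (hm x x), ?_⟩
    rw [eq_inv_iff_mul_eq_one, ← h.mul hl, mul_assoc]
    rcases hm_four x hx with e | e
    · rw [e, E_zero, one_mul, h.mul hl, e, E_zero]
    · rw [e, E_256 hl, (h.commute x).eq, ← mul_assoc, h.mul hl, e, E_256 hl, h.aa]

theorem Cl.card_Q (h : Cl a gs) (hl : gs.length = 8) (ha : a ≠ 1) : Nat.card (h.Q hl) = 512 := by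
  have : Nat.card (Fin 512) = Nat.card (h.Q hl) :=
    Nat.card_congr (Equiv.ofBijective (fun x => ⟨E a gs x, x, x.2, rfl⟩)
      ⟨fun x y e => Fin.ext (h.inj hl ha x.2 y.2 (congrArg Subtype.val e)), by
        rintro ⟨_, x, hx, rfl⟩; exact ⟨⟨x, hx⟩, rfl⟩⟩)
  rw [← this, Nat.card_fin]

theorem E_gen (hl : gs.length = 8) :
    List.Forall₂ (fun g i => g = E a gs i) gs [1, 2, 4, 8, 16, 32, 64, 128] := by
  match gs, hl with
  | [g1, g2, g3, g4, g5, g6, g7, g8], _ => simp [E, Ec]

theorem forall₂_gen (hl : gs.length = 8) {P : G → ℕ → Prop} (f : ℕ → ℕ)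
    (h : ∀ i < 8, P (E a gs (2 ^ i)) (f i)) : List.Forall₂ P gs ((List.range 8).map f) := by
  have h0 := h 0 (by norm_num); have h1 := h 1 (by norm_num); have h2 := h 2 (by norm_num)
  have h3 := h 3 (by norm_num); have h4 := h 4 (by norm_num); have h5 := h 5 (by norm_num)
  have h6 := h 6 (by norm_num); have h7 := h 7 (by norm_num)
  match gs, hl with
  | [g1, g2, g3, g4, g5, g6, g7, g8], _ =>
    simp only [E, Ec] at h0 h1 h2 h3 h4 h5 h6 h7
    norm_num at h0 h1 h2 h3 h4 h5 h6 h7
    simp [List.range_succ, *]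

theorem gen_mem (hl : gs.length = 8) {P : G → Prop} (h : ∀ i < 8, P (E a gs (2 ^ i))) :
    ∀ g ∈ gs, P g := by
  have := forall₂_gen (a := a) hl (P := fun g _ => P g) id h
  generalize (List.range 8).map id = l at this
  clear h hl
  induction this with
  | nil => simp
  | cons h1 _ ih => simpa [h1] using ih

/-- An endomorphism which is trivial modulo `a` on the generators is inner. -/
theorem Cl.inner (h : Cl a gs) (hl : gs.length = 8) {F : Type*} [FunLike F G G] [MonoidHomClass F G G]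
    (β : F) (ha : β a = a) (hb : ∀ i < 8, ∃ n, β (E a gs (2 ^ i)) = E a gs (2 ^ i) * a ^ n) :
    ∃ y, ∀ x, β (E a gs x) = E a gs y * E a gs x * (E a gs y)⁻¹ := by
  choose! n hn using hb
  let e := Nat.ofBits fun i : Fin 8 => decide (n i % 2 = 1)
  have c : (allLt 256 fun e => allLt 8 fun i =>
      (fun y => Nat.beq (hm y (Nat.pow 2 i)) (hm (Nat.add (Nat.pow 2 i)
        (Nat.mul 256 (Nat.mod (Nat.div e (Nat.pow 2 i)) 2))) y))
      (Bool.rec (Nat.xor e 255) e (Nat.beq (Nat.mod (pop 8 e) 2) 0))) = true := by decide +kernel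
  have c1 := allLt_iff.1 (allLt_iff.1 c e (Nat.ofBits_lt_two_pow _))
  generalize (Bool.rec (Nat.xor e 255) e (Nat.beq (Nat.mod (pop 8 e) 2) 0) : ℕ) = y at c1
  refine ⟨y, fun x => ?_⟩
  have hg : ∀ g ∈ gs, β g = MulAut.conj (E a gs y) g := gen_mem (a := a) hl fun i hi => by
    have c2 : hm y (2 ^ i) = hm (2 ^ i + 256 * (e / 2 ^ i % 2)) y := Nat.eq_of_beq_eq_true (c1 i hi)
    have c3 : e / 2 ^ i % 2 = n i % 2 := by
      have := Nat.testBit_ofBits_lt (fun i : Fin 8 => decide (n i % 2 = 1)) i hi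
      rw [Nat.testBit_eq_decide_div_mod_eq, decide_eq_decide] at this
      change e / 2 ^ i % 2 = 1 ↔ n i % 2 = 1 at this
      omega
    rw [MulAut.conj_apply, h.mul hl, c2, ← h.mul hl, E_add hl, c3, pow_mod_two h.aa, hn i hi,
      mul_inv_cancel_right]
  have h2 : ∀ (l : List G), (∀ g ∈ l, β g = MulAut.conj (E a gs y) g) → ∀ x,
      β (Ec l x) = MulAut.conj (E a gs y) (Ec l x) := fun l => by
    induction l with
    | nil => intro _ _; show β 1 = MulAut.conj _ 1; rw [map_one, map_one]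
    | cons g l ih =>
      intro hg x
      show β (g ^ _ * _) = MulAut.conj _ (g ^ _ * _)
      rw [map_mul, map_mul, map_pow, map_pow, hg g (by simp), ih fun g h => hg g (by simp [h])]
  have h3 : MulAut.conj (E a gs y) a = a := by
    rw [MulAut.conj_apply, ← (h.commute y).eq, mul_inv_cancel_right]
  show β (Ec gs x * a ^ _) = MulAut.conj (E a gs y) (Ec gs x * a ^ _)
  rw [map_mul, map_mul, map_pow, map_pow, h2 gs hg, ha, h3]

end Cfsg.Agent.ThO
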