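import Cfsg.Agent.ThO.Abs3
import Cfsg.Agent.ThO.PDat
import Cfsg.Agent.CGT.DceMul

set_option autoImplicit false
set_option maxRecDepth 100000
set_option linter.style.haveILetI false

/-! Checking the hypotheses on words; the order of the parabolic subgroup. -/

namespace Cfsg.Agent.ThO

open Cfsg.Agent.CGT Equiv

variable {G : Type*} [Group G] {γ : ℕ → G}

def Ecw : List (List ℕ) → ℕ → List ℕ
  | [], _ => []
  | w :: ws, x => (if x % 2 = 0 then [] else w) ++ Ecw ws (x / 2)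

noncomputable def Ew (x : ℕ) : List ℕ := Ecw GW x ++ List.replicate (x / 256) 0

theorem ev_Ecw (g : ℕ → G) (ws : List (List ℕ)) (x : ℕ) : ev g (Ecw ws x) = Ec (ws.map (ev g)) x := by
  induction ws generalizing x with
  | nil => rfl
  | cons w ws ih =>
    rw [Ecw, ev_append, ih, List.map_cons, Ec]
    rcases Nat.mod_two_eq_zero_or_one x with e | e <;> simp [e]

theorem ev_Ew (γ : ℕ → G) (x : ℕ) : ev (ext γ) (Ew x) = EE γ x := by
  rw [Ew, ev_append, ev_Ecw]
  congr 1
  simp [ev, CGT.ext]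

section
variable {q : List ℕ → List ℕ → Bool}

/-- A sound test for the equality of words. -/
def Snd (γ : ℕ → G) (q : List ℕ → List ℕ → Bool) : Prop :=
  ∀ u v, q u v = true → ev (ext γ) u = ev (ext γ) v

theorem ext0 (γ : ℕ → G) : ext γ 0 = γ 0 := ext_two_mul γ 0

theorem Snd.cl (h : Snd γ q) (h1 : q [0, 0] [] = true)
    (h2 : ∀ w ∈ GW, q (0 :: w) (w ++ [0]) = true ∧ q (w ++ w) [] = true)
    (h3 : GW.Pairwise fun u v => q (v ++ u) (u ++ v ++ [0]) = true) : Cl (γ 0) (gs γ) := by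
  refine ⟨by simpa [ext0] using h _ _ h1, fun g hg => ?_, fun g hg => ?_, ?_⟩
  · obtain ⟨w, hw, rfl⟩ := List.mem_map.1 hg
    have := h _ _ (h2 w hw).1
    rwa [ev_cons, ev_append, ev_singleton, ext0] at this
  · obtain ⟨w, hw, rfl⟩ := List.mem_map.1 hg
    simpa using h _ _ (h2 w hw).2
  · exact List.pairwise_map.2 (h3.imp fun e => by simpa [ext0, mul_assoc] using h _ _ e)

theorem Snd.act (h : Snd γ q) (j : ℕ)
    (h1 : List.Forall₂ (fun w i => q (2 * j :: w ++ [2 * j + 1]) (Ew i) = true) GW (nth [] ims j)) :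
    List.Forall₂ (fun g i => MulAut.conj (γ j) g = EE γ i) (gs γ) (nth [] ims j) :=
  List.forall₂_map_left_iff.2 (h1.imp fun w i e => by
    have := h _ _ e
    rwa [ev_Ew, ev_append, ev_cons, ev_singleton, ext_two_mul, ext_two_mul_add_one] at this)

theorem Snd.cen (h : Snd γ q) (j : ℕ) (h1 : q [0, 2 * j] [2 * j, 0] = true) : Commute (γ 0) (γ j) := by
  have := h _ _ h1
  rwa [ev_cons, ev_cons _ (2 * j) [0], ev_singleton, ev_singleton, ext0, ext_two_mul] at this

end

theorem lowerP (one : ∀ j, 6 ≤ j → γ j = 1) (ne : γ 0 ≠ 1) (cl : Cl (γ 0) (gs γ))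
    (cen : ∀ j < 6, Commute (γ 0) (γ j))
    (act : ∀ j < 6, List.Forall₂ (fun g i => MulAut.conj (γ j) g = EE γ i) (gs γ) (nth [] ims j))
    [Finite (gp γ [0, 2, 4, 6, 8, 10])] : 774144 ≤ Nat.card (gp γ [0, 2, 4, 6, 8, 10]) := by
  have mem : ∀ j, γ j ∈ gp γ [0, 2, 4, 6, 8, 10] := fun j => by
    by_cases hj : j < 6
    · have := ext_mem_gp γ (L := [0, 2, 4, 6, 8, 10]) (a := 2 * j) (by interval_cases j <;> simp)
      rwa [ext_two_mul] at this
    · rw [one j (by omega)]; exact one_mem _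
  have c : (allLt 6 fun j => allLt 512 fun i =>
      Nat.beq (ap 9 511 p_ts [Nat.mul 2 j] i) (actx (nth [] ims j) i)) = true := by decide +kernel
  have inj := fun {x y} => cl.inj (gs_len γ) ne (x := x) (y := y)
  obtain ⟨φ, h1, h2⟩ := exists_hom_rel (gp_sub_top γ _ mem) (N := 512) (p := netPerm p_ns)
    (fun g i j => (g : G) * EE γ i * (g : G)⁻¹ = EE γ j) (fun _ _ => by simp)
    (fun x y i j l _ _ _ e1 e2 => by rw [← e2, ← e1, Subgroup.coe_mul]; group)
    (fun x i j _ _ e => by rw [← e, Subgroup.coe_inv]; group)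
    (fun i j hi hj e => inj hi hj (by simpa using e))
    (fun j => by have := lp_mem p_v (2 * j); rwa [CGT.lp, ext_two_mul] at this)
    (fun j i hi => by
      by_cases hj : j < 6
      · have c1 : ap 9 511 p_ts [2 * j] i = actx (nth [] ims j) i :=
          Nat.eq_of_beq_eq_true (allLt_iff.1 (allLt_iff.1 c j hj) i hi)
        rw [show ap 9 511 p_ts [2 * j] i = _ from ap_eq p_v p_ts_ok _ hi, ev_singleton, CGT.lp,
          ext_two_mul] at c1
        rw [c1]
        exact cl.map (gs_len γ) (MulAut.conj (γ j))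
          (by rw [MulAut.conj_apply, ← (cen j hj).eq, mul_inv_cancel_right]) (act j hj) i
      · rw [netPerm_of_le p_ns (show 6 ≤ j by omega)]
        simp [one j (by omega)])
  have h3 := p_sound ⟨p_v, h1, p_ts_ok⟩
  rw [gp_sub_top γ _ mem] at h3
  have h4 := le_card' h3
  rw [St_nil, Subgroup.card_top, show chainCard p_ls = 387072 by decide +kernel] at h4
  have hb : ∀ b ∈ chainBase [] p_ls, b < 512 := by decide +kernel
  have ha : (⟨_, mem 0⟩ : gp γ [0, 2, 4, 6, 8, 10]) ∈ St φ ⊤ (chainBase [] p_ls) :=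
    ⟨trivial, fun b hb' => inj (bddPerm_lt (h2 _).1 (hb b hb')) (hb b hb')
      (((h2 ⟨_, mem 0⟩).2 b (hb b hb')).symm.trans
        (by rw [(cl.commute b).eq, mul_inv_cancel_right]))⟩
  generalize St φ ⊤ (chainBase [] p_ls) = S at *
  haveI : Nontrivial S := ⟨⟨_, ha⟩, 1, fun e => ne (congrArg (fun x : S => (x.1.1 : G)) e)⟩
  have h6 : 1 < Nat.card S := Finite.one_lt_card
  omega

/-- A word which fixes the base coset lies in the subgroup. -/
theorem mem_of_fix {E : Enum} {m n B : ℕ} {R S : List (List ℕ)} {L : List ℕ} (hl : E.ns.length = m)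
    (hv : validAll B E.ns = true) (hp : Holds (CGT.lp E.ns) R)
    (hf : ∀ H : Subgroup (PG m R), (∀ u ∈ S, ev (ext (pgγ m R)) u ∈ H) → E.Fin (pgγ m R) H n L)
    (h1 : ∀ j, m ≤ j → γ j = 1) (hR : Holds (ext γ) R) {H : Subgroup G}
    (hS : ∀ u ∈ S, ev (ext γ) u ∈ H) {w : List ℕ} (hw : (wordIn L w && fixN E.ns E.b0 w) = true) :
    ev (ext γ) w ∈ H := by
  obtain ⟨π, hπ⟩ := pg_lift h1 hR
  obtain ⟨φ, hφ⟩ := pg_perm hl hp
  have e : ∀ w, π (ev (ext (pgγ m R)) w) = ev (ext γ) w := fun w => by rw [map_ev_ext, funext hπ]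
  rw [Bool.and_eq_true] at hw
  have := (hf (H.comap π) fun u hu => by rw [Subgroup.mem_comap, e]; exact hS u hu).stab hφ
    (wordIn_sound _ hw.1) (by rw [map_ev_ext, funext hφ]; exact fixN_sound hv hw.2)
  rwa [Subgroup.mem_comap, e] at this

end Cfsg.Agent.ThO
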