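import Cfsg.Agent.ThO.Q2
import Cfsg.Agent.ThO.TDat
import Cfsg.Agent.ThL.Cert

set_option autoImplicit false
set_option maxRecDepth 100000
set_option linter.style.haveILetI false

/-! The subgroup `³D₄(2):3` of `Th`: the representation of degree 248 is faithful on it. -/

namespace Cfsg.Agent.ThO

open Cfsg.Agent.CGT Equiv Matrix

theorem count {G X : Type*} [Group G] [Group X] (ρ : G →* X) {H P : Subgroup G} (hPH : P ≤ H)
    {n m : ℕ} (hn : 0 < n) (hH : Bd H (n * m)) (k : ℕ → G) (hk : ∀ i, k i ∈ H)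
    (hi : ∀ i < n, ∀ j < n, ∀ p ∈ P, ∀ p' ∈ P, ρ p * ρ (k i) = ρ p' * ρ (k j) → i = j)
    (hm : m ≤ Nat.card (P.map ρ)) : (∀ h ∈ H, ρ h = 1 → h = 1) ∧
      (∀ h ∈ H, ∃ i < n, ∃ p ∈ P, h = p * k i) ∧ Bd P m := by
  haveI := hH.1
  let g : H → H.map ρ := fun h => ⟨ρ h, h, h.2, rfl⟩
  have gs : Function.Surjective g := by rintro ⟨_, h, hh, rfl⟩; exact ⟨⟨h, hh⟩, rfl⟩
  haveI := Finite.of_surjective g gs
  let f : Fin n × P.map ρ → H.map ρ := fun x =>
    ⟨x.2 * ρ (k x.1), mul_mem (Subgroup.map_mono hPH x.2.2) ⟨_, hk _, rfl⟩⟩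
  have fi : Function.Injective f := by
    rintro ⟨i, _, p, hp, rfl⟩ ⟨j, _, p', hp', rfl⟩ e
    have e1 : ρ p * ρ (k i) = ρ p' * ρ (k j) := congrArg Subtype.val e
    obtain rfl : i = j := Fin.ext (hi _ i.2 _ j.2 p hp p' hp' e1)
    exact Prod.ext rfl (Subtype.ext (mul_right_cancel e1))
  have c1 := Nat.card_le_card_of_injective f fi
  have c2 := Nat.card_le_card_of_surjective g gs
  have c3 := hH.2
  have c4 := Nat.mul_le_mul_left n hm
  have c5 : Nat.card (Fin n × P.map ρ) = n * Nat.card (P.map ρ) := by rw [Nat.card_prod, Nat.card_fin]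
  have gi := (gs.bijective_of_nat_card_le (by omega)).1
  have fs := (fi.bijective_of_nat_card_le (by omega)).2
  have inj : ∀ h ∈ H, ∀ h' ∈ H, ρ h = ρ h' → h = h' := fun h hh h' hh' e =>
    congrArg Subtype.val (gi (a₁ := ⟨h, hh⟩) (a₂ := ⟨h', hh'⟩) (Subtype.ext e))
  refine ⟨fun h hh e => inj h hh 1 H.one_mem (e.trans ρ.map_one.symm), fun h hh => ?_,
    (hH.mono hPH).1, ?_⟩
  · obtain ⟨⟨i, _, p, hp, rfl⟩, e⟩ := fs (g ⟨h, hh⟩)
    exact ⟨i, i.2, p, hp, inj _ hh _ (mul_mem (hPH hp) (hk _))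
      ((map_mul ρ _ _).trans (congrArg Subtype.val e)).symm⟩
  · haveI : Finite (P.map ρ) := Finite.of_injective _ (Subgroup.inclusion_injective (Subgroup.map_mono hPH))
    have := Nat.card_le_card_of_injective (fun p : P => (⟨ρ p, p, p.2, rfl⟩ : P.map ρ))
      fun p p' e => Subtype.ext (inj _ (hPH p.2) _ (hPH p'.2) (congrArg Subtype.val e))
    exact this.trans (Nat.le_of_mul_le_mul_left (by omega) hn)

theorem Snd.wg {G : Type*} [Group G] {γ : ℕ → G} {q : List ℕ → List ℕ → Bool} (h : Snd γ q)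
    (W : List (List ℕ)) : Snd (wg γ W) fun u v => q (expand (dbl W) u) (expand (dbl W) v) :=
  fun u v e => by rw [← ev_expand_dbl, ← ev_expand_dbl]; exact h _ _ e

theorem Snd.map {G X : Type*} [Group G] [Group X] {γ : ℕ → G} {q : List ℕ → List ℕ → Bool}
    (h : Snd γ q) (π : G →* X) : Snd (fun j => π (γ j)) q :=
  fun u v e => by rw [← map_ev_ext, ← map_ev_ext, h _ _ e]

/-- The words of the representatives. -/
noncomputable def kw (i : ℕ) : List ℕ := ((prg FreeMonoid.of ps).getD i 1).toList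

theorem prg_get {M : Type*} [Monoid M] (g : ℕ → M) :
    (prg g ps).length = 819 ∧ ∀ i, (prg g ps).getD i 1 = ev g (kw i) := by
  have e := map_prg (FreeMonoid.lift g) FreeMonoid.of ps
  simp only [FreeMonoid.lift_eval_of] at e
  rw [← e]
  refine ⟨by rw [List.length_map]; decide +kernel, fun i => ?_⟩
  rw [← map_one (FreeMonoid.lift g), List.getD_map]
  exact FreeMonoid.lift_apply _ _

abbrev Th : Type := Cfsg.Spor.Th
noncomputable abbrev xp (w : List ℕ) : List ℕ := expand (dbl WX) w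
noncomputable abbrev HH : Subgroup Th := gp δ [0, 2, 4, 6, 8, 10, 12]
noncomputable abbrev γc : ℕ → Th := wg δ WC
noncomputable abbrev γp : ℕ → Th := wg δ WP
noncomputable abbrev PP : Subgroup Th := gp γp [0, 2, 4, 6, 8, 10]
noncomputable abbrev kk (i : ℕ) : Th := ev (ext (wg δ WK)) (kw i)

theorem hX : Holds (ext (wg δ WX)) ThL.RR := hD.relsFrom (I := []) (by decide +kernel)

theorem sig : ∃ σ : ThL.K →* Th, ∀ j, σ (ThL.γ j) = wg δ WX j :=
  pg_lift (fun _ hj => wg_of_le _ hj) hX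

noncomputable def σ : ThL.K →* Th := sig.choose
noncomputable def φ : ThL.K →* Perm ℕ := ThL.cert.choose
noncomputable def ρ : Th →* MMˣ := rep.choose

theorem σ_ev (w : List ℕ) : σ (ev (ext ThL.γ) w) = ev (ext δ) (xp w) := by
  rw [map_ev_ext, ev_expand_dbl]; congr 2; exact funext sig.choose_spec

theorem ρ_ev (w : List ℕ) : ρ (ev (ext δ) w) = ev (ext (un As1)) (expand (dbl Wb) w) := by
  rw [map_ev_ext, ev_expand_dbl]; congr 2; exact funext rep.choose_spec.2.1

noncomputable def eqK (u v : List ℕ) : Bool := eqB 15 ThL.m_ts [2, 3, 6, 1, 0] u v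

theorem eqK_sound {u v : List ℕ} (h : eqK u v = true) : ev (ext δ) (xp u) = ev (ext δ) (xp v) := by
  have C := ThL.cert.choose_spec
  rw [← σ_ev, ← σ_ev, eqB_sound C.M C.base (by decide +kernel) trivial trivial h]

noncomputable def eqG (u v : List ℕ) : Bool := eqK u v && (beqL (xp u) u && beqL (xp v) v)

theorem eqG_snd : Snd δ eqG := fun u v h => by
  simp only [eqG, Bool.and_eq_true] at h
  rw [← beqL_sound h.2.1, ← beqL_sound h.2.2]
  exact eqK_sound h.1

theorem wg_mem {W : List (List ℕ)} (h : wordsIn [0, 2, 4, 6, 8, 10, 12] W = true) (w : List ℕ) :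
    ev (ext (wg δ W)) w ∈ HH := ev_mem _ _ _ fun a _ => ext_wg_mem (wordsIn_sound δ h) a

theorem bdH : Bd HH (819 * 774144) :=
  (ThL.bd0 hX).mono (gp_le_gp_wg δ (by decide +kernel))

theorem PP_le : PP ≤ HH := gp_le fun a _ => ext_wg_mem (wordsIn_sound δ (by decide +kernel)) a

theorem lets1 : Lets (fun a => ((ext (un As1) a : MMˣ) : MM)) As1 := (un_spec wf1 (m := 15) rfl inv_all).1

theorem lets0 : Lets (fun a => (ρ (ext (wg δ WK) a) : MM)) As := fun a ha => by
  have ha' : a < 28 := ha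
  have e : nth dA As a = nth dA As1 a := by
    rw [nth_eq, nth_eq, As1, List.getD_append _ _ _ _ ha]
  have e2 : ρ (ext (wg δ WK) a) = ext (un As1) a := by
    rw [map_ext]
    have := rep.choose_spec.2.2 (a / 2) (by omega)
    unfold CGT.ext
    beta_reduce
    rw [show ρ (wg δ WK (a / 2)) = _ from this]
  rw [e]
  beta_reduce
  rw [e2]
  exact lets1 a (ha'.trans_le (by decide))

theorem w0 (W : List (List ℕ)) : wg δ ([0] :: W) 0 = δ 0 := (ev_singleton _ _).trans (ext0 _)

theorem ρ_a : (ρ (δ 0) : MM) = diagonal fun i : Fin 248 => if (i : ℕ) < 120 then 1 else -1 := by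
  rw [← diagB_sound diag0, ← (lets1 0 (by decide)).2, ← ext0 δ, ← ev_singleton (ext δ), ρ_ev]
  exact congrArg _ (ev_singleton _ _)

theorem ρ_a_ne : ρ (δ 0) ≠ 1 := fun e => by
  have := congrFun (congrFun ρ_a 200) 200
  rw [e, Units.val_one, one_apply_eq, diagonal_apply_eq] at this
  exact absurd this (by decide +kernel)

/-- The invariant of the cosets of the centraliser. -/
noncomputable def vv (u : MMˣ) : ℕ := (Φ ((u : MM) *ᵥ vec X0)).val

theorem vv_inv {c : Th} (h : Commute (δ 0) c) (u : MMˣ) : vv (ρ c * u) = vv u := by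
  rw [vv, Units.val_mul, ← mulVec_mulVec, Φ_inv (u := ρ c) ρ_a (rep.choose_spec.1 c) (h.map ρ).eq]
  rfl

theorem tst_kk {tst : ℕ → ℕ → Bool} {w : List ℕ}
    (h : test As As1 tst ps X0 (expand (dbl Wb) w) = true) {i : ℕ} (hi : i < 819) :
    tst i (vv (ρ (kk i * ev (ext δ) w))) = true := by
  have := test_sound lets0 lets1 h i (by rw [(prg_get _).1]; exact hi)
  rw [(prg_get _).2, ← ev_val (ext (un As1)), ← ρ_ev] at this
  rw [vv, map_mul, Units.val_mul, kk, map_ev, ev_val]
  exact this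

theorem vv_kk {i : ℕ} (hi : i < 819) : gt TV (vv (ρ (kk i))) = vv (ρ (kk i)) * 1024 + i := by
  have := tst_kk (w := []) t0 hi
  rw [ev_nil, mul_one] at this
  exact Nat.eq_of_beq_eq_true this

theorem PP_comm {p : Th} (hp : p ∈ PP) : Commute (δ 0) p :=
  Subgroup.mem_centralizer_singleton_iff.1 (gp_le (H := Subgroup.centralizer {δ 0}) (fun a ha => by
    have c : ∀ a ∈ [0, 2, 4, 6, 8, 10], eqG (expand (dbl WP) [a] ++ [0]) (0 :: expand (dbl WP) [a]) = true := by
      decide +kernel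
    have := eqG_snd _ _ (c a ha)
    rw [ev_append, ev_singleton, ev_cons, ev_expand_dbl, ev_singleton, ext0] at this
    exact Subgroup.mem_centralizer_singleton_iff.2 this) hp) |>.symm

theorem cnt_H : (∀ h ∈ HH, ρ h = 1 → h = 1) ∧ (∀ h ∈ HH, ∃ i < 819, ∃ p ∈ PP, h = p * kk i) ∧
    Bd PP 774144 := by
  refine count ρ PP_le (by norm_num) bdH kk (fun i => wg_mem (by decide +kernel) _)
    (fun i hi j hj p hp p' hp' e => ?_) ?_
  · have e1 := congrArg vv e
    rw [vv_inv (PP_comm hp), vv_inv (PP_comm hp')] at e1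
    have h1 := vv_kk hi
    have h2 := vv_kk hj
    rw [e1] at h1
    omega
  · have S := (eqG_snd.wg WP).map ρ
    have le : gp (fun j => ρ (γp j)) [0, 2, 4, 6, 8, 10] ≤ PP.map ρ :=
      gp_le fun a ha => ⟨_, ext_mem_gp _ ha, map_ext ρ _ a⟩
    haveI := (bdH.mono PP_le).1
    haveI : Finite (PP.map ρ) := Finite.of_surjective (fun p : PP => (⟨ρ p, p, p.2, rfl⟩ : PP.map ρ))
      (by rintro ⟨_, p, hp, rfl⟩; exact ⟨⟨p, hp⟩, rfl⟩)
    haveI := Finite.of_injective _ (Subgroup.inclusion_injective le)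
    have cl := S.cl (by decide +kernel) (by decide +kernel) (by decide +kernel)
    have c1 : ∀ j < 6, eqG (expand (dbl WP) [0, 2 * j]) (expand (dbl WP) [2 * j, 0]) = true := by
      decide +kernel
    have c2 : ∀ j < 6, List.Forall₂ (fun w i => eqG (expand (dbl WP) (2 * j :: w ++ [2 * j + 1]))
        (expand (dbl WP) (Ew i)) = true) GW (nth [] ims j) := by decide +kernel
    exact (lowerP (γ := fun j => ρ (γp j)) (fun j hj => by rw [γp, wg_of_le _ hj, map_one])
      (by rw [γp, WP, w0]; exact ρ_a_ne) cl (fun j hj => S.cen j (c1 j hj))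
      fun j hj => S.act j (c2 j hj)).trans (Subgroup.card_le_of_le le)

theorem cent_H {h : Th} (hh : h ∈ HH) (hc : Commute (δ 0) h) : h ∈ PP := by
  obtain ⟨i, hi, p, hp, rfl⟩ := cnt_H.2.1 h hh
  have e0 : kk 0 = 1 := by rw [kk, show kw 0 = [] by decide +kernel, ev_nil]
  have e1 := vv_inv hc 1
  rw [mul_one, map_mul, vv_inv (PP_comm hp), ← map_one ρ, ← e0] at e1
  have h1 := vv_kk hi
  have h2 := vv_kk (i := 0) (by norm_num)
  rw [e1] at h1
  obtain rfl : i = 0 := by omega
  rwa [e0, mul_one]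

theorem hRC : Holds (ext γc) RC := hD.relsFrom (I := []) (by decide +kernel)

theorem memC_sound {w : List ℕ} (h : memC w = true) : ev (ext δ) w ∈ HH := by
  rw [memC, Bool.and_eq_true] at h
  rw [← beqL_sound h.1, ev_expand_dbl]
  exact mem_of_fix (E := lc_E) (m := 7) rfl lc_v lc_p (fun _ => lc_fin (pg_holds _ _))
    (fun _ hj => wg_of_le _ hj) hRC
    (fun u hu => by rw [← ev_expand_dbl]; exact wordIn_sound _ (by revert u; decide +kernel)) h.2

theorem memD_sound {w : List ℕ} (h : memD w = true) : ev (ext δ) w ∈ HH := by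
  rw [memD, Bool.and_eq_true] at h
  rw [← beqL_sound h.1, ev_expand_dbl]
  exact mem_of_fix (E := ld_E) (m := 6) rfl ld_v ld_p (fun _ => ld_fin (pg_holds _ _))
    (fun _ hj => wg_of_le _ hj) (hD.relsFrom (I := []) (by decide +kernel))
    (fun u hu => by rw [← ev_expand_dbl]; exact wordIn_sound _ (by revert u; decide +kernel)) h.2

theorem q2_snd : Snd δ q2 := fun u v h => by
  simp only [q2, Bool.and_eq_true, Bool.or_eq_true] at h
  rw [← mul_inv_eq_one, ← ev_invW, ← ev_append]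
  exact cnt_H.1 _ (h.1.elim memC_sound memD_sound) ((ρ_ev _).trans (isOne_un lets1 h.2))

end Cfsg.Agent.ThO
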