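import Cfsg.Agent.ThO.Test

set_option autoImplicit false
set_option Elab.async false
set_option maxRecDepth 100000
set_option linter.all false

namespace Cfsg.Agent.ThO
open Cfsg.Agent.CGT

noncomputable def xma : BT Row := (.node 124 (.node 62 (.node 31 (.node 15 (.node 7 (.node 3 (.node 1 (.leaf ⟨[0],[],0⟩) (.node 2 (.leaf ⟨[1],[],0⟩) (.leaf ⟨[2],[],0⟩))) (.node 5 (.node 4 (.leaf ⟨[3],[],0⟩) (.leaf ⟨[4],[],0⟩)) (.node 6 (.leaf ⟨[5],[],0⟩) (.leaf ⟨[6],[],0⟩)))) (.node 11 (.node 9 (.node 8 (.leaf ⟨[7],[],0⟩) (.leaf ⟨[8],[],0⟩)) (.node 10 (.leaf ⟨[9],[],0⟩) (.leaf ⟨[10],[],0⟩))) (.node 13 (.node 12 (.leaf ⟨[11],[],0⟩) (.leaf ⟨[12],[],0⟩)) (.node 14 (.leaf ⟨[13],[],0⟩) (.leaf ⟨[14],[],0⟩))))) (.node 23 (.node 19 (.node 17 (.node 16 (.leaf ⟨[15],[],0⟩) (.leaf ⟨[16],[],0⟩)) (.node 18 (.leaf ⟨[17],[],0⟩) (.leaf ⟨[18],[],0⟩))) (.node 21 (.node 20 (.leaf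 ⟨[19],[],0⟩) (.leaf ⟨[20],[],0⟩)) (.node 22 (.leaf ⟨[21],[],0⟩) (.leaf ⟨[22],[],0⟩)))) (.node 27 (.node 25 (.node 24 (.leaf ⟨[23],[],0⟩) (.leaf ⟨[24],[],0⟩)) (.node 26 (.leaf ⟨[25],[],0⟩) (.leaf ⟨[26],[],0⟩))) (.node 29 (.node 28 (.leaf ⟨[27],[],0⟩) (.leaf ⟨[28],[],0⟩)) (.node 30 (.leaf ⟨[29],[],0⟩) (.leaf ⟨[30],[],0⟩)))))) (.node 46 (.node 38 (.node 34 (.node 32 (.leaf ⟨[31],[],0⟩) (.node 33 (.leaf ⟨[32],[],0⟩) (.leaf ⟨[33],[],0⟩))) (.node 36 (.node 35 (.leaf ⟨[34],[],0⟩) (.leaf ⟨[35],[],0⟩)) (.node 37 (.leaf ⟨[36],[],0⟩) (.leaf ⟨[37],[],0⟩)))) (.node 42 (.node 40 (.node 39 (.leaf ⟨[38],[],0⟩) (.leaf ⟨[39],[],0⟩)) (.node 41 (.leaf ⟨[40],[],0⟩) (.leaf ⟨[41],[],0⟩))) (.node 44 (.node 43 (.leaf ⟨[42],[],0⟩) (.leaf ⟨[43],[],0⟩)) (.node 45 (.leaf ⟨[44],[],0⟩) (.leaf ⟨[45],[],0⟩))))) (.node 54 (.node 50 (.node 48 (.node 47 (.leaf ⟨[46],[],0⟩) (.leaf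 ⟨[47],[],0⟩)) (.node 49 (.leaf ⟨[48],[],0⟩) (.leaf ⟨[49],[],0⟩))) (.node 52 (.node 51 (.leaf ⟨[50],[],0⟩) (.leaf ⟨[51],[],0⟩)) (.node 53 (.leaf ⟨[52],[],0⟩) (.leaf ⟨[53],[],0⟩)))) (.node 58 (.node 56 (.node 55 (.leaf ⟨[54],[],0⟩) (.leaf ⟨[55],[],0⟩)) (.node 57 (.leaf ⟨[56],[],0⟩) (.leaf ⟨[57],[],0⟩))) (.node 60 (.node 59 (.leaf ⟨[58],[],0⟩) (.leaf ⟨[59],[],0⟩)) (.node 61 (.leaf ⟨[60],[],0⟩) (.leaf ⟨[61],[],0⟩))))))) (.node 93 (.node 77 (.node 69 (.node 65 (.node 63 (.leaf ⟨[62],[],0⟩) (.node 64 (.leaf ⟨[63],[],0⟩) (.leaf ⟨[64],[],0⟩))) (.node 67 (.node 66 (.leaf ⟨[65],[],0⟩) (.leaf ⟨[66],[],0⟩)) (.node 68 (.leaf ⟨[67],[],0⟩) (.leaf ⟨[68],[],0⟩)))) (.node 73 (.node 71 (.node 70 (.leaf ⟨[69],[],0⟩) (.leaf ⟨[70],[],0⟩)) (.node 72 (.leaf ⟨[71],[],0⟩) (.leaf ⟨[72],[],0⟩))) (.node 75 (.node 74 (.leaf ⟨[73],[],0⟩) (.leaf ⟨[74],[],0⟩)) (.node 76 (.leaf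 ⟨[75],[],0⟩) (.leaf ⟨[76],[],0⟩))))) (.node 85 (.node 81 (.node 79 (.node 78 (.leaf ⟨[77],[],0⟩) (.leaf ⟨[78],[],0⟩)) (.node 80 (.leaf ⟨[79],[],0⟩) (.leaf ⟨[80],[],0⟩))) (.node 83 (.node 82 (.leaf ⟨[81],[],0⟩) (.leaf ⟨[82],[],0⟩)) (.node 84 (.leaf ⟨[83],[],0⟩) (.leaf ⟨[84],[],0⟩)))) (.node 89 (.node 87 (.node 86 (.leaf ⟨[85],[],0⟩) (.leaf ⟨[86],[],0⟩)) (.node 88 (.leaf ⟨[87],[],0⟩) (.leaf ⟨[88],[],0⟩))) (.node 91 (.node 90 (.leaf ⟨[89],[],0⟩) (.leaf ⟨[90],[],0⟩)) (.node 92 (.leaf ⟨[91],[],0⟩) (.leaf ⟨[92],[],0⟩)))))) (.node 108 (.node 100 (.node 96 (.node 94 (.leaf ⟨[93],[],0⟩) (.node 95 (.leaf ⟨[94],[],0⟩) (.leaf ⟨[95],[],0⟩))) (.node 98 (.node 97 (.leaf ⟨[96],[],0⟩) (.leaf ⟨[97],[],0⟩)) (.node 99 (.leaf ⟨[98],[],0⟩) (.leaf ⟨[99],[],0⟩)))) (.node 104 (.node 102 (.node 101 (.leaf ⟨[100],[],0⟩) (.leaf ⟨[101],[],0⟩)) (.node 103 (.leaf ⟨[102],[],0⟩)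 (.leaf ⟨[103],[],0⟩))) (.node 106 (.node 105 (.leaf ⟨[104],[],0⟩) (.leaf ⟨[105],[],0⟩)) (.node 107 (.leaf ⟨[106],[],0⟩) (.leaf ⟨[107],[],0⟩))))) (.node 116 (.node 112 (.node 110 (.node 109 (.leaf ⟨[108],[],0⟩) (.leaf ⟨[109],[],0⟩)) (.node 111 (.leaf ⟨[110],[],0⟩) (.leaf ⟨[111],[],0⟩))) (.node 114 (.node 113 (.leaf ⟨[112],[],0⟩) (.leaf ⟨[113],[],0⟩)) (.node 115 (.leaf ⟨[114],[],0⟩) (.leaf ⟨[115],[],0⟩)))) (.node 120 (.node 118 (.node 117 (.leaf ⟨[116],[],0⟩) (.leaf ⟨[117],[],0⟩)) (.node 119 (.leaf ⟨[118],[],0⟩) (.leaf ⟨[119],[],0⟩))) (.node 122 (.node 121 (.leaf ⟨[],[120],0⟩) (.leaf ⟨[],[121],0⟩)) (.node 123 (.leaf ⟨[],[122],0⟩) (.leaf ⟨[],[123],0⟩)))))))) (.node 186 (.node 155 (.node 139 (.node 131 (.node 127 (.node 125 (.leaf ⟨[],[124],0⟩) (.node 126 (.leaf ⟨[],[125],0⟩) (.leaf ⟨[],[126],0⟩))) (.node 129 (.node 128 (.leaf ⟨[],[127],0⟩) (.leaf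 ⟨[],[128],0⟩)) (.node 130 (.leaf ⟨[],[129],0⟩) (.leaf ⟨[],[130],0⟩)))) (.node 135 (.node 133 (.node 132 (.leaf ⟨[],[131],0⟩) (.leaf ⟨[],[132],0⟩)) (.node 134 (.leaf ⟨[],[133],0⟩) (.leaf ⟨[],[134],0⟩))) (.node 137 (.node 136 (.leaf ⟨[],[135],0⟩) (.leaf ⟨[],[136],0⟩)) (.node 138 (.leaf ⟨[],[137],0⟩) (.leaf ⟨[],[138],0⟩))))) (.node 147 (.node 143 (.node 141 (.node 140 (.leaf ⟨[],[139],0⟩) (.leaf ⟨[],[140],0⟩)) (.node 142 (.leaf ⟨[],[141],0⟩) (.leaf ⟨[],[142],0⟩))) (.node 145 (.node 144 (.leaf ⟨[],[143],0⟩) (.leaf ⟨[],[144],0⟩)) (.node 146 (.leaf ⟨[],[145],0⟩) (.leaf ⟨[],[146],0⟩)))) (.node 151 (.node 149 (.node 148 (.leaf ⟨[],[147],0⟩) (.leaf ⟨[],[148],0⟩)) (.node 150 (.leaf ⟨[],[149],0⟩) (.leaf ⟨[],[150],0⟩))) (.node 153 (.node 152 (.leaf ⟨[],[151],0⟩) (.leaf ⟨[],[152],0⟩)) (.node 154 (.leaf ⟨[],[153],0⟩) (.leaf ⟨[],[154],0⟩)))))) (.node 170 (.node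 162 (.node 158 (.node 156 (.leaf ⟨[],[155],0⟩) (.node 157 (.leaf ⟨[],[156],0⟩) (.leaf ⟨[],[157],0⟩))) (.node 160 (.node 159 (.leaf ⟨[],[158],0⟩) (.leaf ⟨[],[159],0⟩)) (.node 161 (.leaf ⟨[],[160],0⟩) (.leaf ⟨[],[161],0⟩)))) (.node 166 (.node 164 (.node 163 (.leaf ⟨[],[162],0⟩) (.leaf ⟨[],[163],0⟩)) (.node 165 (.leaf ⟨[],[164],0⟩) (.leaf ⟨[],[165],0⟩))) (.node 168 (.node 167 (.leaf ⟨[],[166],0⟩) (.leaf ⟨[],[167],0⟩)) (.node 169 (.leaf ⟨[],[168],0⟩) (.leaf ⟨[],[169],0⟩))))) (.node 178 (.node 174 (.node 172 (.node 171 (.leaf ⟨[],[170],0⟩) (.leaf ⟨[],[171],0⟩)) (.node 173 (.leaf ⟨[],[172],0⟩) (.leaf ⟨[],[173],0⟩))) (.node 176 (.node 175 (.leaf ⟨[],[174],0⟩) (.leaf ⟨[],[175],0⟩)) (.node 177 (.leaf ⟨[],[176],0⟩) (.leaf ⟨[],[177],0⟩)))) (.node 182 (.node 180 (.node 179 (.leaf ⟨[],[178],0⟩) (.leaf ⟨[],[179],0⟩)) (.node 181 (.leaf ⟨[],[180],0⟩) (.leaf ⟨[],[181],0⟩)))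 (.node 184 (.node 183 (.leaf ⟨[],[182],0⟩) (.leaf ⟨[],[183],0⟩)) (.node 185 (.leaf ⟨[],[184],0⟩) (.leaf ⟨[],[185],0⟩))))))) (.node 217 (.node 201 (.node 193 (.node 189 (.node 187 (.leaf ⟨[],[186],0⟩) (.node 188 (.leaf ⟨[],[187],0⟩) (.leaf ⟨[],[188],0⟩))) (.node 191 (.node 190 (.leaf ⟨[],[189],0⟩) (.leaf ⟨[],[190],0⟩)) (.node 192 (.leaf ⟨[],[191],0⟩) (.leaf ⟨[],[192],0⟩)))) (.node 197 (.node 195 (.node 194 (.leaf ⟨[],[193],0⟩) (.leaf ⟨[],[194],0⟩)) (.node 196 (.leaf ⟨[],[195],0⟩) (.leaf ⟨[],[196],0⟩))) (.node 199 (.node 198 (.leaf ⟨[],[197],0⟩) (.leaf ⟨[],[198],0⟩)) (.node 200 (.leaf ⟨[],[199],0⟩) (.leaf ⟨[],[200],0⟩))))) (.node 209 (.node 205 (.node 203 (.node 202 (.leaf ⟨[],[201],0⟩) (.leaf ⟨[],[202],0⟩)) (.node 204 (.leaf ⟨[],[203],0⟩) (.leaf ⟨[],[204],0⟩))) (.node 207 (.node 206 (.leaf ⟨[],[205],0⟩) (.leaf ⟨[],[206],0⟩)) (.node 208 (.leaf ⟨[],[207],0⟩)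 (.leaf ⟨[],[208],0⟩)))) (.node 213 (.node 211 (.node 210 (.leaf ⟨[],[209],0⟩) (.leaf ⟨[],[210],0⟩)) (.node 212 (.leaf ⟨[],[211],0⟩) (.leaf ⟨[],[212],0⟩))) (.node 215 (.node 214 (.leaf ⟨[],[213],0⟩) (.leaf ⟨[],[214],0⟩)) (.node 216 (.leaf ⟨[],[215],0⟩) (.leaf ⟨[],[216],0⟩)))))) (.node 232 (.node 224 (.node 220 (.node 218 (.leaf ⟨[],[217],0⟩) (.node 219 (.leaf ⟨[],[218],0⟩) (.leaf ⟨[],[219],0⟩))) (.node 222 (.node 221 (.leaf ⟨[],[220],0⟩) (.leaf ⟨[],[221],0⟩)) (.node 223 (.leaf ⟨[],[222],0⟩) (.leaf ⟨[],[223],0⟩)))) (.node 228 (.node 226 (.node 225 (.leaf ⟨[],[224],0⟩) (.leaf ⟨[],[225],0⟩)) (.node 227 (.leaf ⟨[],[226],0⟩) (.leaf ⟨[],[227],0⟩))) (.node 230 (.node 229 (.leaf ⟨[],[228],0⟩) (.leaf ⟨[],[229],0⟩)) (.node 231 (.leaf ⟨[],[230],0⟩) (.leaf ⟨[],[231],0⟩))))) (.node 240 (.node 236 (.node 234 (.node 233 (.leaf ⟨[],[232],0⟩) (.leaf ⟨[],[233],0⟩))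 (.node 235 (.leaf ⟨[],[234],0⟩) (.leaf ⟨[],[235],0⟩))) (.node 238 (.node 237 (.leaf ⟨[],[236],0⟩) (.leaf ⟨[],[237],0⟩)) (.node 239 (.leaf ⟨[],[238],0⟩) (.leaf ⟨[],[239],0⟩)))) (.node 244 (.node 242 (.node 241 (.leaf ⟨[],[240],0⟩) (.leaf ⟨[],[241],0⟩)) (.node 243 (.leaf ⟨[],[242],0⟩) (.leaf ⟨[],[243],0⟩))) (.node 246 (.node 245 (.leaf ⟨[],[244],0⟩) (.leaf ⟨[],[245],0⟩)) (.node 247 (.leaf ⟨[],[246],0⟩) (.leaf ⟨[],[247],0⟩)))))))))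
noncomputable def xmc : BT Row := (.node 124 (.node 62 (.node 31 (.node 15 (.node 7 (.node 3 (.node 1 (.leaf ⟨[],[0],0⟩) (.node 2 (.leaf ⟨[],[1],0⟩) (.leaf ⟨[2],[],0⟩))) (.node 5 (.node 4 (.leaf ⟨[3],[],0⟩) (.leaf ⟨[],[4],0⟩)) (.node 6 (.leaf ⟨[5],[],0⟩) (.leaf ⟨[6],[],0⟩)))) (.node 11 (.node 9 (.node 8 (.leaf ⟨[7],[],0⟩) (.leaf ⟨[8],[],0⟩)) (.node 10 (.leaf ⟨[],[9],0⟩) (.leaf ⟨[],[10],0⟩))) (.node 13 (.node 12 (.leaf ⟨[11],[],0⟩) (.leaf ⟨[12],[],0⟩)) (.node 14 (.leaf ⟨[13],[],0⟩) (.leaf ⟨[14],[],0⟩))))) (.node 23 (.node 19 (.node 17 (.node 16 (.leaf ⟨[],[15],0⟩) (.leaf ⟨[16],[],0⟩)) (.node 18 (.leaf ⟨[17],[],0⟩) (.leaf ⟨[],[18],0⟩))) (.node 21 (.node 20 (.leaf ⟨[],[19],0⟩) (.leaf ⟨[],[20],0⟩)) (.node 22 (.leaf ⟨[21],[],0⟩) (.leaf ⟨[22],[],0⟩)))) (.node 27 (.node 25 (.node 24 (.leaf ⟨[23],[],0⟩) (.leaf ⟨[24],[],0⟩)) (.node 26 (.leaf ⟨[],[25],0⟩)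 (.leaf ⟨[26],[],0⟩))) (.node 29 (.node 28 (.leaf ⟨[27],[],0⟩) (.leaf ⟨[],[28],0⟩)) (.node 30 (.leaf ⟨[],[29],0⟩) (.leaf ⟨[30],[],0⟩)))))) (.node 46 (.node 38 (.node 34 (.node 32 (.leaf ⟨[31],[],0⟩) (.node 33 (.leaf ⟨[],[32],0⟩) (.leaf ⟨[],[33],0⟩))) (.node 36 (.node 35 (.leaf ⟨[],[34],0⟩) (.leaf ⟨[],[35],0⟩)) (.node 37 (.leaf ⟨[],[36],0⟩) (.leaf ⟨[37],[],0⟩)))) (.node 42 (.node 40 (.node 39 (.leaf ⟨[38],[],0⟩) (.leaf ⟨[39],[],0⟩)) (.node 41 (.leaf ⟨[40],[],0⟩) (.leaf ⟨[],[41],0⟩))) (.node 44 (.node 43 (.leaf ⟨[42],[],0⟩) (.leaf ⟨[43],[],0⟩)) (.node 45 (.leaf ⟨[],[44],0⟩) (.leaf ⟨[],[45],0⟩))))) (.node 54 (.node 50 (.node 48 (.node 47 (.leaf ⟨[46],[],0⟩) (.leaf ⟨[47],[],0⟩)) (.node 49 (.leaf ⟨[],[48],0⟩) (.leaf ⟨[],[49],0⟩))) (.node 52 (.node 51 (.leaf ⟨[],[50],0⟩) (.leaf ⟨[],[51],0⟩)) (.node 53 (.leaf ⟨[52],[],0⟩) (.leaf ⟨[53],[],0⟩)))) (.node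 58 (.node 56 (.node 55 (.leaf ⟨[],[54],0⟩) (.leaf ⟨[],[55],0⟩)) (.node 57 (.leaf ⟨[],[56],0⟩) (.leaf ⟨[],[57],0⟩))) (.node 60 (.node 59 (.leaf ⟨[],[58],0⟩) (.leaf ⟨[],[59],0⟩)) (.node 61 (.leaf ⟨[],[60],0⟩) (.leaf ⟨[],[61],0⟩))))))) (.node 93 (.node 77 (.node 69 (.node 65 (.node 63 (.leaf ⟨[62],[],0⟩) (.node 64 (.leaf ⟨[63],[],0⟩) (.leaf ⟨[],[64],0⟩))) (.node 67 (.node 66 (.leaf ⟨[65],[],0⟩) (.leaf ⟨[66],[],0⟩)) (.node 68 (.leaf ⟨[67],[],0⟩) (.leaf ⟨[68],[],0⟩)))) (.node 73 (.node 71 (.node 70 (.leaf ⟨[],[69],0⟩) (.leaf ⟨[70],[],0⟩)) (.node 72 (.leaf ⟨[71],[],0⟩) (.leaf ⟨[],[72],0⟩))) (.node 75 (.node 74 (.leaf ⟨[],[73],0⟩) (.leaf ⟨[74],[],0⟩)) (.node 76 (.leaf ⟨[75],[],0⟩) (.leaf ⟨[],[76],0⟩))))) (.node 85 (.node 81 (.node 79 (.node 78 (.leaf ⟨[],[77],0⟩) (.leaf ⟨[],[78],0⟩)) (.node 80 (.leaf ⟨[],[79],0⟩) (.leaf ⟨[80],[],0⟩))) (.node 83 (.node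 82 (.leaf ⟨[81],[],0⟩) (.leaf ⟨[],[82],0⟩)) (.node 84 (.leaf ⟨[],[83],0⟩) (.leaf ⟨[],[84],0⟩)))) (.node 89 (.node 87 (.node 86 (.leaf ⟨[],[85],0⟩) (.leaf ⟨[],[86],0⟩)) (.node 88 (.leaf ⟨[],[87],0⟩) (.leaf ⟨[],[88],0⟩))) (.node 91 (.node 90 (.leaf ⟨[],[89],0⟩) (.leaf ⟨[90],[],0⟩)) (.node 92 (.leaf ⟨[91],[],0⟩) (.leaf ⟨[92],[],0⟩)))))) (.node 108 (.node 100 (.node 96 (.node 94 (.leaf ⟨[93],[],0⟩) (.node 95 (.leaf ⟨[],[94],0⟩) (.leaf ⟨[],[95],0⟩))) (.node 98 (.node 97 (.leaf ⟨[],[96],0⟩) (.leaf ⟨[],[97],0⟩)) (.node 99 (.leaf ⟨[],[98],0⟩) (.leaf ⟨[],[99],0⟩)))) (.node 104 (.node 102 (.node 101 (.leaf ⟨[],[100],0⟩) (.leaf ⟨[],[101],0⟩)) (.node 103 (.leaf ⟨[102],[],0⟩) (.leaf ⟨[103],[],0⟩))) (.node 106 (.node 105 (.leaf ⟨[],[104],0⟩) (.leaf ⟨[],[105],0⟩)) (.node 107 (.leaf ⟨[],[106],0⟩) (.leaf ⟨[],[107],0⟩))))) (.node 116 (.node 112 (.node 110 (.node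 109 (.leaf ⟨[108],[],0⟩) (.leaf ⟨[109],[],0⟩)) (.node 111 (.leaf ⟨[],[110],0⟩) (.leaf ⟨[],[111],0⟩))) (.node 114 (.node 113 (.leaf ⟨[112],[],0⟩) (.leaf ⟨[113],[],0⟩)) (.node 115 (.leaf ⟨[],[114],0⟩) (.leaf ⟨[115],[],0⟩)))) (.node 120 (.node 118 (.node 117 (.leaf ⟨[116],[],0⟩) (.leaf ⟨[117],[],0⟩)) (.node 119 (.leaf ⟨[118],[],0⟩) (.leaf ⟨[],[119],0⟩))) (.node 122 (.node 121 (.leaf ⟨[120],[],0⟩) (.leaf ⟨[121],[],0⟩)) (.node 123 (.leaf ⟨[122],[],0⟩) (.leaf ⟨[123],[],0⟩)))))))) (.node 186 (.node 155 (.node 139 (.node 131 (.node 127 (.node 125 (.leaf ⟨[124],[],0⟩) (.node 126 (.leaf ⟨[125],[],0⟩) (.leaf ⟨[126],[],0⟩))) (.node 129 (.node 128 (.leaf ⟨[127],[],0⟩) (.leaf ⟨[],[128],0⟩)) (.node 130 (.leaf ⟨[],[129],0⟩) (.leaf ⟨[],[130],0⟩)))) (.node 135 (.node 133 (.node 132 (.leaf ⟨[],[131],0⟩) (.leaf ⟨[],[132],0⟩)) (.node 134 (.leaf ⟨[],[133],0⟩) (.leaf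 ⟨[],[134],0⟩))) (.node 137 (.node 136 (.leaf ⟨[],[135],0⟩) (.leaf ⟨[],[136],0⟩)) (.node 138 (.leaf ⟨[],[137],0⟩) (.leaf ⟨[],[138],0⟩))))) (.node 147 (.node 143 (.node 141 (.node 140 (.leaf ⟨[],[139],0⟩) (.leaf ⟨[],[140],0⟩)) (.node 142 (.leaf ⟨[],[141],0⟩) (.leaf ⟨[],[142],0⟩))) (.node 145 (.node 144 (.leaf ⟨[],[143],0⟩) (.leaf ⟨[144],[],0⟩)) (.node 146 (.leaf ⟨[145],[],0⟩) (.leaf ⟨[146],[],0⟩)))) (.node 151 (.node 149 (.node 148 (.leaf ⟨[147],[],0⟩) (.leaf ⟨[148],[],0⟩)) (.node 150 (.leaf ⟨[149],[],0⟩) (.leaf ⟨[150],[],0⟩))) (.node 153 (.node 152 (.leaf ⟨[151],[],0⟩) (.leaf ⟨[],[152],0⟩)) (.node 154 (.leaf ⟨[],[153],0⟩) (.leaf ⟨[],[154],0⟩)))))) (.node 170 (.node 162 (.node 158 (.node 156 (.leaf ⟨[],[155],0⟩) (.node 157 (.leaf ⟨[],[156],0⟩) (.leaf ⟨[],[157],0⟩))) (.node 160 (.node 159 (.leaf ⟨[],[158],0⟩) (.leaf ⟨[],[159],0⟩)) (.node 161 (.leaf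 ⟨[160],[],0⟩) (.leaf ⟨[161],[],0⟩)))) (.node 166 (.node 164 (.node 163 (.leaf ⟨[162],[],0⟩) (.leaf ⟨[163],[],0⟩)) (.node 165 (.leaf ⟨[164],[],0⟩) (.leaf ⟨[165],[],0⟩))) (.node 168 (.node 167 (.leaf ⟨[166],[],0⟩) (.leaf ⟨[167],[],0⟩)) (.node 169 (.leaf ⟨[168],[],0⟩) (.leaf ⟨[169],[],0⟩))))) (.node 178 (.node 174 (.node 172 (.node 171 (.leaf ⟨[170],[],0⟩) (.leaf ⟨[171],[],0⟩)) (.node 173 (.leaf ⟨[172],[],0⟩) (.leaf ⟨[173],[],0⟩))) (.node 176 (.node 175 (.leaf ⟨[174],[],0⟩) (.leaf ⟨[175],[],0⟩)) (.node 177 (.leaf ⟨[],[176],0⟩) (.leaf ⟨[],[177],0⟩)))) (.node 182 (.node 180 (.node 179 (.leaf ⟨[],[178],0⟩) (.leaf ⟨[],[179],0⟩)) (.node 181 (.leaf ⟨[],[180],0⟩) (.leaf ⟨[],[181],0⟩))) (.node 184 (.node 183 (.leaf ⟨[],[182],0⟩) (.leaf ⟨[],[183],0⟩)) (.node 185 (.leaf ⟨[],[184],0⟩) (.leaf ⟨[],[185],0⟩))))))) (.node 217 (.node 201 (.node 193 (.node 189 (.node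 187 (.leaf ⟨[],[186],0⟩) (.node 188 (.leaf ⟨[],[187],0⟩) (.leaf ⟨[],[188],0⟩))) (.node 191 (.node 190 (.leaf ⟨[],[189],0⟩) (.leaf ⟨[],[190],0⟩)) (.node 192 (.leaf ⟨[],[191],0⟩) (.leaf ⟨[192],[],0⟩)))) (.node 197 (.node 195 (.node 194 (.leaf ⟨[193],[],0⟩) (.leaf ⟨[194],[],0⟩)) (.node 196 (.leaf ⟨[195],[],0⟩) (.leaf ⟨[196],[],0⟩))) (.node 199 (.node 198 (.leaf ⟨[197],[],0⟩) (.leaf ⟨[198],[],0⟩)) (.node 200 (.leaf ⟨[199],[],0⟩) (.leaf ⟨[200],[],0⟩))))) (.node 209 (.node 205 (.node 203 (.node 202 (.leaf ⟨[201],[],0⟩) (.leaf ⟨[202],[],0⟩)) (.node 204 (.leaf ⟨[203],[],0⟩) (.leaf ⟨[204],[],0⟩))) (.node 207 (.node 206 (.leaf ⟨[205],[],0⟩) (.leaf ⟨[206],[],0⟩)) (.node 208 (.leaf ⟨[207],[],0⟩) (.leaf ⟨[],[208],0⟩)))) (.node 213 (.node 211 (.node 210 (.leaf ⟨[],[209],0⟩) (.leaf ⟨[],[210],0⟩)) (.node 212 (.leaf ⟨[],[211],0⟩) (.leaf ⟨[],[212],0⟩))) (.node 215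 (.node 214 (.leaf ⟨[],[213],0⟩) (.leaf ⟨[],[214],0⟩)) (.node 216 (.leaf ⟨[],[215],0⟩) (.leaf ⟨[216],[],0⟩)))))) (.node 232 (.node 224 (.node 220 (.node 218 (.leaf ⟨[217],[],0⟩) (.node 219 (.leaf ⟨[218],[],0⟩) (.leaf ⟨[219],[],0⟩))) (.node 222 (.node 221 (.leaf ⟨[220],[],0⟩) (.leaf ⟨[221],[],0⟩)) (.node 223 (.leaf ⟨[222],[],0⟩) (.leaf ⟨[223],[],0⟩)))) (.node 228 (.node 226 (.node 225 (.leaf ⟨[],[224],0⟩) (.leaf ⟨[],[225],0⟩)) (.node 227 (.leaf ⟨[],[226],0⟩) (.leaf ⟨[],[227],0⟩))) (.node 230 (.node 229 (.leaf ⟨[],[228],0⟩) (.leaf ⟨[],[229],0⟩)) (.node 231 (.leaf ⟨[],[230],0⟩) (.leaf ⟨[],[231],0⟩))))) (.node 240 (.node 236 (.node 234 (.node 233 (.leaf ⟨[],[232],0⟩) (.leaf ⟨[],[233],0⟩)) (.node 235 (.leaf ⟨[],[234],0⟩) (.leaf ⟨[],[235],0⟩))) (.node 238 (.node 237 (.leaf ⟨[],[236],0⟩) (.leaf ⟨[],[237],0⟩)) (.node 239 (.leaf ⟨[],[238],0⟩) (.leaf ⟨[],[239],0⟩))))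 (.node 244 (.node 242 (.node 241 (.leaf ⟨[240],[],0⟩) (.leaf ⟨[241],[],0⟩)) (.node 243 (.leaf ⟨[242],[],0⟩) (.leaf ⟨[243],[],0⟩))) (.node 246 (.node 245 (.leaf ⟨[244],[],0⟩) (.leaf ⟨[245],[],0⟩)) (.node 247 (.leaf ⟨[246],[],0⟩) (.leaf ⟨[247],[],0⟩)))))))))
noncomputable def xmd : BT Row := (.node 124 (.node 62 (.node 31 (.node 15 (.node 7 (.node 3 (.node 1 (.leaf ⟨[],[0],0⟩) (.node 2 (.leaf ⟨[2],[],0⟩) (.leaf ⟨[1],[],0⟩))) (.node 5 (.node 4 (.leaf ⟨[],[3],0⟩) (.leaf ⟨[11],[],0⟩)) (.node 6 (.leaf ⟨[10],[],0⟩) (.leaf ⟨[],[12],0⟩)))) (.node 11 (.node 9 (.node 8 (.leaf ⟨[13],[],0⟩) (.leaf ⟨[15],[],0⟩)) (.node 10 (.leaf ⟨[14],[],0⟩) (.leaf ⟨[5],[],0⟩))) (.node 13 (.node 12 (.leaf ⟨[4],[],0⟩) (.leaf ⟨[],[6],0⟩)) (.node 14 (.leaf ⟨[7],[],0⟩) (.leaf ⟨[9],[],0⟩))))) (.node 23 (.node 19 (.node 17 (.node 16 (.leaf ⟨[8],[],0⟩) (.leaf ⟨[],[16],0⟩)) (.node 18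 (.leaf ⟨[],[18],0⟩) (.leaf ⟨[],[17],0⟩))) (.node 21 (.node 20 (.leaf ⟨[],[19],0⟩) (.leaf ⟨[37],[],0⟩)) (.node 22 (.leaf ⟨[36],[],0⟩) (.leaf ⟨[],[38],0⟩)))) (.node 27 (.node 25 (.node 24 (.leaf ⟨[39],[],0⟩) (.leaf ⟨[41],[],0⟩)) (.node 26 (.leaf ⟨[40],[],0⟩) (.leaf ⟨[46],[],0⟩))) (.node 29 (.node 28 (.leaf ⟨[48],[],0⟩) (.leaf ⟨[47],[],0⟩)) (.node 30 (.leaf ⟨[49],[],0⟩) (.leaf ⟨[42],[],0⟩)))))) (.node 46 (.node 38 (.node 34 (.node 32 (.leaf ⟨[44],[],0⟩) (.node 33 (.leaf ⟨[43],[],0⟩) (.leaf ⟨[45],[],0⟩))) (.node 36 (.node 35 (.leaf ⟨[],[50],0⟩) (.leaf ⟨[51],[],0⟩)) (.node 37 (.leaf ⟨[21],[],0⟩) (.leaf ⟨[20],[],0⟩)))) (.node 42 (.node 40 (.node 39 (.leaf ⟨[],[22],0⟩) (.leaf ⟨[23],[],0⟩)) (.node 41 (.leaf ⟨[25],[],0⟩) (.leaf ⟨[24],[],0⟩))) (.node 44 (.node 43 (.leaf ⟨[30],[],0⟩) (.leaf ⟨[32],[],0⟩)) (.node 45 (.leaf ⟨[31],[],0⟩) (.leaf ⟨[33],[],0⟩)))))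 (.node 54 (.node 50 (.node 48 (.node 47 (.leaf ⟨[26],[],0⟩) (.leaf ⟨[28],[],0⟩)) (.node 49 (.leaf ⟨[27],[],0⟩) (.leaf ⟨[29],[],0⟩))) (.node 52 (.node 51 (.leaf ⟨[],[34],0⟩) (.leaf ⟨[35],[],0⟩)) (.node 53 (.leaf ⟨[],[52],0⟩) (.leaf ⟨[],[54],0⟩)))) (.node 58 (.node 56 (.node 55 (.leaf ⟨[],[53],0⟩) (.leaf ⟨[],[55],0⟩)) (.node 57 (.leaf ⟨[],[58],0⟩) (.leaf ⟨[59],[],0⟩))) (.node 60 (.node 59 (.leaf ⟨[],[56],0⟩) (.leaf ⟨[57],[],0⟩)) (.node 61 (.leaf ⟨[],[60],0⟩) (.leaf ⟨[62],[],0⟩))))))) (.node 93 (.node 77 (.node 69 (.node 65 (.node 63 (.leaf ⟨[61],[],0⟩) (.node 64 (.leaf ⟨[],[63],0⟩) (.leaf ⟨[118],[],0⟩))) (.node 67 (.node 66 (.leaf ⟨[],[119],0⟩) (.leaf ⟨[],[117],0⟩)) (.node 68 (.leaf ⟨[],[116],0⟩) (.leaf ⟨[114],[],0⟩)))) (.node 73 (.node 71 (.node 70 (.leaf ⟨[],[115],0⟩) (.leaf ⟨[],[109],0⟩)) (.node 72 (.leaf ⟨[107],[],0⟩) (.leaf ⟨[],[108],0⟩))) (.node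 75 (.node 74 (.leaf ⟨[],[106],0⟩) (.leaf ⟨[113],[],0⟩)) (.node 76 (.leaf ⟨[],[111],0⟩) (.leaf ⟨[112],[],0⟩))))) (.node 85 (.node 81 (.node 79 (.node 78 (.leaf ⟨[110],[],0⟩) (.leaf ⟨[],[105],0⟩)) (.node 80 (.leaf ⟨[],[104],0⟩) (.leaf ⟨[],[91],0⟩))) (.node 83 (.node 82 (.leaf ⟨[89],[],0⟩) (.leaf ⟨[],[90],0⟩)) (.node 84 (.leaf ⟨[],[88],0⟩) (.leaf ⟨[],[85],0⟩)))) (.node 89 (.node 87 (.node 86 (.leaf ⟨[],[84],0⟩) (.leaf ⟨[87],[],0⟩)) (.node 88 (.leaf ⟨[86],[],0⟩) (.leaf ⟨[],[83],0⟩))) (.node 91 (.node 90 (.leaf ⟨[81],[],0⟩) (.leaf ⟨[],[82],0⟩)) (.node 92 (.leaf ⟨[],[80],0⟩) (.leaf ⟨[103],[],0⟩)))))) (.node 108 (.node 100 (.node 96 (.node 94 (.leaf ⟨[],[101],0⟩) (.node 95 (.leaf ⟨[102],[],0⟩) (.leaf ⟨[100],[],0⟩))) (.node 98 (.node 97 (.leaf ⟨[97],[],0⟩) (.leaf ⟨[96],[],0⟩)) (.node 99 (.leaf ⟨[],[99],0⟩) (.leaf ⟨[],[98],0⟩)))) (.node 104 (.node 102 (.node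 101 (.leaf ⟨[95],[],0⟩) (.leaf ⟨[],[93],0⟩)) (.node 103 (.leaf ⟨[94],[],0⟩) (.leaf ⟨[92],[],0⟩))) (.node 106 (.node 105 (.leaf ⟨[],[79],0⟩) (.leaf ⟨[],[78],0⟩)) (.node 107 (.leaf ⟨[],[73],0⟩) (.leaf ⟨[71],[],0⟩))))) (.node 116 (.node 112 (.node 110 (.node 109 (.leaf ⟨[],[72],0⟩) (.leaf ⟨[],[70],0⟩)) (.node 111 (.leaf ⟨[77],[],0⟩) (.leaf ⟨[],[75],0⟩))) (.node 114 (.node 113 (.leaf ⟨[76],[],0⟩) (.leaf ⟨[74],[],0⟩)) (.node 115 (.leaf ⟨[68],[],0⟩) (.leaf ⟨[],[69],0⟩)))) (.node 120 (.node 118 (.node 117 (.leaf ⟨[],[67],0⟩) (.leaf ⟨[],[66],0⟩)) (.node 119 (.leaf ⟨[64],[],0⟩) (.leaf ⟨[],[65],0⟩))) (.node 122 (.node 121 (.leaf ⟨[122,124,130,132,137,142,145,150],[121,126,129,134,138,140,146,148],2⟩) (.leaf ⟨[136,139,141,143,144,147,149,151],[120,123,125,127,128,131,133,135],2⟩)) (.node 123 (.leaf ⟨[120,127,128,135,139,141,147,149],[123,125,131,133,136,143,144,151],2⟩)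 (.leaf ⟨[124,126,132,134,137,138,145,146],[121,122,129,130,140,142,148,150],2⟩)))))))) (.node 186 (.node 155 (.node 139 (.node 131 (.node 127 (.node 125 (.leaf ⟨[120,123,128,131,141,143,149,151],[125,127,133,135,136,139,144,147],2⟩) (.node 126 (.leaf ⟨[137,138,140,142,145,146,148,150],[121,122,124,126,129,130,132,134],2⟩) (.leaf ⟨[123,127,131,135,136,141,144,149],[120,125,128,133,139,143,147,151],2⟩))) (.node 129 (.node 128 (.leaf ⟨[122,126,130,134,137,140,145,148],[121,124,129,132,138,142,146,150],2⟩) (.leaf ⟨[122,124,129,134,138,140,145,150],[121,126,130,132,137,142,146,148],2⟩)) (.node 130 (.leaf ⟨[128,131,133,135,144,147,149,151],[120,123,125,127,136,139,141,143],2⟩) (.leaf ⟨[120,127,131,133,136,143,147,149],[123,125,128,135,139,141,144,151],2⟩)))) (.node 135 (.node 133 (.node 132 (.leaf ⟨[124,126,129,130,140,142,145,146],[121,122,132,134,137,138,148,150],2⟩)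 (.leaf ⟨[120,123,133,135,136,139,149,151],[125,127,128,131,141,143,144,147],2⟩)) (.node 134 (.leaf ⟨[129,130,132,134,145,146,148,150],[121,122,124,126,137,138,140,142],2⟩) (.leaf ⟨[123,127,128,133,139,143,144,149],[120,125,131,135,136,141,147,151],2⟩))) (.node 137 (.node 136 (.leaf ⟨[122,126,129,132,138,142,145,148],[121,124,130,134,137,140,146,150],2⟩) (.leaf ⟨[121,126,130,132,138,140,145,150],[122,124,129,134,137,142,146,148],2⟩)) (.node 138 (.leaf ⟨[120,123,125,127,144,147,149,151],[128,131,133,135,136,139,141,143],2⟩) (.leaf ⟨[123,125,128,135,136,143,147,149],[120,127,131,133,139,141,144,151],2⟩))))) (.node 147 (.node 143 (.node 141 (.node 140 (.leaf ⟨[121,122,132,134,140,142,145,146],[124,126,129,130,137,138,148,150],2⟩) (.leaf ⟨[125,127,128,131,136,139,149,151],[120,123,133,135,141,143,144,147],2⟩)) (.node 142 (.leaf ⟨[121,122,124,126,145,146,148,150],[129,130,132,134,137,138,140,142],2⟩)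 (.leaf ⟨[120,125,131,135,139,143,144,149],[123,127,128,133,136,141,147,151],2⟩))) (.node 145 (.node 144 (.leaf ⟨[121,124,130,134,138,142,145,148],[122,126,129,132,137,140,146,150],2⟩) (.leaf ⟨[121,126,129,134,137,142,145,150],[122,124,130,132,138,140,146,148],2⟩)) (.node 146 (.leaf ⟨[120,123,125,127,128,131,133,135,136,139,141,143,144,147,149,151],[],2⟩) (.leaf ⟨[123,125,131,133,139,141,147,149],[120,127,128,135,136,143,144,151],2⟩)))) (.node 151 (.node 149 (.node 148 (.leaf ⟨[121,122,129,130,137,138,145,146],[124,126,132,134,140,142,148,150],2⟩) (.leaf ⟨[125,127,133,135,141,143,149,151],[120,123,128,131,136,139,144,147],2⟩)) (.node 150 (.leaf ⟨[121,122,124,126,129,130,132,134,137,138,140,142,145,146,148,150],[],2⟩) (.leaf ⟨[120,125,128,133,136,141,144,149],[123,127,131,135,139,143,147,151],2⟩))) (.node 153 (.node 152 (.leaf ⟨[121,124,129,132,137,140,145,148],[122,126,130,134,138,142,146,150],2⟩)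 (.leaf ⟨[153,158,162,164,170,172,177,182],[154,156,161,166,169,174,178,180],2⟩)) (.node 154 (.leaf ⟨[152,155,157,159,176,179,181,183],[160,163,165,167,168,171,173,175],2⟩) (.leaf ⟨[155,157,160,167,168,175,179,181],[152,159,163,165,171,173,176,183],2⟩)))))) (.node 170 (.node 162 (.node 158 (.node 156 (.leaf ⟨[153,154,164,166,172,174,177,178],[156,158,161,162,169,170,180,182],2⟩) (.node 157 (.leaf ⟨[157,159,160,163,168,171,181,183],[152,155,165,167,173,175,176,179],2⟩) (.leaf ⟨[153,154,156,158,177,178,180,182],[161,162,164,166,169,170,172,174],2⟩))) (.node 160 (.node 159 (.leaf ⟨[152,157,163,167,171,175,176,181],[155,159,160,165,168,173,179,183],2⟩) (.leaf ⟨[153,156,162,166,170,174,177,180],[154,158,161,164,169,172,178,182],2⟩)) (.node 161 (.leaf ⟨[154,156,162,164,170,172,178,180],[153,158,161,166,169,174,177,182],2⟩) (.leaf ⟨[],[152,155,157,159,160,163,165,167,168,171,173,175,176,179,181,183],2⟩))))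 (.node 166 (.node 164 (.node 163 (.leaf ⟨[152,159,160,167,168,175,176,183],[155,157,163,165,171,173,179,181],2⟩) (.leaf ⟨[156,158,164,166,172,174,180,182],[153,154,161,162,169,170,177,178],2⟩)) (.node 165 (.leaf ⟨[152,155,160,163,168,171,176,179],[157,159,165,167,173,175,181,183],2⟩) (.leaf ⟨[],[153,154,156,158,161,162,164,166,169,170,172,174,177,178,180,182],2⟩))) (.node 168 (.node 167 (.leaf ⟨[155,159,163,167,171,175,179,183],[152,157,160,165,168,173,176,181],2⟩) (.leaf ⟨[154,158,162,166,170,174,178,182],[153,156,161,164,169,172,177,180],2⟩)) (.node 169 (.leaf ⟨[154,156,162,164,169,174,177,182],[153,158,161,166,170,172,178,180],2⟩) (.leaf ⟨[168,171,173,175,176,179,181,183],[152,155,157,159,160,163,165,167],2⟩))))) (.node 178 (.node 174 (.node 172 (.node 171 (.leaf ⟨[152,159,160,167,171,173,179,181],[155,157,163,165,168,175,176,183],2⟩) (.leaf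 ⟨[156,158,164,166,169,170,177,178],[153,154,161,162,172,174,180,182],2⟩)) (.node 173 (.leaf ⟨[152,155,160,163,173,175,181,183],[157,159,165,167,168,171,176,179],2⟩) (.leaf ⟨[169,170,172,174,177,178,180,182],[153,154,156,158,161,162,164,166],2⟩))) (.node 176 (.node 175 (.leaf ⟨[155,159,163,167,168,173,176,181],[152,157,160,165,171,175,179,183],2⟩) (.leaf ⟨[154,158,162,166,169,172,177,180],[153,156,161,164,170,174,178,182],2⟩)) (.node 177 (.leaf ⟨[153,158,162,164,169,174,178,180],[154,156,161,166,170,172,177,182],2⟩) (.leaf ⟨[152,155,157,159,168,171,173,175],[160,163,165,167,176,179,181,183],2⟩)))) (.node 182 (.node 180 (.node 179 (.leaf ⟨[155,157,160,167,171,173,176,183],[152,159,163,165,168,175,179,181],2⟩) (.leaf ⟨[153,154,164,166,169,170,180,182],[156,158,161,162,172,174,177,178],2⟩)) (.node 181 (.leaf ⟨[157,159,160,163,173,175,176,179],[152,155,165,167,168,171,181,183],2⟩)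 (.leaf ⟨[153,154,156,158,169,170,172,174],[161,162,164,166,177,178,180,182],2⟩))) (.node 184 (.node 183 (.leaf ⟨[152,157,163,167,168,173,179,183],[155,159,160,165,171,175,176,181],2⟩) (.leaf ⟨[153,156,162,166,169,172,178,182],[154,158,161,164,170,174,177,180],2⟩)) (.node 185 (.leaf ⟨[185,190,194,196,202,204,209,214],[186,188,193,198,201,206,210,212],2⟩) (.leaf ⟨[184,187,189,191,208,211,213,215],[192,195,197,199,200,203,205,207],2⟩))))))) (.node 217 (.node 201 (.node 193 (.node 189 (.node 187 (.leaf ⟨[187,189,192,199,200,207,211,213],[184,191,195,197,203,205,208,215],2⟩) (.node 188 (.leaf ⟨[185,186,196,198,204,206,209,210],[188,190,193,194,201,202,212,214],2⟩) (.leaf ⟨[189,191,192,195,200,203,213,215],[184,187,197,199,205,207,208,211],2⟩))) (.node 191 (.node 190 (.leaf ⟨[185,186,188,190,209,210,212,214],[193,194,196,198,201,202,204,206],2⟩) (.leaf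 ⟨[184,189,195,199,203,207,208,213],[187,191,192,197,200,205,211,215],2⟩)) (.node 192 (.leaf ⟨[185,188,194,198,202,206,209,212],[186,190,193,196,201,204,210,214],2⟩) (.leaf ⟨[186,188,194,196,202,204,210,212],[185,190,193,198,201,206,209,214],2⟩)))) (.node 197 (.node 195 (.node 194 (.leaf ⟨[],[184,187,189,191,192,195,197,199,200,203,205,207,208,211,213,215],2⟩) (.leaf ⟨[184,191,192,199,200,207,208,215],[187,189,195,197,203,205,211,213],2⟩)) (.node 196 (.leaf ⟨[188,190,196,198,204,206,212,214],[185,186,193,194,201,202,209,210],2⟩) (.leaf ⟨[184,187,192,195,200,203,208,211],[189,191,197,199,205,207,213,215],2⟩))) (.node 199 (.node 198 (.leaf ⟨[],[185,186,188,190,193,194,196,198,201,202,204,206,209,210,212,214],2⟩) (.leaf ⟨[187,191,195,199,203,207,211,215],[184,189,192,197,200,205,208,213],2⟩)) (.node 200 (.leaf ⟨[186,190,194,198,202,206,210,214],[185,188,193,196,201,204,209,212],2⟩)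 (.leaf ⟨[186,188,194,196,201,206,209,214],[185,190,193,198,202,204,210,212],2⟩))))) (.node 209 (.node 205 (.node 203 (.node 202 (.leaf ⟨[200,203,205,207,208,211,213,215],[184,187,189,191,192,195,197,199],2⟩) (.leaf ⟨[184,191,192,199,203,205,211,213],[187,189,195,197,200,207,208,215],2⟩)) (.node 204 (.leaf ⟨[188,190,196,198,201,202,209,210],[185,186,193,194,204,206,212,214],2⟩) (.leaf ⟨[184,187,192,195,205,207,213,215],[189,191,197,199,200,203,208,211],2⟩))) (.node 207 (.node 206 (.leaf ⟨[201,202,204,206,209,210,212,214],[185,186,188,190,193,194,196,198],2⟩) (.leaf ⟨[187,191,195,199,200,205,208,213],[184,189,192,197,203,207,211,215],2⟩)) (.node 208 (.leaf ⟨[186,190,194,198,201,204,209,212],[185,188,193,196,202,206,210,214],2⟩) (.leaf ⟨[185,190,194,196,201,206,210,212],[186,188,193,198,202,204,209,214],2⟩)))) (.node 213 (.node 211 (.node 210 (.leaf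 ⟨[184,187,189,191,200,203,205,207],[192,195,197,199,208,211,213,215],2⟩) (.leaf ⟨[187,189,192,199,203,205,208,215],[184,191,195,197,200,207,211,213],2⟩)) (.node 212 (.leaf ⟨[185,186,196,198,201,202,212,214],[188,190,193,194,204,206,209,210],2⟩) (.leaf ⟨[189,191,192,195,205,207,208,211],[184,187,197,199,200,203,213,215],2⟩))) (.node 215 (.node 214 (.leaf ⟨[185,186,188,190,201,202,204,206],[193,194,196,198,209,210,212,214],2⟩) (.leaf ⟨[184,189,195,199,200,205,211,215],[187,191,192,197,203,207,208,213],2⟩)) (.node 216 (.leaf ⟨[185,188,194,198,201,204,210,214],[186,190,193,196,202,206,209,212],2⟩) (.leaf ⟨[217,222,225,230,234,236,242,244],[218,220,226,228,233,238,241,246],2⟩)))))) (.node 232 (.node 224 (.node 220 (.node 218 (.leaf ⟨[216,219,221,223,224,227,229,231],[232,235,237,239,240,243,245,247],2⟩) (.node 219 (.leaf ⟨[219,221,227,229,232,239,240,247],[216,223,224,231,235,237,243,245],2⟩)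 (.leaf ⟨[217,218,225,226,236,238,244,246],[220,222,228,230,233,234,241,242],2⟩))) (.node 222 (.node 221 (.leaf ⟨[221,223,229,231,232,235,240,243],[216,219,224,227,237,239,245,247],2⟩) (.leaf ⟨[217,218,220,222,225,226,228,230],[233,234,236,238,241,242,244,246],2⟩)) (.node 223 (.leaf ⟨[216,221,224,229,235,239,243,247],[219,223,227,231,232,237,240,245],2⟩) (.leaf ⟨[217,220,225,228,234,238,242,246],[218,222,226,230,233,236,241,244],2⟩)))) (.node 228 (.node 226 (.node 225 (.leaf ⟨[217,222,226,228,233,238,242,244],[218,220,225,230,234,236,241,246],2⟩) (.leaf ⟨[216,219,221,223,232,235,237,239],[224,227,229,231,240,243,245,247],2⟩)) (.node 227 (.leaf ⟨[219,221,224,231,235,237,240,247],[216,223,227,229,232,239,243,245],2⟩) (.leaf ⟨[217,218,228,230,233,234,244,246],[220,222,225,226,236,238,241,242],2⟩))) (.node 230 (.node 229 (.leaf ⟨[221,223,224,227,237,239,240,243],[216,219,229,231,232,235,245,247],2⟩)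 (.leaf ⟨[217,218,220,222,233,234,236,238],[225,226,228,230,241,242,244,246],2⟩)) (.node 231 (.leaf ⟨[216,221,227,231,232,237,243,247],[219,223,224,229,235,239,240,245],2⟩) (.leaf ⟨[217,220,226,230,233,236,242,246],[218,222,225,228,234,238,241,244],2⟩))))) (.node 240 (.node 236 (.node 234 (.node 233 (.leaf ⟨[218,220,225,230,233,238,242,244],[217,222,226,228,234,236,241,246],2⟩) (.leaf ⟨[224,227,229,231,232,235,237,239],[216,219,221,223,240,243,245,247],2⟩)) (.node 235 (.leaf ⟨[216,223,227,229,235,237,240,247],[219,221,224,231,232,239,243,245],2⟩) (.leaf ⟨[220,222,225,226,233,234,244,246],[217,218,228,230,236,238,241,242],2⟩))) (.node 238 (.node 237 (.leaf ⟨[216,219,229,231,237,239,240,243],[221,223,224,227,232,235,245,247],2⟩) (.leaf ⟨[225,226,228,230,233,234,236,238],[217,218,220,222,241,242,244,246],2⟩)) (.node 239 (.leaf ⟨[219,223,224,229,232,237,243,247],[216,221,227,231,235,239,240,245],2⟩)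 (.leaf ⟨[218,222,225,228,233,236,242,246],[217,220,226,230,234,238,241,244],2⟩)))) (.node 244 (.node 242 (.node 241 (.leaf ⟨[218,220,226,228,234,236,242,244],[217,222,225,230,233,238,241,246],2⟩) (.leaf ⟨[],[216,219,221,223,224,227,229,231,232,235,237,239,240,243,245,247],2⟩)) (.node 243 (.leaf ⟨[216,223,224,231,232,239,240,247],[219,221,227,229,235,237,243,245],2⟩) (.leaf ⟨[220,222,228,230,236,238,244,246],[217,218,225,226,233,234,241,242],2⟩))) (.node 246 (.node 245 (.leaf ⟨[216,219,224,227,232,235,240,243],[221,223,229,231,237,239,245,247],2⟩) (.leaf ⟨[],[217,218,220,222,225,226,228,230,233,234,236,238,241,242,244,246],2⟩)) (.node 247 (.leaf ⟨[219,223,227,231,235,239,243,247],[216,221,224,229,232,237,240,245],2⟩) (.leaf ⟨[218,222,226,230,234,238,242,246],[217,220,225,228,233,236,241,244],2⟩)))))))))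
noncomputable def xme : BT Row := (.node 124 (.node 62 (.node 31 (.node 15 (.node 7 (.node 3 (.node 1 (.leaf ⟨[1],[],0⟩) (.node 2 (.leaf ⟨[0],[],0⟩) (.leaf ⟨[],[2],0⟩))) (.node 5 (.node 4 (.leaf ⟨[],[3],0⟩) (.leaf ⟨[20],[],0⟩)) (.node 6 (.leaf ⟨[23],[],0⟩) (.leaf ⟨[24],[],0⟩)))) (.node 11 (.node 9 (.node 8 (.leaf ⟨[21],[],0⟩) (.leaf ⟨[22],[],0⟩)) (.node 10 (.leaf ⟨[],[25],0⟩) (.leaf ⟨[64],[],0⟩))) (.node 13 (.node 12 (.leaf ⟨[67],[],0⟩) (.leaf ⟨[68],[],0⟩)) (.node 14 (.leaf ⟨[65],[],0⟩) (.leaf ⟨[66],[],0⟩))))) (.node 23 (.node 19 (.node 17 (.node 16 (.leaf ⟨[],[69],0⟩) (.leaf ⟨[80],[],0⟩)) (.node 18 (.leaf ⟨[81],[],0⟩) (.leaf ⟨[83],[],0⟩))) (.node 21 (.node 20 (.leaf ⟨[82],[],0⟩) (.leaf ⟨[4],[],0⟩)) (.node 22 (.leaf ⟨[7],[],0⟩) (.leaf ⟨[8],[],0⟩)))) (.node 27 (.node 25 (.node 24 (.leaf ⟨[5],[],0⟩) (.leaf ⟨[6],[],0⟩)) (.node 26 (.leaf ⟨[],[9],0⟩)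 (.leaf ⟨[],[26],0⟩))) (.node 29 (.node 28 (.leaf ⟨[],[27],0⟩) (.leaf ⟨[],[29],0⟩)) (.node 30 (.leaf ⟨[],[28],0⟩) (.leaf ⟨[],[70],0⟩)))))) (.node 46 (.node 38 (.node 34 (.node 32 (.leaf ⟨[],[71],0⟩) (.node 33 (.leaf ⟨[],[73],0⟩) (.leaf ⟨[],[72],0⟩))) (.node 36 (.node 35 (.leaf ⟨[84],[],0⟩) (.leaf ⟨[],[85],0⟩)) (.node 37 (.leaf ⟨[],[119],0⟩) (.leaf ⟨[],[116],0⟩)))) (.node 42 (.node 40 (.node 39 (.leaf ⟨[],[115],0⟩) (.leaf ⟨[118],[],0⟩)) (.node 41 (.leaf ⟨[117],[],0⟩) (.leaf ⟨[],[114],0⟩))) (.node 44 (.node 43 (.leaf ⟨[103],[],0⟩) (.leaf ⟨[102],[],0⟩)) (.node 45 (.leaf ⟨[100],[],0⟩) (.leaf ⟨[],[101],0⟩))))) (.node 54 (.node 50 (.node 48 (.node 47 (.leaf ⟨[63],[],0⟩) (.leaf ⟨[62],[],0⟩)) (.node 49 (.leaf ⟨[60],[],0⟩) (.leaf ⟨[],[61],0⟩))) (.node 52 (.node 51 (.leaf ⟨[],[51],0⟩) (.leaf ⟨[],[50],0⟩)) (.node 53 (.leaf ⟨[113],[],0⟩) (.leaf ⟨[112],[],0⟩))))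 (.node 58 (.node 56 (.node 55 (.leaf ⟨[110],[],0⟩) (.leaf ⟨[],[111],0⟩)) (.node 57 (.leaf ⟨[99],[],0⟩) (.leaf ⟨[98],[],0⟩))) (.node 60 (.node 59 (.leaf ⟨[59],[],0⟩) (.leaf ⟨[58],[],0⟩)) (.node 61 (.leaf ⟨[48],[],0⟩) (.leaf ⟨[],[49],0⟩))))))) (.node 93 (.node 77 (.node 69 (.node 65 (.node 63 (.leaf ⟨[47],[],0⟩) (.node 64 (.leaf ⟨[46],[],0⟩) (.leaf ⟨[10],[],0⟩))) (.node 67 (.node 66 (.leaf ⟨[13],[],0⟩) (.leaf ⟨[14],[],0⟩)) (.node 68 (.leaf ⟨[11],[],0⟩) (.leaf ⟨[12],[],0⟩)))) (.node 73 (.node 71 (.node 70 (.leaf ⟨[],[15],0⟩) (.leaf ⟨[],[30],0⟩)) (.node 72 (.leaf ⟨[],[31],0⟩) (.leaf ⟨[],[33],0⟩))) (.node 75 (.node 74 (.leaf ⟨[],[32],0⟩) (.leaf ⟨[],[74],0⟩)) (.node 76 (.leaf ⟨[],[75],0⟩) (.leaf ⟨[],[77],0⟩))))) (.node 85 (.node 81 (.node 79 (.node 78 (.leaf ⟨[],[76],0⟩) (.leaf ⟨[86],[],0⟩)) (.node 80 (.leaf ⟨[],[87],0⟩) (.leaf ⟨[16],[],0⟩))) (.node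 83 (.node 82 (.leaf ⟨[17],[],0⟩) (.leaf ⟨[19],[],0⟩)) (.node 84 (.leaf ⟨[18],[],0⟩) (.leaf ⟨[34],[],0⟩)))) (.node 89 (.node 87 (.node 86 (.leaf ⟨[],[35],0⟩) (.leaf ⟨[78],[],0⟩)) (.node 88 (.leaf ⟨[],[79],0⟩) (.leaf ⟨[89],[],0⟩))) (.node 91 (.node 90 (.leaf ⟨[88],[],0⟩) (.leaf ⟨[],[90],0⟩)) (.node 92 (.leaf ⟨[],[91],0⟩) (.leaf ⟨[109],[],0⟩)))))) (.node 108 (.node 100 (.node 96 (.node 94 (.leaf ⟨[108],[],0⟩) (.node 95 (.leaf ⟨[106],[],0⟩) (.leaf ⟨[],[107],0⟩))) (.node 98 (.node 97 (.leaf ⟨[97],[],0⟩) (.leaf ⟨[96],[],0⟩)) (.node 99 (.leaf ⟨[57],[],0⟩) (.leaf ⟨[56],[],0⟩)))) (.node 104 (.node 102 (.node 101 (.leaf ⟨[44],[],0⟩) (.leaf ⟨[],[45],0⟩)) (.node 103 (.leaf ⟨[43],[],0⟩) (.leaf ⟨[42],[],0⟩))) (.node 106 (.node 105 (.leaf ⟨[],[105],0⟩) (.leaf ⟨[],[104],0⟩)) (.node 107 (.leaf ⟨[94],[],0⟩) (.leaf ⟨[],[95],0⟩))))) (.node 116 (.node 112 (.node 110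 (.node 109 (.leaf ⟨[93],[],0⟩) (.leaf ⟨[92],[],0⟩)) (.node 111 (.leaf ⟨[54],[],0⟩) (.leaf ⟨[],[55],0⟩))) (.node 114 (.node 113 (.leaf ⟨[53],[],0⟩) (.leaf ⟨[52],[],0⟩)) (.node 115 (.leaf ⟨[],[41],0⟩) (.leaf ⟨[],[38],0⟩)))) (.node 120 (.node 118 (.node 117 (.leaf ⟨[],[37],0⟩) (.leaf ⟨[40],[],0⟩)) (.node 119 (.leaf ⟨[39],[],0⟩) (.leaf ⟨[],[36],0⟩))) (.node 122 (.node 121 (.leaf ⟨[121,161,203,205,207,241],[123,125,127,163,165,167,201,243,245,247],2⟩) (.leaf ⟨[120,122,124,160,162,164,206,240,242,244],[126,166,200,202,204,246],2⟩)) (.node 123 (.leaf ⟨[121,123,127,161,163,167,205,241,243,247],[125,165,201,203,207,245],2⟩) (.leaf ⟨[122,124,126,162,164,166,200,242,244,246],[120,160,202,204,206,240],2⟩)))))))) (.node 186 (.node 155 (.node 139 (.node 131 (.node 127 (.node 125 (.leaf ⟨[121,123,125,161,163,165,207,241,243,245],[127,167,201,203,205,247],2⟩)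 (.node 126 (.leaf ⟨[124,164,200,202,206,244],[120,122,126,160,162,166,204,240,242,246],2⟩) (.leaf ⟨[123,163,201,205,207,243],[121,125,127,161,165,167,203,241,245,247],2⟩))) (.node 129 (.node 128 (.leaf ⟨[122,162,200,204,206,242],[120,124,126,160,164,166,202,240,244,246],2⟩) (.leaf ⟨[137,179,181,183,187,189,191,227,229,231],[139,141,143,177,185,225],2⟩)) (.node 130 (.leaf ⟨[136,138,140,182,190,230],[142,176,178,180,184,186,188,224,226,228],2⟩) (.leaf ⟨[137,139,143,181,189,229],[141,177,179,183,185,187,191,225,227,231],2⟩)))) (.node 135 (.node 133 (.node 132 (.leaf ⟨[138,140,142,176,184,224],[136,178,180,182,186,188,190,226,228,230],2⟩) (.leaf ⟨[137,139,141,183,191,231],[143,177,179,181,185,187,189,225,227,229],2⟩)) (.node 134 (.leaf ⟨[140,176,178,182,184,186,190,224,226,230],[136,138,142,180,188,228],2⟩) (.leaf ⟨[139,177,181,183,185,189,191,225,229,231],[137,141,143,179,187,227],2⟩)))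 (.node 137 (.node 136 (.leaf ⟨[138,176,180,182,184,188,190,224,228,230],[136,140,142,178,186,226],2⟩) (.leaf ⟨[129,153,211,213,215,233],[131,133,135,155,157,159,209,235,237,239],2⟩)) (.node 138 (.leaf ⟨[128,130,132,152,154,156,214,232,234,236],[134,158,208,210,212,238],2⟩) (.leaf ⟨[129,131,135,153,155,159,213,233,235,239],[133,157,209,211,215,237],2⟩))))) (.node 147 (.node 143 (.node 141 (.node 140 (.leaf ⟨[130,132,134,154,156,158,208,234,236,238],[128,152,210,212,214,232],2⟩) (.leaf ⟨[129,131,133,153,155,157,215,233,235,237],[135,159,209,211,213,239],2⟩)) (.node 142 (.leaf ⟨[132,156,208,210,214,236],[128,130,134,152,154,158,212,232,234,238],2⟩) (.leaf ⟨[131,155,209,213,215,235],[129,133,135,153,157,159,211,233,237,239],2⟩))) (.node 145 (.node 144 (.leaf ⟨[130,154,208,212,214,234],[128,132,134,152,156,158,210,232,236,238],2⟩) (.leaf ⟨[147,149,151,169,193,217],[145,171,173,175,195,197,199,219,221,223],2⟩))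 (.node 146 (.leaf ⟨[150,168,170,172,192,194,196,216,218,220],[144,146,148,174,198,222],2⟩) (.leaf ⟨[149,169,171,175,193,195,199,217,219,223],[145,147,151,173,197,221],2⟩)))) (.node 151 (.node 149 (.node 148 (.leaf ⟨[144,170,172,174,194,196,198,218,220,222],[146,148,150,168,192,216],2⟩) (.leaf ⟨[151,169,171,173,193,195,197,217,219,221],[145,147,149,175,199,223],2⟩)) (.node 150 (.leaf ⟨[144,146,150,172,196,220],[148,168,170,174,192,194,198,216,218,222],2⟩) (.leaf ⟨[145,149,151,171,195,219],[147,169,173,175,193,197,199,217,221,223],2⟩))) (.node 153 (.node 152 (.leaf ⟨[144,148,150,170,194,218],[146,168,172,174,192,196,198,216,220,222],2⟩) (.leaf ⟨[137,179,181,183,185,225],[139,141,143,177,187,189,191,227,229,231],2⟩)) (.node 154 (.leaf ⟨[136,138,140,182,184,186,188,224,226,228],[142,176,178,180,190,230],2⟩) (.leaf ⟨[137,139,143,181,185,187,191,225,227,231],[141,177,179,183,189,229],2⟩))))))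 (.node 170 (.node 162 (.node 158 (.node 156 (.leaf ⟨[138,140,142,176,186,188,190,226,228,230],[136,178,180,182,184,224],2⟩) (.node 157 (.leaf ⟨[137,139,141,183,185,187,189,225,227,229],[143,177,179,181,191,231],2⟩) (.leaf ⟨[140,176,178,182,188,228],[136,138,142,180,184,186,190,224,226,230],2⟩))) (.node 160 (.node 159 (.leaf ⟨[139,177,181,183,187,227],[137,141,143,179,185,189,191,225,229,231],2⟩) (.leaf ⟨[138,176,180,182,186,226],[136,140,142,178,184,188,190,224,228,230],2⟩)) (.node 161 (.leaf ⟨[121,161,201,243,245,247],[123,125,127,163,165,167,203,205,207,241],2⟩) (.leaf ⟨[120,122,124,160,162,164,200,202,204,246],[126,166,206,240,242,244],2⟩)))) (.node 166 (.node 164 (.node 163 (.leaf ⟨[121,123,127,161,163,167,201,203,207,245],[125,165,205,241,243,247],2⟩) (.leaf ⟨[122,124,126,162,164,166,202,204,206,240],[120,160,200,242,244,246],2⟩)) (.node 165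 (.leaf ⟨[121,123,125,161,163,165,201,203,205,247],[127,167,207,241,243,245],2⟩) (.leaf ⟨[124,164,204,240,242,246],[120,122,126,160,162,166,200,202,206,244],2⟩))) (.node 168 (.node 167 (.leaf ⟨[123,163,203,241,245,247],[121,125,127,161,165,167,201,205,207,243],2⟩) (.leaf ⟨[122,162,202,240,244,246],[120,124,126,160,164,166,200,204,206,242],2⟩)) (.node 169 (.leaf ⟨[145,171,173,175,193,217],[147,149,151,169,195,197,199,219,221,223],2⟩) (.leaf ⟨[144,146,148,174,192,194,196,216,218,220],[150,168,170,172,198,222],2⟩))))) (.node 178 (.node 174 (.node 172 (.node 171 (.leaf ⟨[145,147,151,173,193,195,199,217,219,223],[149,169,171,175,197,221],2⟩) (.leaf ⟨[146,148,150,168,194,196,198,218,220,222],[144,170,172,174,192,216],2⟩)) (.node 173 (.leaf ⟨[145,147,149,175,193,195,197,217,219,221],[151,169,171,173,199,223],2⟩) (.leaf ⟨[148,168,170,174,196,220],[144,146,150,172,192,194,198,216,218,222],2⟩)))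 (.node 176 (.node 175 (.leaf ⟨[147,169,173,175,195,219],[145,149,151,171,193,197,199,217,221,223],2⟩) (.leaf ⟨[146,168,172,174,194,218],[144,148,150,170,192,196,198,216,220,222],2⟩)) (.node 177 (.leaf ⟨[131,133,135,155,157,159,211,213,215,233],[129,153,209,235,237,239],2⟩) (.leaf ⟨[134,158,214,232,234,236],[128,130,132,152,154,156,208,210,212,238],2⟩)))) (.node 182 (.node 180 (.node 179 (.leaf ⟨[133,157,213,233,235,239],[129,131,135,153,155,159,209,211,215,237],2⟩) (.leaf ⟨[128,152,208,234,236,238],[130,132,134,154,156,158,210,212,214,232],2⟩)) (.node 181 (.leaf ⟨[135,159,215,233,235,237],[129,131,133,153,155,157,209,211,213,239],2⟩) (.leaf ⟨[128,130,134,152,154,158,208,210,214,236],[132,156,212,232,234,238],2⟩))) (.node 184 (.node 183 (.leaf ⟨[129,133,135,153,157,159,209,213,215,235],[131,155,211,233,237,239],2⟩) (.leaf ⟨[128,132,134,152,156,158,208,212,214,234],[130,154,210,232,236,238],2⟩))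 (.node 185 (.leaf ⟨[131,133,135,153,209,233],[129,155,157,159,211,213,215,235,237,239],2⟩) (.leaf ⟨[134,152,154,156,208,210,212,232,234,236],[128,130,132,158,214,238],2⟩))))))) (.node 217 (.node 201 (.node 193 (.node 189 (.node 187 (.leaf ⟨[133,153,155,159,209,211,215,233,235,239],[129,131,135,157,213,237],2⟩) (.node 188 (.leaf ⟨[128,154,156,158,210,212,214,234,236,238],[130,132,134,152,208,232],2⟩) (.leaf ⟨[135,153,155,157,209,211,213,233,235,237],[129,131,133,159,215,239],2⟩))) (.node 191 (.node 190 (.leaf ⟨[128,130,134,156,212,236],[132,152,154,158,208,210,214,232,234,238],2⟩) (.leaf ⟨[129,133,135,155,211,235],[131,153,157,159,209,213,215,233,237,239],2⟩)) (.node 192 (.leaf ⟨[128,132,134,154,210,234],[130,152,156,158,208,212,214,232,236,238],2⟩) (.leaf ⟨[145,169,195,197,199,217],[147,149,151,171,173,175,193,219,221,223],2⟩)))) (.node 197 (.node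 195 (.node 194 (.leaf ⟨[144,146,148,168,170,172,198,216,218,220],[150,174,192,194,196,222],2⟩) (.leaf ⟨[145,147,151,169,171,175,197,217,219,223],[149,173,193,195,199,221],2⟩)) (.node 196 (.leaf ⟨[146,148,150,170,172,174,192,218,220,222],[144,168,194,196,198,216],2⟩) (.leaf ⟨[145,147,149,169,171,173,199,217,219,221],[151,175,193,195,197,223],2⟩))) (.node 199 (.node 198 (.leaf ⟨[148,172,192,194,198,220],[144,146,150,168,170,174,196,216,218,222],2⟩) (.leaf ⟨[147,171,193,197,199,219],[145,149,151,169,173,175,195,217,221,223],2⟩)) (.node 200 (.leaf ⟨[146,170,192,196,198,218],[144,148,150,168,172,174,194,216,220,222],2⟩) (.leaf ⟨[123,125,127,161,201,241],[121,163,165,167,203,205,207,243,245,247],2⟩))))) (.node 209 (.node 205 (.node 203 (.node 202 (.leaf ⟨[126,160,162,164,200,202,204,240,242,244],[120,122,124,166,206,246],2⟩) (.leaf ⟨[125,161,163,167,201,203,207,241,243,247],[121,123,127,165,205,245],2⟩))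 (.node 204 (.leaf ⟨[120,162,164,166,202,204,206,242,244,246],[122,124,126,160,200,240],2⟩) (.leaf ⟨[127,161,163,165,201,203,205,241,243,245],[121,123,125,167,207,247],2⟩))) (.node 207 (.node 206 (.leaf ⟨[120,122,126,164,204,244],[124,160,162,166,200,202,206,240,242,246],2⟩) (.leaf ⟨[121,125,127,163,203,243],[123,161,165,167,201,205,207,241,245,247],2⟩)) (.node 208 (.leaf ⟨[120,124,126,162,202,242],[122,160,164,166,200,204,206,240,244,246],2⟩) (.leaf ⟨[139,141,143,179,181,183,185,227,229,231],[137,177,187,189,191,225],2⟩)))) (.node 213 (.node 211 (.node 210 (.leaf ⟨[142,182,184,186,188,230],[136,138,140,176,178,180,190,224,226,228],2⟩) (.leaf ⟨[141,181,185,187,191,229],[137,139,143,177,179,183,189,225,227,231],2⟩)) (.node 212 (.leaf ⟨[136,176,186,188,190,224],[138,140,142,178,180,182,184,226,228,230],2⟩) (.leaf ⟨[143,183,185,187,189,231],[137,139,141,177,179,181,191,225,227,229],2⟩)))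 (.node 215 (.node 214 (.leaf ⟨[136,138,142,176,178,182,188,224,226,230],[140,180,184,186,190,228],2⟩) (.leaf ⟨[137,141,143,177,181,183,187,225,229,231],[139,179,185,189,191,227],2⟩)) (.node 216 (.leaf ⟨[136,140,142,176,180,182,186,224,228,230],[138,178,184,188,190,226],2⟩) (.leaf ⟨[145,169,193,219,221,223],[147,149,151,171,173,175,195,197,199,217],2⟩)))))) (.node 232 (.node 224 (.node 220 (.node 218 (.leaf ⟨[144,146,148,168,170,172,192,194,196,222],[150,174,198,216,218,220],2⟩) (.node 219 (.leaf ⟨[145,147,151,169,171,175,193,195,199,221],[149,173,197,217,219,223],2⟩) (.leaf ⟨[146,148,150,170,172,174,194,196,198,216],[144,168,192,218,220,222],2⟩))) (.node 222 (.node 221 (.leaf ⟨[145,147,149,169,171,173,193,195,197,223],[151,175,199,217,219,221],2⟩) (.leaf ⟨[148,172,196,216,218,222],[144,146,150,168,170,174,192,194,198,220],2⟩)) (.node 223 (.leaf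 ⟨[147,171,195,217,221,223],[145,149,151,169,173,175,193,197,199,219],2⟩) (.leaf ⟨[146,170,194,216,220,222],[144,148,150,168,172,174,192,196,198,218],2⟩)))) (.node 228 (.node 226 (.node 225 (.leaf ⟨[131,133,135,153,211,213,215,235,237,239],[129,155,157,159,209,233],2⟩) (.leaf ⟨[134,152,154,156,214,238],[128,130,132,158,208,210,212,232,234,236],2⟩)) (.node 227 (.leaf ⟨[133,153,155,159,213,237],[129,131,135,157,209,211,215,233,235,239],2⟩) (.leaf ⟨[128,154,156,158,208,232],[130,132,134,152,210,212,214,234,236,238],2⟩))) (.node 230 (.node 229 (.leaf ⟨[135,153,155,157,215,239],[129,131,133,159,209,211,213,233,235,237],2⟩) (.leaf ⟨[128,130,134,156,208,210,214,232,234,238],[132,152,154,158,212,236],2⟩)) (.node 231 (.leaf ⟨[129,133,135,155,209,213,215,233,237,239],[131,153,157,159,211,235],2⟩) (.leaf ⟨[128,132,134,154,208,212,214,232,236,238],[130,152,156,158,210,234],2⟩)))))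 (.node 240 (.node 236 (.node 234 (.node 233 (.leaf ⟨[137,177,185,227,229,231],[139,141,143,179,181,183,187,189,191,225],2⟩) (.leaf ⟨[136,138,140,176,178,180,184,186,188,230],[142,182,190,224,226,228],2⟩)) (.node 235 (.leaf ⟨[137,139,143,177,179,183,185,187,191,229],[141,181,189,225,227,231],2⟩) (.leaf ⟨[138,140,142,178,180,182,186,188,190,224],[136,176,184,226,228,230],2⟩))) (.node 238 (.node 237 (.leaf ⟨[137,139,141,177,179,181,185,187,189,231],[143,183,191,225,227,229],2⟩) (.leaf ⟨[140,180,188,224,226,230],[136,138,142,176,178,182,184,186,190,228],2⟩)) (.node 239 (.leaf ⟨[139,179,187,225,229,231],[137,141,143,177,181,183,185,189,191,227],2⟩) (.leaf ⟨[138,178,186,224,228,230],[136,140,142,176,180,182,184,188,190,226],2⟩)))) (.node 244 (.node 242 (.node 241 (.leaf ⟨[121,163,165,167,201,241],[123,125,127,161,203,205,207,243,245,247],2⟩) (.leaf ⟨[120,122,124,166,200,202,204,240,242,244],[126,160,162,164,206,246],2⟩))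 (.node 243 (.leaf ⟨[121,123,127,165,201,203,207,241,243,247],[125,161,163,167,205,245],2⟩) (.leaf ⟨[122,124,126,160,202,204,206,242,244,246],[120,162,164,166,200,240],2⟩))) (.node 246 (.node 245 (.leaf ⟨[121,123,125,167,201,203,205,241,243,245],[127,161,163,165,207,247],2⟩) (.leaf ⟨[124,160,162,166,204,244],[120,122,126,164,200,202,206,240,242,246],2⟩)) (.node 247 (.leaf ⟨[123,161,165,167,203,243],[121,125,127,163,201,205,207,241,245,247],2⟩) (.leaf ⟨[122,160,164,166,202,242],[120,124,126,162,200,204,206,240,244,246],2⟩)))))))))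
noncomputable def xms : BT Row := (.node 124 (.node 62 (.node 31 (.node 15 (.node 7 (.node 3 (.node 1 (.leaf ⟨[0],[],0⟩) (.node 2 (.leaf ⟨[10],[],0⟩) (.leaf ⟨[11],[],0⟩))) (.node 5 (.node 4 (.leaf ⟨[12],[],0⟩) (.leaf ⟨[1],[],0⟩)) (.node 6 (.leaf ⟨[2],[],0⟩) (.leaf ⟨[3],[],0⟩)))) (.node 11 (.node 9 (.node 8 (.leaf ⟨[],[13],0⟩) (.leaf ⟨[],[14],0⟩)) (.node 10 (.leaf ⟨[],[15],0⟩) (.leaf ⟨[20],[],0⟩))) (.node 13 (.node 12 (.leaf ⟨[21],[],0⟩) (.leaf ⟨[22],[],0⟩)) (.node 14 (.leaf ⟨[30],[],0⟩) (.leaf ⟨[31],[],0⟩))))) (.node 23 (.node 19 (.node 17 (.node 16 (.leaf ⟨[32],[],0⟩) (.leaf ⟨[23],[],0⟩)) (.node 18 (.leaf ⟨[24],[],0⟩) (.leaf ⟨[25],[],0⟩))) (.node 21 (.node 20 (.leaf ⟨[],[33],0⟩) (.leaf ⟨[64],[],0⟩)) (.node 22 (.leaf ⟨[65],[],0⟩) (.leaf ⟨[66],[],0⟩)))) (.node 27 (.node 25 (.node 24 (.leaf ⟨[74],[],0⟩) (.leaf ⟨[75],[],0⟩)) (.node 26 (.leaf ⟨[76],[],0⟩)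 (.leaf ⟨[67],[],0⟩))) (.node 29 (.node 28 (.leaf ⟨[68],[],0⟩) (.leaf ⟨[69],[],0⟩)) (.node 30 (.leaf ⟨[],[77],0⟩) (.leaf ⟨[80],[],0⟩)))))) (.node 46 (.node 38 (.node 34 (.node 32 (.leaf ⟨[81],[],0⟩) (.node 33 (.leaf ⟨[82],[],0⟩) (.leaf ⟨[86],[],0⟩))) (.node 36 (.node 35 (.leaf ⟨[83],[],0⟩) (.leaf ⟨[],[87],0⟩)) (.node 37 (.leaf ⟨[4],[],0⟩) (.leaf ⟨[5],[],0⟩)))) (.node 42 (.node 40 (.node 39 (.leaf ⟨[6],[],0⟩) (.leaf ⟨[],[16],0⟩)) (.node 41 (.leaf ⟨[],[17],0⟩) (.leaf ⟨[],[18],0⟩))) (.node 44 (.node 43 (.leaf ⟨[7],[],0⟩) (.leaf ⟨[8],[],0⟩)) (.node 45 (.leaf ⟨[9],[],0⟩) (.leaf ⟨[19],[],0⟩))))) (.node 54 (.node 50 (.node 48 (.node 47 (.leaf ⟨[],[26],0⟩) (.leaf ⟨[],[27],0⟩)) (.node 49 (.leaf ⟨[],[28],0⟩) (.leaf ⟨[34],[],0⟩))) (.node 52 (.node 51 (.leaf ⟨[],[29],0⟩) (.leaf ⟨[],[35],0⟩)) (.node 53 (.leaf ⟨[],[70],0⟩) (.leaf ⟨[],[71],0⟩)))) (.node 58 (.node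 56 (.node 55 (.leaf ⟨[],[72],0⟩) (.leaf ⟨[78],[],0⟩)) (.node 57 (.leaf ⟨[],[73],0⟩) (.leaf ⟨[],[79],0⟩))) (.node 60 (.node 59 (.leaf ⟨[84],[],0⟩) (.leaf ⟨[],[88],0⟩)) (.node 61 (.leaf ⟨[85],[],0⟩) (.leaf ⟨[89],[],0⟩))))))) (.node 93 (.node 77 (.node 69 (.node 65 (.node 63 (.leaf ⟨[90],[],0⟩) (.node 64 (.leaf ⟨[91],[],0⟩) (.leaf ⟨[],[119],0⟩))) (.node 67 (.node 66 (.leaf ⟨[118],[],0⟩) (.leaf ⟨[117],[],0⟩)) (.node 68 (.leaf ⟨[],[109],0⟩) (.leaf ⟨[],[108],0⟩)))) (.node 73 (.node 71 (.node 70 (.leaf ⟨[107],[],0⟩) (.leaf ⟨[],[116],0⟩)) (.node 72 (.leaf ⟨[],[115],0⟩) (.leaf ⟨[114],[],0⟩))) (.node 75 (.node 74 (.leaf ⟨[106],[],0⟩) (.leaf ⟨[103],[],0⟩)) (.node 76 (.leaf ⟨[102],[],0⟩) (.leaf ⟨[],[101],0⟩))))) (.node 85 (.node 81 (.node 79 (.node 78 (.leaf ⟨[97],[],0⟩) (.leaf ⟨[100],[],0⟩)) (.node 80 (.leaf ⟨[96],[],0⟩) (.leaf ⟨[63],[],0⟩))) (.node 83 (.node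 82 (.leaf ⟨[62],[],0⟩) (.leaf ⟨[],[61],0⟩)) (.node 84 (.leaf ⟨[57],[],0⟩) (.leaf ⟨[60],[],0⟩)))) (.node 89 (.node 87 (.node 86 (.leaf ⟨[56],[],0⟩) (.leaf ⟨[],[51],0⟩)) (.node 88 (.leaf ⟨[45],[],0⟩) (.leaf ⟨[50],[],0⟩))) (.node 91 (.node 90 (.leaf ⟨[44],[],0⟩) (.leaf ⟨[],[43],0⟩)) (.node 92 (.leaf ⟨[],[42],0⟩) (.leaf ⟨[113],[],0⟩)))))) (.node 108 (.node 100 (.node 96 (.node 94 (.leaf ⟨[112],[],0⟩) (.node 95 (.leaf ⟨[],[111],0⟩) (.leaf ⟨[],[105],0⟩))) (.node 98 (.node 97 (.leaf ⟨[110],[],0⟩) (.leaf ⟨[],[104],0⟩)) (.node 99 (.leaf ⟨[99],[],0⟩) (.leaf ⟨[95],[],0⟩)))) (.node 104 (.node 102 (.node 101 (.leaf ⟨[],[98],0⟩) (.leaf ⟨[94],[],0⟩)) (.node 103 (.leaf ⟨[],[93],0⟩) (.leaf ⟨[],[92],0⟩))) (.node 106 (.node 105 (.leaf ⟨[59],[],0⟩) (.leaf ⟨[55],[],0⟩)) (.node 107 (.leaf ⟨[],[58],0⟩) (.leaf ⟨[54],[],0⟩))))) (.node 116 (.node 112 (.node 110 (.node 109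 (.leaf ⟨[],[53],0⟩) (.leaf ⟨[],[52],0⟩)) (.node 111 (.leaf ⟨[],[49],0⟩) (.leaf ⟨[],[41],0⟩))) (.node 114 (.node 113 (.leaf ⟨[40],[],0⟩) (.leaf ⟨[39],[],0⟩)) (.node 115 (.leaf ⟨[48],[],0⟩) (.leaf ⟨[],[47],0⟩)))) (.node 120 (.node 118 (.node 117 (.leaf ⟨[],[46],0⟩) (.leaf ⟨[38],[],0⟩)) (.node 119 (.leaf ⟨[37],[],0⟩) (.leaf ⟨[],[36],0⟩))) (.node 122 (.node 121 (.leaf ⟨[161,162,166,167,193,194,198,199,241,242,246,247],[145,146,150,151],2⟩) (.leaf ⟨[145,146,166,167,198,199,246,247],[150,151,161,162,193,194,241,242],2⟩)) (.node 123 (.leaf ⟨[145,151,162,166,194,198,242,246],[146,150,161,167,193,199,241,247],2⟩) (.leaf ⟨[144,147,148,149],[160,163,164,165,192,195,196,197,240,243,244,245],2⟩)))))))) (.node 186 (.node 155 (.node 139 (.node 131 (.node 127 (.node 125 (.leaf ⟨[148,149,160,163,192,195,240,243],[144,147,164,165,196,197,244,245],2⟩) (.node 126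 (.leaf ⟨[146,151,161,166,193,198,241,246],[145,150,162,167,194,199,242,247],2⟩) (.leaf ⟨[144,149,163,164,195,196,243,244],[147,148,160,165,192,197,240,245],2⟩))) (.node 129 (.node 128 (.leaf ⟨[147,149,160,164,192,196,240,244],[144,148,163,165,195,197,243,245],2⟩) (.leaf ⟨[153,154,158,159,185,186,190,191,233,234,238,239],[137,138,142,143],2⟩)) (.node 130 (.leaf ⟨[137,138,158,159,190,191,238,239],[142,143,153,154,185,186,233,234],2⟩) (.leaf ⟨[137,143,154,158,186,190,234,238],[138,142,153,159,185,191,233,239],2⟩)))) (.node 135 (.node 133 (.node 132 (.leaf ⟨[136,139,140,141],[152,155,156,157,184,187,188,189,232,235,236,237],2⟩) (.leaf ⟨[140,141,152,155,184,187,232,235],[136,139,156,157,188,189,236,237],2⟩)) (.node 134 (.leaf ⟨[138,143,153,158,185,190,233,238],[137,142,154,159,186,191,234,239],2⟩) (.leaf ⟨[136,141,155,156,187,188,235,236],[139,140,152,157,184,189,232,237],2⟩)))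 (.node 137 (.node 136 (.leaf ⟨[139,141,152,156,184,188,232,236],[136,140,155,157,187,189,235,237],2⟩) (.leaf ⟨[233,234,238,239],[137,138,142,143,153,154,158,159,185,186,190,191],2⟩)) (.node 138 (.leaf ⟨[137,138,153,154,185,186,238,239],[142,143,158,159,190,191,233,234],2⟩) (.leaf ⟨[137,143,153,159,185,191,234,238],[138,142,154,158,186,190,233,239],2⟩))))) (.node 147 (.node 143 (.node 141 (.node 140 (.leaf ⟨[136,139,140,141,152,155,156,157,184,187,188,189],[232,235,236,237],2⟩) (.leaf ⟨[140,141,156,157,188,189,232,235],[136,139,152,155,184,187,236,237],2⟩)) (.node 142 (.leaf ⟨[138,143,154,159,186,191,233,238],[137,142,153,158,185,190,234,239],2⟩) (.leaf ⟨[136,141,152,157,184,189,235,236],[139,140,155,156,187,188,232,237],2⟩))) (.node 145 (.node 144 (.leaf ⟨[139,141,155,157,187,189,232,236],[136,140,152,156,184,188,235,237],2⟩) (.leaf ⟨[241,242,246,247],[145,146,150,151,161,162,166,167,193,194,198,199],2⟩))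 (.node 146 (.leaf ⟨[145,146,161,162,193,194,246,247],[150,151,166,167,198,199,241,242],2⟩) (.leaf ⟨[145,151,161,167,193,199,242,246],[146,150,162,166,194,198,241,247],2⟩)))) (.node 151 (.node 149 (.node 148 (.leaf ⟨[144,147,148,149,160,163,164,165,192,195,196,197],[240,243,244,245],2⟩) (.leaf ⟨[148,149,164,165,196,197,240,243],[144,147,160,163,192,195,244,245],2⟩)) (.node 150 (.leaf ⟨[146,151,162,167,194,199,241,246],[145,150,161,166,193,198,242,247],2⟩) (.leaf ⟨[144,149,160,165,192,197,243,244],[147,148,163,164,195,196,240,245],2⟩))) (.node 153 (.node 152 (.leaf ⟨[147,149,163,165,195,197,240,244],[144,148,160,164,192,196,243,245],2⟩) (.leaf ⟨[129,130,134,135],[177,178,182,183,209,210,214,215,225,226,230,231],2⟩)) (.node 154 (.leaf ⟨[134,135,177,178,209,210,225,226],[129,130,182,183,214,215,230,231],2⟩) (.leaf ⟨[130,134,177,183,209,215,225,231],[129,135,178,182,210,214,226,230],2⟩))))))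 (.node 170 (.node 162 (.node 158 (.node 156 (.leaf ⟨[176,179,180,181,208,211,212,213,224,227,228,229],[128,131,132,133],2⟩) (.node 157 (.leaf ⟨[128,131,180,181,212,213,228,229],[132,133,176,179,208,211,224,227],2⟩) (.leaf ⟨[129,134,178,183,210,215,226,231],[130,135,177,182,209,214,225,230],2⟩))) (.node 160 (.node 159 (.leaf ⟨[131,132,176,181,208,213,224,229],[128,133,179,180,211,212,227,228],2⟩) (.leaf ⟨[128,132,179,181,211,213,227,229],[131,133,176,180,208,212,224,228],2⟩)) (.node 161 (.leaf ⟨[121,122,126,127],[169,170,174,175,201,202,206,207,217,218,222,223],2⟩) (.leaf ⟨[126,127,169,170,201,202,217,218],[121,122,174,175,206,207,222,223],2⟩)))) (.node 166 (.node 164 (.node 163 (.leaf ⟨[122,126,169,175,201,207,217,223],[121,127,170,174,202,206,218,222],2⟩) (.leaf ⟨[168,171,172,173,200,203,204,205,216,219,220,221],[120,123,124,125],2⟩)) (.node 165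 (.leaf ⟨[120,123,172,173,204,205,220,221],[124,125,168,171,200,203,216,219],2⟩) (.leaf ⟨[121,126,170,175,202,207,218,223],[122,127,169,174,201,206,217,222],2⟩))) (.node 168 (.node 167 (.leaf ⟨[123,124,168,173,200,205,216,221],[120,125,171,172,203,204,219,220],2⟩) (.leaf ⟨[120,124,171,173,203,205,219,221],[123,125,168,172,200,204,216,220],2⟩)) (.node 169 (.leaf ⟨[121,122,126,127,169,170,174,175,201,202,206,207],[217,218,222,223],2⟩) (.leaf ⟨[126,127,174,175,206,207,217,218],[121,122,169,170,201,202,222,223],2⟩))))) (.node 178 (.node 174 (.node 172 (.node 171 (.leaf ⟨[122,126,170,174,202,206,217,223],[121,127,169,175,201,207,218,222],2⟩) (.leaf ⟨[216,219,220,221],[120,123,124,125,168,171,172,173,200,203,204,205],2⟩)) (.node 173 (.leaf ⟨[120,123,168,171,200,203,220,221],[124,125,172,173,204,205,216,219],2⟩) (.leaf ⟨[121,126,169,174,201,206,218,223],[122,127,170,175,202,207,217,222],2⟩)))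 (.node 176 (.node 175 (.leaf ⟨[123,124,171,172,203,204,216,221],[120,125,168,173,200,205,219,220],2⟩) (.leaf ⟨[120,124,168,172,200,204,219,221],[123,125,171,173,203,205,216,220],2⟩)) (.node 177 (.leaf ⟨[129,130,134,135,177,178,182,183,209,210,214,215],[225,226,230,231],2⟩) (.leaf ⟨[134,135,182,183,214,215,225,226],[129,130,177,178,209,210,230,231],2⟩)))) (.node 182 (.node 180 (.node 179 (.leaf ⟨[130,134,178,182,210,214,225,231],[129,135,177,183,209,215,226,230],2⟩) (.leaf ⟨[224,227,228,229],[128,131,132,133,176,179,180,181,208,211,212,213],2⟩)) (.node 181 (.leaf ⟨[128,131,176,179,208,211,228,229],[132,133,180,181,212,213,224,227],2⟩) (.leaf ⟨[129,134,177,182,209,214,226,231],[130,135,178,183,210,215,225,230],2⟩))) (.node 184 (.node 183 (.leaf ⟨[131,132,179,180,211,212,224,229],[128,133,176,181,208,213,227,228],2⟩) (.leaf ⟨[128,132,176,180,208,212,227,229],[131,133,179,181,211,213,224,228],2⟩))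 (.node 185 (.leaf ⟨[129,130,134,135,209,210,214,215,225,226,230,231],[177,178,182,183],2⟩) (.leaf ⟨[134,135,177,178,214,215,230,231],[129,130,182,183,209,210,225,226],2⟩))))))) (.node 217 (.node 201 (.node 193 (.node 189 (.node 187 (.leaf ⟨[130,134,177,183,210,214,226,230],[129,135,178,182,209,215,225,231],2⟩) (.node 188 (.leaf ⟨[176,179,180,181],[128,131,132,133,208,211,212,213,224,227,228,229],2⟩) (.leaf ⟨[128,131,180,181,208,211,224,227],[132,133,176,179,212,213,228,229],2⟩))) (.node 191 (.node 190 (.leaf ⟨[129,134,178,183,209,214,225,230],[130,135,177,182,210,215,226,231],2⟩) (.leaf ⟨[131,132,176,181,211,212,227,228],[128,133,179,180,208,213,224,229],2⟩)) (.node 192 (.leaf ⟨[128,132,179,181,208,212,224,228],[131,133,176,180,211,213,227,229],2⟩) (.leaf ⟨[121,122,126,127,201,202,206,207,217,218,222,223],[169,170,174,175],2⟩)))) (.node 197 (.node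 195 (.node 194 (.leaf ⟨[126,127,169,170,206,207,222,223],[121,122,174,175,201,202,217,218],2⟩) (.leaf ⟨[122,126,169,175,202,206,218,222],[121,127,170,174,201,207,217,223],2⟩)) (.node 196 (.leaf ⟨[168,171,172,173],[120,123,124,125,200,203,204,205,216,219,220,221],2⟩) (.leaf ⟨[120,123,172,173,200,203,216,219],[124,125,168,171,204,205,220,221],2⟩))) (.node 199 (.node 198 (.leaf ⟨[121,126,170,175,201,206,217,222],[122,127,169,174,202,207,218,223],2⟩) (.leaf ⟨[123,124,168,173,203,204,219,220],[120,125,171,172,200,205,216,221],2⟩)) (.node 200 (.leaf ⟨[120,124,171,173,200,204,216,220],[123,125,168,172,203,205,219,221],2⟩) (.leaf ⟨[121,122,126,127,169,170,174,175,217,218,222,223],[201,202,206,207],2⟩))))) (.node 209 (.node 205 (.node 203 (.node 202 (.leaf ⟨[126,127,174,175,201,202,222,223],[121,122,169,170,206,207,217,218],2⟩) (.leaf ⟨[122,126,170,174,201,207,218,222],[121,127,169,175,202,206,217,223],2⟩))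 (.node 204 (.leaf ⟨[200,203,204,205],[120,123,124,125,168,171,172,173,216,219,220,221],2⟩) (.leaf ⟨[120,123,168,171,204,205,216,219],[124,125,172,173,200,203,220,221],2⟩))) (.node 207 (.node 206 (.leaf ⟨[121,126,169,174,202,207,217,222],[122,127,170,175,201,206,218,223],2⟩) (.leaf ⟨[123,124,171,172,200,205,219,220],[120,125,168,173,203,204,216,221],2⟩)) (.node 208 (.leaf ⟨[120,124,168,172,203,205,216,220],[123,125,171,173,200,204,219,221],2⟩) (.leaf ⟨[129,130,134,135,177,178,182,183,225,226,230,231],[209,210,214,215],2⟩)))) (.node 213 (.node 211 (.node 210 (.leaf ⟨[134,135,182,183,209,210,230,231],[129,130,177,178,214,215,225,226],2⟩) (.leaf ⟨[130,134,178,182,209,215,226,230],[129,135,177,183,210,214,225,231],2⟩)) (.node 212 (.leaf ⟨[208,211,212,213],[128,131,132,133,176,179,180,181,224,227,228,229],2⟩) (.leaf ⟨[128,131,176,179,212,213,224,227],[132,133,180,181,208,211,228,229],2⟩)))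 (.node 215 (.node 214 (.leaf ⟨[129,134,177,182,210,215,225,230],[130,135,178,183,209,214,226,231],2⟩) (.leaf ⟨[131,132,179,180,208,213,227,228],[128,133,176,181,211,212,224,229],2⟩)) (.node 216 (.leaf ⟨[128,132,176,180,211,213,224,228],[131,133,179,181,208,212,227,229],2⟩) (.leaf ⟨[161,162,166,167],[145,146,150,151,193,194,198,199,241,242,246,247],2⟩)))))) (.node 232 (.node 224 (.node 220 (.node 218 (.leaf ⟨[145,146,166,167,193,194,241,242],[150,151,161,162,198,199,246,247],2⟩) (.node 219 (.leaf ⟨[145,151,162,166,193,199,241,247],[146,150,161,167,194,198,242,246],2⟩) (.leaf ⟨[144,147,148,149,192,195,196,197,240,243,244,245],[160,163,164,165],2⟩))) (.node 222 (.node 221 (.leaf ⟨[148,149,160,163,196,197,244,245],[144,147,164,165,192,195,240,243],2⟩) (.leaf ⟨[146,151,161,166,194,199,242,247],[145,150,162,167,193,198,241,246],2⟩)) (.node 223 (.leaf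 ⟨[144,149,163,164,192,197,240,245],[147,148,160,165,195,196,243,244],2⟩) (.leaf ⟨[147,149,160,164,195,197,243,245],[144,148,163,165,192,196,240,244],2⟩)))) (.node 228 (.node 226 (.node 225 (.leaf ⟨[153,154,158,159],[137,138,142,143,185,186,190,191,233,234,238,239],2⟩) (.leaf ⟨[137,138,158,159,185,186,233,234],[142,143,153,154,190,191,238,239],2⟩)) (.node 227 (.leaf ⟨[137,143,154,158,185,191,233,239],[138,142,153,159,186,190,234,238],2⟩) (.leaf ⟨[136,139,140,141,184,187,188,189,232,235,236,237],[152,155,156,157],2⟩))) (.node 230 (.node 229 (.leaf ⟨[140,141,152,155,188,189,236,237],[136,139,156,157,184,187,232,235],2⟩) (.leaf ⟨[138,143,153,158,186,191,234,239],[137,142,154,159,185,190,233,238],2⟩)) (.node 231 (.leaf ⟨[136,141,155,156,184,189,232,237],[139,140,152,157,187,188,235,236],2⟩) (.leaf ⟨[139,141,152,156,187,189,235,237],[136,140,155,157,184,188,232,236],2⟩)))))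 (.node 240 (.node 236 (.node 234 (.node 233 (.leaf ⟨[185,186,190,191],[137,138,142,143,153,154,158,159,233,234,238,239],2⟩) (.leaf ⟨[137,138,153,154,190,191,233,234],[142,143,158,159,185,186,238,239],2⟩)) (.node 235 (.leaf ⟨[137,143,153,159,186,190,233,239],[138,142,154,158,185,191,234,238],2⟩) (.leaf ⟨[136,139,140,141,152,155,156,157,232,235,236,237],[184,187,188,189],2⟩))) (.node 238 (.node 237 (.leaf ⟨[140,141,156,157,184,187,236,237],[136,139,152,155,188,189,232,235],2⟩) (.leaf ⟨[138,143,154,159,185,190,234,239],[137,142,153,158,186,191,233,238],2⟩)) (.node 239 (.leaf ⟨[136,141,152,157,187,188,232,237],[139,140,155,156,184,189,235,236],2⟩) (.leaf ⟨[139,141,155,157,184,188,235,237],[136,140,152,156,187,189,232,236],2⟩)))) (.node 244 (.node 242 (.node 241 (.leaf ⟨[193,194,198,199],[145,146,150,151,161,162,166,167,241,242,246,247],2⟩) (.leaf ⟨[145,146,161,162,198,199,241,242],[150,151,166,167,193,194,246,247],2⟩))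 (.node 243 (.leaf ⟨[145,151,161,167,194,198,241,247],[146,150,162,166,193,199,242,246],2⟩) (.leaf ⟨[144,147,148,149,160,163,164,165,240,243,244,245],[192,195,196,197],2⟩))) (.node 246 (.node 245 (.leaf ⟨[148,149,164,165,192,195,244,245],[144,147,160,163,196,197,240,243],2⟩) (.leaf ⟨[146,151,162,167,193,198,242,247],[145,150,161,166,194,199,241,246],2⟩)) (.node 247 (.leaf ⟨[144,149,160,165,195,196,240,245],[147,148,163,164,192,197,243,244],2⟩) (.leaf ⟨[147,149,163,165,192,196,243,245],[144,148,160,164,195,197,240,244],2⟩)))))))))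
noncomputable def xmsi : BT Row := (.node 124 (.node 62 (.node 31 (.node 15 (.node 7 (.node 3 (.node 1 (.leaf ⟨[0],[],0⟩) (.node 2 (.leaf ⟨[4],[],0⟩) (.leaf ⟨[5],[],0⟩))) (.node 5 (.node 4 (.leaf ⟨[6],[],0⟩) (.leaf ⟨[36],[],0⟩)) (.node 6 (.leaf ⟨[37],[],0⟩) (.leaf ⟨[38],[],0⟩)))) (.node 11 (.node 9 (.node 8 (.leaf ⟨[42],[],0⟩) (.leaf ⟨[43],[],0⟩)) (.node 10 (.leaf ⟨[44],[],0⟩) (.leaf ⟨[1],[],0⟩))) (.node 13 (.node 12 (.leaf ⟨[2],[],0⟩) (.leaf ⟨[3],[],0⟩)) (.node 14 (.leaf ⟨[],[7],0⟩) (.leaf ⟨[],[8],0⟩))))) (.node 23 (.node 19 (.node 17 (.node 16 (.leaf ⟨[],[9],0⟩) (.leaf ⟨[],[39],0⟩)) (.node 18 (.leaf ⟨[],[40],0⟩) (.leaf ⟨[],[41],0⟩))) (.node 21 (.node 20 (.leaf ⟨[45],[],0⟩) (.leaf ⟨[10],[],0⟩)) (.node 22 (.leaf ⟨[11],[],0⟩) (.leaf ⟨[12],[],0⟩)))) (.node 27 (.node 25 (.node 24 (.leaf ⟨[16],[],0⟩) (.leaf ⟨[17],[],0⟩)) (.node 26 (.leaf ⟨[18],[],0⟩)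 (.leaf ⟨[],[46],0⟩))) (.node 29 (.node 28 (.leaf ⟨[],[47],0⟩) (.leaf ⟨[],[48],0⟩)) (.node 30 (.leaf ⟨[],[50],0⟩) (.leaf ⟨[13],[],0⟩)))))) (.node 46 (.node 38 (.node 34 (.node 32 (.leaf ⟨[14],[],0⟩) (.node 33 (.leaf ⟨[15],[],0⟩) (.leaf ⟨[],[19],0⟩))) (.node 36 (.node 35 (.leaf ⟨[49],[],0⟩) (.leaf ⟨[],[51],0⟩)) (.node 37 (.leaf ⟨[],[119],0⟩) (.leaf ⟨[118],[],0⟩)))) (.node 42 (.node 40 (.node 39 (.leaf ⟨[117],[],0⟩) (.leaf ⟨[113],[],0⟩)) (.node 41 (.leaf ⟨[112],[],0⟩) (.leaf ⟨[],[111],0⟩))) (.node 44 (.node 43 (.leaf ⟨[],[91],0⟩) (.leaf ⟨[],[90],0⟩)) (.node 45 (.leaf ⟨[89],[],0⟩) (.leaf ⟨[87],[],0⟩))))) (.node 54 (.node 50 (.node 48 (.node 47 (.leaf ⟨[],[116],0⟩) (.leaf ⟨[],[115],0⟩)) (.node 49 (.leaf ⟨[114],[],0⟩) (.leaf ⟨[],[110],0⟩))) (.node 52 (.node 51 (.leaf ⟨[88],[],0⟩) (.leaf ⟨[],[86],0⟩)) (.node 53 (.leaf ⟨[],[109],0⟩) (.leaf ⟨[],[108],0⟩))))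 (.node 58 (.node 56 (.node 55 (.leaf ⟨[107],[],0⟩) (.leaf ⟨[105],[],0⟩)) (.node 57 (.leaf ⟨[85],[],0⟩) (.leaf ⟨[83],[],0⟩))) (.node 60 (.node 59 (.leaf ⟨[],[106],0⟩) (.leaf ⟨[104],[],0⟩)) (.node 61 (.leaf ⟨[84],[],0⟩) (.leaf ⟨[],[82],0⟩))))))) (.node 93 (.node 77 (.node 69 (.node 65 (.node 63 (.leaf ⟨[81],[],0⟩) (.node 64 (.leaf ⟨[80],[],0⟩) (.leaf ⟨[20],[],0⟩))) (.node 67 (.node 66 (.leaf ⟨[21],[],0⟩) (.leaf ⟨[22],[],0⟩)) (.node 68 (.leaf ⟨[26],[],0⟩) (.leaf ⟨[27],[],0⟩)))) (.node 73 (.node 71 (.node 70 (.leaf ⟨[28],[],0⟩) (.leaf ⟨[],[52],0⟩)) (.node 72 (.leaf ⟨[],[53],0⟩) (.leaf ⟨[],[54],0⟩))) (.node 75 (.node 74 (.leaf ⟨[],[56],0⟩) (.leaf ⟨[23],[],0⟩)) (.node 76 (.leaf ⟨[24],[],0⟩) (.leaf ⟨[25],[],0⟩))))) (.node 85 (.node 81 (.node 79 (.node 78 (.leaf ⟨[],[29],0⟩) (.leaf ⟨[55],[],0⟩)) (.node 80 (.leaf ⟨[],[57],0⟩) (.leaf ⟨[30],[],0⟩))) (.node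 83 (.node 82 (.leaf ⟨[31],[],0⟩) (.leaf ⟨[32],[],0⟩)) (.node 84 (.leaf ⟨[34],[],0⟩) (.leaf ⟨[58],[],0⟩)))) (.node 89 (.node 87 (.node 86 (.leaf ⟨[60],[],0⟩) (.leaf ⟨[33],[],0⟩)) (.node 88 (.leaf ⟨[],[35],0⟩) (.leaf ⟨[],[59],0⟩))) (.node 91 (.node 90 (.leaf ⟨[61],[],0⟩) (.leaf ⟨[62],[],0⟩)) (.node 92 (.leaf ⟨[63],[],0⟩) (.leaf ⟨[],[103],0⟩)))))) (.node 108 (.node 100 (.node 96 (.node 94 (.leaf ⟨[],[102],0⟩) (.node 95 (.leaf ⟨[101],[],0⟩) (.leaf ⟨[99],[],0⟩))) (.node 98 (.node 97 (.leaf ⟨[79],[],0⟩) (.leaf ⟨[77],[],0⟩)) (.node 99 (.leaf ⟨[],[100],0⟩) (.leaf ⟨[98],[],0⟩)))) (.node 104 (.node 102 (.node 101 (.leaf ⟨[78],[],0⟩) (.leaf ⟨[],[76],0⟩)) (.node 103 (.leaf ⟨[75],[],0⟩) (.leaf ⟨[74],[],0⟩))) (.node 106 (.node 105 (.leaf ⟨[],[97],0⟩) (.leaf ⟨[],[95],0⟩)) (.node 107 (.leaf ⟨[73],[],0⟩) (.leaf ⟨[69],[],0⟩))))) (.node 116 (.node 112 (.node 110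 (.node 109 (.leaf ⟨[],[68],0⟩) (.leaf ⟨[],[67],0⟩)) (.node 111 (.leaf ⟨[96],[],0⟩) (.leaf ⟨[],[94],0⟩))) (.node 114 (.node 113 (.leaf ⟨[93],[],0⟩) (.leaf ⟨[92],[],0⟩)) (.node 115 (.leaf ⟨[72],[],0⟩) (.leaf ⟨[],[71],0⟩)))) (.node 120 (.node 118 (.node 117 (.leaf ⟨[],[70],0⟩) (.leaf ⟨[66],[],0⟩)) (.node 119 (.leaf ⟨[65],[],0⟩) (.leaf ⟨[],[64],0⟩))) (.node 122 (.node 121 (.leaf ⟨[164,167,172,175,196,199,204,207],[163,166,171,174,195,198,203,206],2⟩) (.leaf ⟨[160,165,168,173,192,197,200,205],[161,162,169,170,193,194,201,202],2⟩)) (.node 123 (.leaf ⟨[160,162,168,170,192,194,200,202],[161,165,169,173,193,197,201,205],2⟩) (.leaf ⟨[164,166,172,174,196,198,204,206],[163,167,171,175,195,199,203,207],2⟩)))))))) (.node 186 (.node 155 (.node 139 (.node 131 (.node 127 (.node 125 (.leaf ⟨[166,167,174,175,198,199,206,207],[163,164,171,172,195,196,203,204],2⟩)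 (.node 126 (.leaf ⟨[],[163,164,166,167,171,172,174,175,195,196,198,199,203,204,206,207],2⟩) (.leaf ⟨[160,161,162,165,168,169,170,173,192,193,194,197,200,201,202,205],[],2⟩))) (.node 129 (.node 128 (.leaf ⟨[160,161,168,169,192,193,200,201],[162,165,170,173,194,197,202,205],2⟩) (.leaf ⟨[156,159,180,183,188,191,212,215],[155,158,179,182,187,190,211,214],2⟩)) (.node 130 (.leaf ⟨[152,157,176,181,184,189,208,213],[153,154,177,178,185,186,209,210],2⟩) (.leaf ⟨[152,154,176,178,184,186,208,210],[153,157,177,181,185,189,209,213],2⟩)))) (.node 135 (.node 133 (.node 132 (.leaf ⟨[156,158,180,182,188,190,212,214],[155,159,179,183,187,191,211,215],2⟩) (.leaf ⟨[158,159,182,183,190,191,214,215],[155,156,179,180,187,188,211,212],2⟩)) (.node 134 (.leaf ⟨[],[155,156,158,159,179,180,182,183,187,188,190,191,211,212,214,215],2⟩) (.leaf ⟨[152,153,154,157,176,177,178,181,184,185,186,189,208,209,210,213],[],2⟩)))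 (.node 137 (.node 136 (.leaf ⟨[152,153,176,177,184,185,208,209],[154,157,178,181,186,189,210,213],2⟩) (.leaf ⟨[131,134,139,142,227,230,235,238],[132,135,140,143,228,231,236,239],2⟩)) (.node 138 (.leaf ⟨[129,130,137,138,225,226,233,234],[128,133,136,141,224,229,232,237],2⟩) (.leaf ⟨[129,133,137,141,225,229,233,237],[128,130,136,138,224,226,232,234],2⟩))))) (.node 147 (.node 143 (.node 141 (.node 140 (.leaf ⟨[131,135,139,143,227,231,235,239],[132,134,140,142,228,230,236,238],2⟩) (.leaf ⟨[131,132,139,140,227,228,235,236],[134,135,142,143,230,231,238,239],2⟩)) (.node 142 (.leaf ⟨[131,132,134,135,139,140,142,143,227,228,230,231,235,236,238,239],[],2⟩) (.leaf ⟨[],[128,129,130,133,136,137,138,141,224,225,226,229,232,233,234,237],2⟩))) (.node 145 (.node 144 (.leaf ⟨[130,133,138,141,226,229,234,237],[128,129,136,137,224,225,232,233],2⟩) (.leaf ⟨[123,126,147,150,219,222,243,246],[124,127,148,151,220,223,244,247],2⟩))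 (.node 146 (.leaf ⟨[121,122,145,146,217,218,241,242],[120,125,144,149,216,221,240,245],2⟩) (.leaf ⟨[121,125,145,149,217,221,241,245],[120,122,144,146,216,218,240,242],2⟩)))) (.node 151 (.node 149 (.node 148 (.leaf ⟨[123,127,147,151,219,223,243,247],[124,126,148,150,220,222,244,246],2⟩) (.leaf ⟨[123,124,147,148,219,220,243,244],[126,127,150,151,222,223,246,247],2⟩)) (.node 150 (.leaf ⟨[123,124,126,127,147,148,150,151,219,220,222,223,243,244,246,247],[],2⟩) (.leaf ⟨[],[120,121,122,125,144,145,146,149,216,217,218,221,240,241,242,245],2⟩))) (.node 153 (.node 152 (.leaf ⟨[122,125,146,149,218,221,242,245],[120,121,144,145,216,217,240,241],2⟩) (.leaf ⟨[132,135,139,142,228,231,235,238],[131,134,140,143,227,230,236,239],2⟩)) (.node 154 (.leaf ⟨[128,133,137,138,224,229,233,234],[129,130,136,141,225,226,232,237],2⟩) (.leaf ⟨[128,130,137,141,224,226,233,237],[129,133,136,138,225,229,232,234],2⟩))))))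 (.node 170 (.node 162 (.node 158 (.node 156 (.leaf ⟨[132,134,139,143,228,230,235,239],[131,135,140,142,227,231,236,238],2⟩) (.node 157 (.leaf ⟨[134,135,139,140,230,231,235,236],[131,132,142,143,227,228,238,239],2⟩) (.leaf ⟨[139,140,142,143,235,236,238,239],[131,132,134,135,227,228,230,231],2⟩))) (.node 160 (.node 159 (.leaf ⟨[128,129,130,133,224,225,226,229],[136,137,138,141,232,233,234,237],2⟩) (.leaf ⟨[128,129,138,141,224,225,234,237],[130,133,136,137,226,229,232,233],2⟩)) (.node 161 (.leaf ⟨[124,127,147,150,220,223,243,246],[123,126,148,151,219,222,244,247],2⟩) (.leaf ⟨[120,125,145,146,216,221,241,242],[121,122,144,149,217,218,240,245],2⟩)))) (.node 166 (.node 164 (.node 163 (.leaf ⟨[120,122,145,149,216,218,241,245],[121,125,144,146,217,221,240,242],2⟩) (.leaf ⟨[124,126,147,151,220,222,243,247],[123,127,148,150,219,223,244,246],2⟩)) (.node 165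 (.leaf ⟨[126,127,147,148,222,223,243,244],[123,124,150,151,219,220,246,247],2⟩) (.leaf ⟨[147,148,150,151,243,244,246,247],[123,124,126,127,219,220,222,223],2⟩))) (.node 168 (.node 167 (.leaf ⟨[120,121,122,125,216,217,218,221],[144,145,146,149,240,241,242,245],2⟩) (.leaf ⟨[120,121,146,149,216,217,242,245],[122,125,144,145,218,221,240,241],2⟩)) (.node 169 (.leaf ⟨[163,166,172,175,195,198,204,207],[164,167,171,174,196,199,203,206],2⟩) (.leaf ⟨[161,162,168,173,193,194,200,205],[160,165,169,170,192,197,201,202],2⟩))))) (.node 178 (.node 174 (.node 172 (.node 171 (.leaf ⟨[161,165,168,170,193,197,200,202],[160,162,169,173,192,194,201,205],2⟩) (.leaf ⟨[163,167,172,174,195,199,204,206],[164,166,171,175,196,198,203,207],2⟩)) (.node 173 (.leaf ⟨[163,164,174,175,195,196,206,207],[166,167,171,172,198,199,203,204],2⟩) (.leaf ⟨[163,164,166,167,195,196,198,199],[171,172,174,175,203,204,206,207],2⟩)))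 (.node 176 (.node 175 (.leaf ⟨[168,169,170,173,200,201,202,205],[160,161,162,165,192,193,194,197],2⟩) (.leaf ⟨[162,165,168,169,194,197,200,201],[160,161,170,173,192,193,202,205],2⟩)) (.node 177 (.leaf ⟨[155,158,180,183,187,190,212,215],[156,159,179,182,188,191,211,214],2⟩) (.leaf ⟨[153,154,176,181,185,186,208,213],[152,157,177,178,184,189,209,210],2⟩)))) (.node 182 (.node 180 (.node 179 (.leaf ⟨[153,157,176,178,185,189,208,210],[152,154,177,181,184,186,209,213],2⟩) (.leaf ⟨[155,159,180,182,187,191,212,214],[156,158,179,183,188,190,211,215],2⟩)) (.node 181 (.leaf ⟨[155,156,182,183,187,188,214,215],[158,159,179,180,190,191,211,212],2⟩) (.leaf ⟨[155,156,158,159,187,188,190,191],[179,180,182,183,211,212,214,215],2⟩))) (.node 184 (.node 183 (.leaf ⟨[176,177,178,181,208,209,210,213],[152,153,154,157,184,185,186,189],2⟩) (.leaf ⟨[154,157,176,177,186,189,208,209],[152,153,178,181,184,185,210,213],2⟩))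 (.node 185 (.leaf ⟨[132,135,139,142,227,230,236,239],[131,134,140,143,228,231,235,238],2⟩) (.leaf ⟨[128,133,137,138,225,226,232,237],[129,130,136,141,224,229,233,234],2⟩))))))) (.node 217 (.node 201 (.node 193 (.node 189 (.node 187 (.leaf ⟨[128,130,137,141,225,229,232,234],[129,133,136,138,224,226,233,237],2⟩) (.node 188 (.leaf ⟨[132,134,139,143,227,231,236,238],[131,135,140,142,228,230,235,239],2⟩) (.leaf ⟨[134,135,139,140,227,228,238,239],[131,132,142,143,230,231,235,236],2⟩))) (.node 191 (.node 190 (.leaf ⟨[139,140,142,143,227,228,230,231],[131,132,134,135,235,236,238,239],2⟩) (.leaf ⟨[128,129,130,133,232,233,234,237],[136,137,138,141,224,225,226,229],2⟩)) (.node 192 (.leaf ⟨[128,129,138,141,226,229,232,233],[130,133,136,137,224,225,234,237],2⟩) (.leaf ⟨[124,127,147,150,219,222,244,247],[123,126,148,151,220,223,243,246],2⟩)))) (.node 197 (.node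 195 (.node 194 (.leaf ⟨[120,125,145,146,217,218,240,245],[121,122,144,149,216,221,241,242],2⟩) (.leaf ⟨[120,122,145,149,217,221,240,242],[121,125,144,146,216,218,241,245],2⟩)) (.node 196 (.leaf ⟨[124,126,147,151,219,223,244,246],[123,127,148,150,220,222,243,247],2⟩) (.leaf ⟨[126,127,147,148,219,220,246,247],[123,124,150,151,222,223,243,244],2⟩))) (.node 199 (.node 198 (.leaf ⟨[147,148,150,151,219,220,222,223],[123,124,126,127,243,244,246,247],2⟩) (.leaf ⟨[120,121,122,125,240,241,242,245],[144,145,146,149,216,217,218,221],2⟩)) (.node 200 (.leaf ⟨[120,121,146,149,218,221,240,241],[122,125,144,145,216,217,242,245],2⟩) (.leaf ⟨[163,166,172,175,196,199,203,206],[164,167,171,174,195,198,204,207],2⟩))))) (.node 209 (.node 205 (.node 203 (.node 202 (.leaf ⟨[161,162,168,173,192,197,201,202],[160,165,169,170,193,194,200,205],2⟩) (.leaf ⟨[161,165,168,170,192,194,201,205],[160,162,169,173,193,197,200,202],2⟩))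 (.node 204 (.leaf ⟨[163,167,172,174,196,198,203,207],[164,166,171,175,195,199,204,206],2⟩) (.leaf ⟨[163,164,174,175,198,199,203,204],[166,167,171,172,195,196,206,207],2⟩))) (.node 207 (.node 206 (.leaf ⟨[163,164,166,167,203,204,206,207],[171,172,174,175,195,196,198,199],2⟩) (.leaf ⟨[168,169,170,173,192,193,194,197],[160,161,162,165,200,201,202,205],2⟩)) (.node 208 (.leaf ⟨[162,165,168,169,192,193,202,205],[160,161,170,173,194,197,200,201],2⟩) (.leaf ⟨[155,158,180,183,188,191,211,214],[156,159,179,182,187,190,212,215],2⟩)))) (.node 213 (.node 211 (.node 210 (.leaf ⟨[153,154,176,181,184,189,209,210],[152,157,177,178,185,186,208,213],2⟩) (.leaf ⟨[153,157,176,178,184,186,209,213],[152,154,177,181,185,189,208,210],2⟩)) (.node 212 (.leaf ⟨[155,159,180,182,188,190,211,215],[156,158,179,183,187,191,212,214],2⟩) (.leaf ⟨[155,156,182,183,190,191,211,212],[158,159,179,180,187,188,214,215],2⟩)))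 (.node 215 (.node 214 (.leaf ⟨[155,156,158,159,211,212,214,215],[179,180,182,183,187,188,190,191],2⟩) (.leaf ⟨[176,177,178,181,184,185,186,189],[152,153,154,157,208,209,210,213],2⟩)) (.node 216 (.leaf ⟨[154,157,176,177,184,185,210,213],[152,153,178,181,186,189,208,209],2⟩) (.leaf ⟨[163,166,171,174,196,199,204,207],[164,167,172,175,195,198,203,206],2⟩)))))) (.node 232 (.node 224 (.node 220 (.node 218 (.leaf ⟨[161,162,169,170,192,197,200,205],[160,165,168,173,193,194,201,202],2⟩) (.node 219 (.leaf ⟨[161,165,169,173,192,194,200,202],[160,162,168,170,193,197,201,205],2⟩) (.leaf ⟨[163,167,171,175,196,198,204,206],[164,166,172,174,195,199,203,207],2⟩))) (.node 222 (.node 221 (.leaf ⟨[163,164,171,172,198,199,206,207],[166,167,174,175,195,196,203,204],2⟩) (.leaf ⟨[163,164,166,167,171,172,174,175],[195,196,198,199,203,204,206,207],2⟩)) (.node 223 (.leaf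 ⟨[192,193,194,197,200,201,202,205],[160,161,162,165,168,169,170,173],2⟩) (.leaf ⟨[162,165,170,173,192,193,200,201],[160,161,168,169,194,197,202,205],2⟩)))) (.node 228 (.node 226 (.node 225 (.leaf ⟨[155,158,179,182,188,191,212,215],[156,159,180,183,187,190,211,214],2⟩) (.leaf ⟨[153,154,177,178,184,189,208,213],[152,157,176,181,185,186,209,210],2⟩)) (.node 227 (.leaf ⟨[153,157,177,181,184,186,208,210],[152,154,176,178,185,189,209,213],2⟩) (.leaf ⟨[155,159,179,183,188,190,212,214],[156,158,180,182,187,191,211,215],2⟩))) (.node 230 (.node 229 (.leaf ⟨[155,156,179,180,190,191,214,215],[158,159,182,183,187,188,211,212],2⟩) (.leaf ⟨[155,156,158,159,179,180,182,183],[187,188,190,191,211,212,214,215],2⟩)) (.node 231 (.leaf ⟨[184,185,186,189,208,209,210,213],[152,153,154,157,176,177,178,181],2⟩) (.leaf ⟨[154,157,178,181,184,185,208,209],[152,153,176,177,186,189,210,213],2⟩)))))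 (.node 240 (.node 236 (.node 234 (.node 233 (.leaf ⟨[132,135,140,143,227,230,235,238],[131,134,139,142,228,231,236,239],2⟩) (.leaf ⟨[128,133,136,141,225,226,233,234],[129,130,137,138,224,229,232,237],2⟩)) (.node 235 (.leaf ⟨[128,130,136,138,225,229,233,237],[129,133,137,141,224,226,232,234],2⟩) (.leaf ⟨[132,134,140,142,227,231,235,239],[131,135,139,143,228,230,236,238],2⟩))) (.node 238 (.node 237 (.leaf ⟨[134,135,142,143,227,228,235,236],[131,132,139,140,230,231,238,239],2⟩) (.leaf ⟨[227,228,230,231,235,236,238,239],[131,132,134,135,139,140,142,143],2⟩)) (.node 239 (.leaf ⟨[128,129,130,133,136,137,138,141],[224,225,226,229,232,233,234,237],2⟩) (.leaf ⟨[128,129,136,137,226,229,234,237],[130,133,138,141,224,225,232,233],2⟩)))) (.node 244 (.node 242 (.node 241 (.leaf ⟨[124,127,148,151,219,222,243,246],[123,126,147,150,220,223,244,247],2⟩) (.leaf ⟨[120,125,144,149,217,218,241,242],[121,122,145,146,216,221,240,245],2⟩))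 (.node 243 (.leaf ⟨[120,122,144,146,217,221,241,245],[121,125,145,149,216,218,240,242],2⟩) (.leaf ⟨[124,126,148,150,219,223,243,247],[123,127,147,151,220,222,244,246],2⟩))) (.node 246 (.node 245 (.leaf ⟨[126,127,150,151,219,220,243,244],[123,124,147,148,222,223,246,247],2⟩) (.leaf ⟨[219,220,222,223,243,244,246,247],[123,124,126,127,147,148,150,151],2⟩)) (.node 247 (.leaf ⟨[120,121,122,125,144,145,146,149],[216,217,218,221,240,241,242,245],2⟩) (.leaf ⟨[120,121,144,145,218,221,242,245],[122,125,146,149,216,217,240,241],2⟩)))))))))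
noncomputable def xmt : BT Row := (.node 124 (.node 62 (.node 31 (.node 15 (.node 7 (.node 3 (.node 1 (.leaf ⟨[0],[],0⟩) (.node 2 (.leaf ⟨[1],[],0⟩) (.leaf ⟨[2],[],0⟩))) (.node 5 (.node 4 (.leaf ⟨[3],[],0⟩) (.leaf ⟨[36],[],0⟩)) (.node 6 (.leaf ⟨[37],[],0⟩) (.leaf ⟨[38],[],0⟩)))) (.node 11 (.node 9 (.node 8 (.leaf ⟨[39],[],0⟩) (.leaf ⟨[40],[],0⟩)) (.node 10 (.leaf ⟨[41],[],0⟩) (.leaf ⟨[20],[],0⟩))) (.node 13 (.node 12 (.leaf ⟨[21],[],0⟩) (.leaf ⟨[22],[],0⟩)) (.node 14 (.leaf ⟨[23],[],0⟩) (.leaf ⟨[24],[],0⟩))))) (.node 23 (.node 19 (.node 17 (.node 16 (.leaf ⟨[25],[],0⟩) (.leaf ⟨[],[52],0⟩)) (.node 18 (.leaf ⟨[],[53],0⟩) (.leaf ⟨[],[54],0⟩))) (.node 21 (.node 20 (.leaf ⟨[],[55],0⟩) (.leaf ⟨[],[119],0⟩)) (.node 22 (.leaf ⟨[118],[],0⟩) (.leaf ⟨[117],[],0⟩)))) (.node 27 (.node 25 (.node 24 (.leaf ⟨[],[116],0⟩) (.leaf ⟨[],[115],0⟩)) (.node 26 (.leaf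 ⟨[114],[],0⟩) (.leaf ⟨[],[91],0⟩))) (.node 29 (.node 28 (.leaf ⟨[],[90],0⟩) (.leaf ⟨[89],[],0⟩)) (.node 30 (.leaf ⟨[],[88],0⟩) (.leaf ⟨[103],[],0⟩)))))) (.node 46 (.node 38 (.node 34 (.node 32 (.leaf ⟨[102],[],0⟩) (.node 33 (.leaf ⟨[],[101],0⟩) (.leaf ⟨[100],[],0⟩))) (.node 36 (.node 35 (.leaf ⟨[],[79],0⟩) (.leaf ⟨[78],[],0⟩)) (.node 37 (.leaf ⟨[64],[],0⟩) (.leaf ⟨[65],[],0⟩)))) (.node 42 (.node 40 (.node 39 (.leaf ⟨[66],[],0⟩) (.leaf ⟨[67],[],0⟩)) (.node 41 (.leaf ⟨[68],[],0⟩) (.leaf ⟨[69],[],0⟩))) (.node 44 (.node 43 (.leaf ⟨[92],[],0⟩) (.leaf ⟨[93],[],0⟩)) (.node 45 (.leaf ⟨[94],[],0⟩) (.leaf ⟨[95],[],0⟩))))) (.node 54 (.node 50 (.node 48 (.node 47 (.leaf ⟨[80],[],0⟩) (.leaf ⟨[81],[],0⟩)) (.node 49 (.leaf ⟨[82],[],0⟩) (.leaf ⟨[83],[],0⟩))) (.node 52 (.node 51 (.leaf ⟨[],[104],0⟩) (.leaf ⟨[],[105],0⟩)) (.node 53 (.leaf ⟨[],[63],0⟩) (.leaf ⟨[],[62],0⟩))))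 (.node 58 (.node 56 (.node 55 (.leaf ⟨[61],[],0⟩) (.leaf ⟨[],[60],0⟩)) (.node 57 (.leaf ⟨[],[35],0⟩) (.leaf ⟨[34],[],0⟩))) (.node 60 (.node 59 (.leaf ⟨[51],[],0⟩) (.leaf ⟨[],[50],0⟩)) (.node 61 (.leaf ⟨[19],[],0⟩) (.leaf ⟨[],[18],0⟩))))))) (.node 93 (.node 77 (.node 69 (.node 65 (.node 63 (.leaf ⟨[17],[],0⟩) (.node 64 (.leaf ⟨[16],[],0⟩) (.leaf ⟨[4],[],0⟩))) (.node 67 (.node 66 (.leaf ⟨[5],[],0⟩) (.leaf ⟨[6],[],0⟩)) (.node 68 (.leaf ⟨[7],[],0⟩) (.leaf ⟨[8],[],0⟩)))) (.node 73 (.node 71 (.node 70 (.leaf ⟨[9],[],0⟩) (.leaf ⟨[],[42],0⟩)) (.node 72 (.leaf ⟨[],[43],0⟩) (.leaf ⟨[],[44],0⟩))) (.node 75 (.node 74 (.leaf ⟨[],[45],0⟩) (.leaf ⟨[],[26],0⟩)) (.node 76 (.leaf ⟨[],[27],0⟩) (.leaf ⟨[],[28],0⟩))))) (.node 85 (.node 81 (.node 79 (.node 78 (.leaf ⟨[],[29],0⟩) (.leaf ⟨[],[56],0⟩)) (.node 80 (.leaf ⟨[],[57],0⟩) (.leaf ⟨[],[113],0⟩))) (.node 83 (.node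 82 (.leaf ⟨[],[112],0⟩) (.leaf ⟨[111],[],0⟩)) (.node 84 (.leaf ⟨[],[110],0⟩) (.leaf ⟨[87],[],0⟩)))) (.node 89 (.node 87 (.node 86 (.leaf ⟨[],[86],0⟩) (.leaf ⟨[],[99],0⟩)) (.node 88 (.leaf ⟨[98],[],0⟩) (.leaf ⟨[77],[],0⟩))) (.node 91 (.node 90 (.leaf ⟨[],[76],0⟩) (.leaf ⟨[75],[],0⟩)) (.node 92 (.leaf ⟨[74],[],0⟩) (.leaf ⟨[],[70],0⟩)))))) (.node 108 (.node 100 (.node 96 (.node 94 (.leaf ⟨[],[71],0⟩) (.node 95 (.leaf ⟨[],[72],0⟩) (.leaf ⟨[],[73],0⟩))) (.node 98 (.node 97 (.leaf ⟨[96],[],0⟩) (.leaf ⟨[97],[],0⟩)) (.node 99 (.leaf ⟨[84],[],0⟩) (.leaf ⟨[85],[],0⟩)))) (.node 104 (.node 102 (.node 101 (.leaf ⟨[106],[],0⟩) (.leaf ⟨[107],[],0⟩)) (.node 103 (.leaf ⟨[108],[],0⟩) (.leaf ⟨[109],[],0⟩))) (.node 106 (.node 105 (.leaf ⟨[59],[],0⟩) (.leaf ⟨[],[58],0⟩)) (.node 107 (.leaf ⟨[33],[],0⟩) (.leaf ⟨[],[32],0⟩))))) (.node 116 (.node 112 (.node 110 (.node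 109 (.leaf ⟨[31],[],0⟩) (.leaf ⟨[30],[],0⟩)) (.node 111 (.leaf ⟨[],[49],0⟩) (.leaf ⟨[48],[],0⟩))) (.node 114 (.node 113 (.leaf ⟨[],[47],0⟩) (.leaf ⟨[],[46],0⟩)) (.node 115 (.leaf ⟨[15],[],0⟩) (.leaf ⟨[],[14],0⟩)))) (.node 120 (.node 118 (.node 117 (.leaf ⟨[],[13],0⟩) (.leaf ⟨[12],[],0⟩)) (.node 119 (.leaf ⟨[11],[],0⟩) (.leaf ⟨[],[10],0⟩))) (.node 122 (.node 121 (.leaf ⟨[],[160],0⟩) (.leaf ⟨[],[161],0⟩)) (.node 123 (.leaf ⟨[166],[],0⟩) (.leaf ⟨[],[167],0⟩)))))))) (.node 186 (.node 155 (.node 139 (.node 131 (.node 127 (.node 125 (.leaf ⟨[],[162],0⟩) (.node 126 (.leaf ⟨[],[163],0⟩) (.leaf ⟨[164],[],0⟩))) (.node 129 (.node 128 (.leaf ⟨[],[165],0⟩) (.leaf ⟨[],[152],0⟩)) (.node 130 (.leaf ⟨[],[153],0⟩) (.leaf ⟨[158],[],0⟩)))) (.node 135 (.node 133 (.node 132 (.leaf ⟨[],[159],0⟩) (.leaf ⟨[],[154],0⟩)) (.node 134 (.leaf ⟨[],[155],0⟩) (.leaf ⟨[156],[],0⟩)))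 (.node 137 (.node 136 (.leaf ⟨[],[157],0⟩) (.leaf ⟨[176],[],0⟩)) (.node 138 (.leaf ⟨[177],[],0⟩) (.leaf ⟨[],[182],0⟩))))) (.node 147 (.node 143 (.node 141 (.node 140 (.leaf ⟨[183],[],0⟩) (.leaf ⟨[178],[],0⟩)) (.node 142 (.leaf ⟨[179],[],0⟩) (.leaf ⟨[],[180],0⟩))) (.node 145 (.node 144 (.leaf ⟨[181],[],0⟩) (.leaf ⟨[168],[],0⟩)) (.node 146 (.leaf ⟨[169],[],0⟩) (.leaf ⟨[],[174],0⟩)))) (.node 151 (.node 149 (.node 148 (.leaf ⟨[175],[],0⟩) (.leaf ⟨[170],[],0⟩)) (.node 150 (.leaf ⟨[171],[],0⟩) (.leaf ⟨[],[172],0⟩))) (.node 153 (.node 152 (.leaf ⟨[173],[],0⟩) (.leaf ⟨[232],[],0⟩)) (.node 154 (.leaf ⟨[233],[],0⟩) (.leaf ⟨[],[238],0⟩)))))) (.node 170 (.node 162 (.node 158 (.node 156 (.leaf ⟨[239],[],0⟩) (.node 157 (.leaf ⟨[234],[],0⟩) (.leaf ⟨[235],[],0⟩))) (.node 160 (.node 159 (.leaf ⟨[],[236],0⟩) (.leaf ⟨[237],[],0⟩)) (.node 161 (.leaf ⟨[240],[],0⟩)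 (.leaf ⟨[241],[],0⟩)))) (.node 166 (.node 164 (.node 163 (.leaf ⟨[],[246],0⟩) (.leaf ⟨[247],[],0⟩)) (.node 165 (.leaf ⟨[242],[],0⟩) (.leaf ⟨[243],[],0⟩))) (.node 168 (.node 167 (.leaf ⟨[],[244],0⟩) (.leaf ⟨[245],[],0⟩)) (.node 169 (.leaf ⟨[216],[],0⟩) (.leaf ⟨[217],[],0⟩))))) (.node 178 (.node 174 (.node 172 (.node 171 (.leaf ⟨[],[222],0⟩) (.leaf ⟨[223],[],0⟩)) (.node 173 (.leaf ⟨[218],[],0⟩) (.leaf ⟨[219],[],0⟩))) (.node 176 (.node 175 (.leaf ⟨[],[220],0⟩) (.leaf ⟨[221],[],0⟩)) (.node 177 (.leaf ⟨[224],[],0⟩) (.leaf ⟨[225],[],0⟩)))) (.node 182 (.node 180 (.node 179 (.leaf ⟨[],[230],0⟩) (.leaf ⟨[231],[],0⟩)) (.node 181 (.leaf ⟨[226],[],0⟩) (.leaf ⟨[227],[],0⟩))) (.node 184 (.node 183 (.leaf ⟨[],[228],0⟩) (.leaf ⟨[229],[],0⟩)) (.node 185 (.leaf ⟨[184],[],0⟩) (.leaf ⟨[185],[],0⟩))))))) (.node 217 (.node 201 (.node 193 (.node 189 (.node 187 (.leaf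 ⟨[],[190],0⟩) (.node 188 (.leaf ⟨[191],[],0⟩) (.leaf ⟨[186],[],0⟩))) (.node 191 (.node 190 (.leaf ⟨[187],[],0⟩) (.leaf ⟨[],[188],0⟩)) (.node 192 (.leaf ⟨[189],[],0⟩) (.leaf ⟨[192],[],0⟩)))) (.node 197 (.node 195 (.node 194 (.leaf ⟨[193],[],0⟩) (.leaf ⟨[],[198],0⟩)) (.node 196 (.leaf ⟨[199],[],0⟩) (.leaf ⟨[194],[],0⟩))) (.node 199 (.node 198 (.leaf ⟨[195],[],0⟩) (.leaf ⟨[],[196],0⟩)) (.node 200 (.leaf ⟨[197],[],0⟩) (.leaf ⟨[200],[],0⟩))))) (.node 209 (.node 205 (.node 203 (.node 202 (.leaf ⟨[201],[],0⟩) (.leaf ⟨[],[206],0⟩)) (.node 204 (.leaf ⟨[207],[],0⟩) (.leaf ⟨[202],[],0⟩))) (.node 207 (.node 206 (.leaf ⟨[203],[],0⟩) (.leaf ⟨[],[204],0⟩)) (.node 208 (.leaf ⟨[205],[],0⟩) (.leaf ⟨[208],[],0⟩)))) (.node 213 (.node 211 (.node 210 (.leaf ⟨[209],[],0⟩) (.leaf ⟨[],[214],0⟩)) (.node 212 (.leaf ⟨[215],[],0⟩) (.leaf ⟨[210],[],0⟩))) (.node 215 (.node 214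 (.leaf ⟨[211],[],0⟩) (.leaf ⟨[],[212],0⟩)) (.node 216 (.leaf ⟨[213],[],0⟩) (.leaf ⟨[144],[],0⟩)))))) (.node 232 (.node 224 (.node 220 (.node 218 (.leaf ⟨[145],[],0⟩) (.node 219 (.leaf ⟨[],[150],0⟩) (.leaf ⟨[151],[],0⟩))) (.node 222 (.node 221 (.leaf ⟨[146],[],0⟩) (.leaf ⟨[147],[],0⟩)) (.node 223 (.leaf ⟨[],[148],0⟩) (.leaf ⟨[149],[],0⟩)))) (.node 228 (.node 226 (.node 225 (.leaf ⟨[136],[],0⟩) (.leaf ⟨[137],[],0⟩)) (.node 227 (.leaf ⟨[],[142],0⟩) (.leaf ⟨[143],[],0⟩))) (.node 230 (.node 229 (.leaf ⟨[138],[],0⟩) (.leaf ⟨[139],[],0⟩)) (.node 231 (.leaf ⟨[],[140],0⟩) (.leaf ⟨[141],[],0⟩))))) (.node 240 (.node 236 (.node 234 (.node 233 (.leaf ⟨[],[128],0⟩) (.leaf ⟨[],[129],0⟩)) (.node 235 (.leaf ⟨[134],[],0⟩) (.leaf ⟨[],[135],0⟩))) (.node 238 (.node 237 (.leaf ⟨[],[130],0⟩) (.leaf ⟨[],[131],0⟩)) (.node 239 (.leaf ⟨[132],[],0⟩) (.leaf ⟨[],[133],0⟩))))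 (.node 244 (.node 242 (.node 241 (.leaf ⟨[],[120],0⟩) (.leaf ⟨[],[121],0⟩)) (.node 243 (.leaf ⟨[126],[],0⟩) (.leaf ⟨[],[127],0⟩))) (.node 246 (.node 245 (.leaf ⟨[],[122],0⟩) (.leaf ⟨[],[123],0⟩)) (.node 247 (.leaf ⟨[124],[],0⟩) (.leaf ⟨[],[125],0⟩)))))))))
noncomputable def xmti : BT Row := (.node 124 (.node 62 (.node 31 (.node 15 (.node 7 (.node 3 (.node 1 (.leaf ⟨[0],[],0⟩) (.node 2 (.leaf ⟨[1],[],0⟩) (.leaf ⟨[2],[],0⟩))) (.node 5 (.node 4 (.leaf ⟨[3],[],0⟩) (.leaf ⟨[64],[],0⟩)) (.node 6 (.leaf ⟨[65],[],0⟩) (.leaf ⟨[66],[],0⟩)))) (.node 11 (.node 9 (.node 8 (.leaf ⟨[67],[],0⟩) (.leaf ⟨[68],[],0⟩)) (.node 10 (.leaf ⟨[69],[],0⟩) (.leaf ⟨[],[119],0⟩))) (.node 13 (.node 12 (.leaf ⟨[118],[],0⟩) (.leaf ⟨[117],[],0⟩)) (.node 14 (.leaf ⟨[],[116],0⟩) (.leaf ⟨[],[115],0⟩))))) (.node 23 (.node 19 (.node 17 (.node 16 (.leaf ⟨[114],[],0⟩) (.leaf ⟨[63],[],0⟩))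 (.node 18 (.leaf ⟨[62],[],0⟩) (.leaf ⟨[],[61],0⟩))) (.node 21 (.node 20 (.leaf ⟨[60],[],0⟩) (.leaf ⟨[10],[],0⟩)) (.node 22 (.leaf ⟨[11],[],0⟩) (.leaf ⟨[12],[],0⟩)))) (.node 27 (.node 25 (.node 24 (.leaf ⟨[13],[],0⟩) (.leaf ⟨[14],[],0⟩)) (.node 26 (.leaf ⟨[15],[],0⟩) (.leaf ⟨[],[74],0⟩))) (.node 29 (.node 28 (.leaf ⟨[],[75],0⟩) (.leaf ⟨[],[76],0⟩)) (.node 30 (.leaf ⟨[],[77],0⟩) (.leaf ⟨[109],[],0⟩)))))) (.node 46 (.node 38 (.node 34 (.node 32 (.leaf ⟨[108],[],0⟩) (.node 33 (.leaf ⟨[],[107],0⟩) (.leaf ⟨[106],[],0⟩))) (.node 36 (.node 35 (.leaf ⟨[57],[],0⟩) (.leaf ⟨[],[56],0⟩)) (.node 37 (.leaf ⟨[4],[],0⟩) (.leaf ⟨[5],[],0⟩)))) (.node 42 (.node 40 (.node 39 (.leaf ⟨[6],[],0⟩) (.leaf ⟨[7],[],0⟩)) (.node 41 (.leaf ⟨[8],[],0⟩) (.leaf ⟨[9],[],0⟩))) (.node 44 (.node 43 (.leaf ⟨[],[70],0⟩) (.leaf ⟨[],[71],0⟩)) (.node 45 (.leaf ⟨[],[72],0⟩) (.leaf ⟨[],[73],0⟩)))))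 (.node 54 (.node 50 (.node 48 (.node 47 (.leaf ⟨[],[113],0⟩) (.leaf ⟨[],[112],0⟩)) (.node 49 (.leaf ⟨[111],[],0⟩) (.leaf ⟨[],[110],0⟩))) (.node 52 (.node 51 (.leaf ⟨[],[59],0⟩) (.leaf ⟨[58],[],0⟩)) (.node 53 (.leaf ⟨[],[16],0⟩) (.leaf ⟨[],[17],0⟩)))) (.node 58 (.node 56 (.node 55 (.leaf ⟨[],[18],0⟩) (.leaf ⟨[],[19],0⟩)) (.node 57 (.leaf ⟨[],[78],0⟩) (.leaf ⟨[],[79],0⟩))) (.node 60 (.node 59 (.leaf ⟨[],[105],0⟩) (.leaf ⟨[104],[],0⟩)) (.node 61 (.leaf ⟨[],[55],0⟩) (.leaf ⟨[54],[],0⟩))))))) (.node 93 (.node 77 (.node 69 (.node 65 (.node 63 (.leaf ⟨[],[53],0⟩) (.node 64 (.leaf ⟨[],[52],0⟩) (.leaf ⟨[36],[],0⟩))) (.node 67 (.node 66 (.leaf ⟨[37],[],0⟩) (.leaf ⟨[38],[],0⟩)) (.node 68 (.leaf ⟨[39],[],0⟩) (.leaf ⟨[40],[],0⟩)))) (.node 73 (.node 71 (.node 70 (.leaf ⟨[41],[],0⟩) (.leaf ⟨[],[92],0⟩)) (.node 72 (.leaf ⟨[],[93],0⟩) (.leaf ⟨[],[94],0⟩))) (.node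 75 (.node 74 (.leaf ⟨[],[95],0⟩) (.leaf ⟨[91],[],0⟩)) (.node 76 (.leaf ⟨[90],[],0⟩) (.leaf ⟨[],[89],0⟩))))) (.node 85 (.node 81 (.node 79 (.node 78 (.leaf ⟨[88],[],0⟩) (.leaf ⟨[35],[],0⟩)) (.node 80 (.leaf ⟨[],[34],0⟩) (.leaf ⟨[46],[],0⟩))) (.node 83 (.node 82 (.leaf ⟨[47],[],0⟩) (.leaf ⟨[48],[],0⟩)) (.node 84 (.leaf ⟨[49],[],0⟩) (.leaf ⟨[98],[],0⟩)))) (.node 89 (.node 87 (.node 86 (.leaf ⟨[99],[],0⟩) (.leaf ⟨[],[85],0⟩)) (.node 88 (.leaf ⟨[84],[],0⟩) (.leaf ⟨[],[29],0⟩))) (.node 91 (.node 90 (.leaf ⟨[28],[],0⟩) (.leaf ⟨[],[27],0⟩)) (.node 92 (.leaf ⟨[],[26],0⟩) (.leaf ⟨[42],[],0⟩)))))) (.node 108 (.node 100 (.node 96 (.node 94 (.leaf ⟨[43],[],0⟩) (.node 95 (.leaf ⟨[44],[],0⟩) (.leaf ⟨[45],[],0⟩))) (.node 98 (.node 97 (.leaf ⟨[96],[],0⟩) (.leaf ⟨[97],[],0⟩)) (.node 99 (.leaf ⟨[87],[],0⟩) (.leaf ⟨[],[86],0⟩)))) (.node 104 (.node 102 (.node 101 (.leaf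 ⟨[33],[],0⟩) (.leaf ⟨[],[32],0⟩)) (.node 103 (.leaf ⟨[31],[],0⟩) (.leaf ⟨[30],[],0⟩))) (.node 106 (.node 105 (.leaf ⟨[],[50],0⟩) (.leaf ⟨[],[51],0⟩)) (.node 107 (.leaf ⟨[100],[],0⟩) (.leaf ⟨[101],[],0⟩))))) (.node 116 (.node 112 (.node 110 (.node 109 (.leaf ⟨[102],[],0⟩) (.leaf ⟨[103],[],0⟩)) (.node 111 (.leaf ⟨[],[83],0⟩) (.leaf ⟨[82],[],0⟩))) (.node 114 (.node 113 (.leaf ⟨[],[81],0⟩) (.leaf ⟨[],[80],0⟩)) (.node 115 (.leaf ⟨[25],[],0⟩) (.leaf ⟨[],[24],0⟩)))) (.node 120 (.node 118 (.node 117 (.leaf ⟨[],[23],0⟩) (.leaf ⟨[22],[],0⟩)) (.node 119 (.leaf ⟨[21],[],0⟩) (.leaf ⟨[],[20],0⟩))) (.node 122 (.node 121 (.leaf ⟨[],[240],0⟩) (.leaf ⟨[],[241],0⟩)) (.node 123 (.leaf ⟨[],[244],0⟩) (.leaf ⟨[],[245],0⟩)))))))) (.node 186 (.node 155 (.node 139 (.node 131 (.node 127 (.node 125 (.leaf ⟨[246],[],0⟩) (.node 126 (.leaf ⟨[],[247],0⟩) (.leaf ⟨[242],[],0⟩)))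 (.node 129 (.node 128 (.leaf ⟨[],[243],0⟩) (.leaf ⟨[],[232],0⟩)) (.node 130 (.leaf ⟨[],[233],0⟩) (.leaf ⟨[],[236],0⟩)))) (.node 135 (.node 133 (.node 132 (.leaf ⟨[],[237],0⟩) (.leaf ⟨[238],[],0⟩)) (.node 134 (.leaf ⟨[],[239],0⟩) (.leaf ⟨[234],[],0⟩))) (.node 137 (.node 136 (.leaf ⟨[],[235],0⟩) (.leaf ⟨[224],[],0⟩)) (.node 138 (.leaf ⟨[225],[],0⟩) (.leaf ⟨[228],[],0⟩))))) (.node 147 (.node 143 (.node 141 (.node 140 (.leaf ⟨[229],[],0⟩) (.leaf ⟨[],[230],0⟩)) (.node 142 (.leaf ⟨[231],[],0⟩) (.leaf ⟨[],[226],0⟩))) (.node 145 (.node 144 (.leaf ⟨[227],[],0⟩) (.leaf ⟨[216],[],0⟩)) (.node 146 (.leaf ⟨[217],[],0⟩) (.leaf ⟨[220],[],0⟩)))) (.node 151 (.node 149 (.node 148 (.leaf ⟨[221],[],0⟩) (.leaf ⟨[],[222],0⟩)) (.node 150 (.leaf ⟨[223],[],0⟩) (.leaf ⟨[],[218],0⟩))) (.node 153 (.node 152 (.leaf ⟨[219],[],0⟩) (.leaf ⟨[],[128],0⟩)) (.node 154 (.leaf ⟨[],[129],0⟩)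 (.leaf ⟨[],[132],0⟩)))))) (.node 170 (.node 162 (.node 158 (.node 156 (.leaf ⟨[],[133],0⟩) (.node 157 (.leaf ⟨[134],[],0⟩) (.leaf ⟨[],[135],0⟩))) (.node 160 (.node 159 (.leaf ⟨[130],[],0⟩) (.leaf ⟨[],[131],0⟩)) (.node 161 (.leaf ⟨[],[120],0⟩) (.leaf ⟨[],[121],0⟩)))) (.node 166 (.node 164 (.node 163 (.leaf ⟨[],[124],0⟩) (.leaf ⟨[],[125],0⟩)) (.node 165 (.leaf ⟨[126],[],0⟩) (.leaf ⟨[],[127],0⟩))) (.node 168 (.node 167 (.leaf ⟨[122],[],0⟩) (.leaf ⟨[],[123],0⟩)) (.node 169 (.leaf ⟨[144],[],0⟩) (.leaf ⟨[145],[],0⟩))))) (.node 178 (.node 174 (.node 172 (.node 171 (.leaf ⟨[148],[],0⟩) (.leaf ⟨[149],[],0⟩)) (.node 173 (.leaf ⟨[],[150],0⟩) (.leaf ⟨[151],[],0⟩))) (.node 176 (.node 175 (.leaf ⟨[],[146],0⟩) (.leaf ⟨[147],[],0⟩)) (.node 177 (.leaf ⟨[136],[],0⟩) (.leaf ⟨[137],[],0⟩)))) (.node 182 (.node 180 (.node 179 (.leaf ⟨[140],[],0⟩) (.leaf ⟨[141],[],0⟩))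 (.node 181 (.leaf ⟨[],[142],0⟩) (.leaf ⟨[143],[],0⟩))) (.node 184 (.node 183 (.leaf ⟨[],[138],0⟩) (.leaf ⟨[139],[],0⟩)) (.node 185 (.leaf ⟨[184],[],0⟩) (.leaf ⟨[185],[],0⟩))))))) (.node 217 (.node 201 (.node 193 (.node 189 (.node 187 (.leaf ⟨[188],[],0⟩) (.node 188 (.leaf ⟨[189],[],0⟩) (.leaf ⟨[],[190],0⟩))) (.node 191 (.node 190 (.leaf ⟨[191],[],0⟩) (.leaf ⟨[],[186],0⟩)) (.node 192 (.leaf ⟨[187],[],0⟩) (.leaf ⟨[192],[],0⟩)))) (.node 197 (.node 195 (.node 194 (.leaf ⟨[193],[],0⟩) (.leaf ⟨[196],[],0⟩)) (.node 196 (.leaf ⟨[197],[],0⟩) (.leaf ⟨[],[198],0⟩))) (.node 199 (.node 198 (.leaf ⟨[199],[],0⟩) (.leaf ⟨[],[194],0⟩)) (.node 200 (.leaf ⟨[195],[],0⟩) (.leaf ⟨[200],[],0⟩))))) (.node 209 (.node 205 (.node 203 (.node 202 (.leaf ⟨[201],[],0⟩) (.leaf ⟨[204],[],0⟩)) (.node 204 (.leaf ⟨[205],[],0⟩) (.leaf ⟨[],[206],0⟩))) (.node 207 (.node 206 (.leaf ⟨[207],[],0⟩)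 (.leaf ⟨[],[202],0⟩)) (.node 208 (.leaf ⟨[203],[],0⟩) (.leaf ⟨[208],[],0⟩)))) (.node 213 (.node 211 (.node 210 (.leaf ⟨[209],[],0⟩) (.leaf ⟨[212],[],0⟩)) (.node 212 (.leaf ⟨[213],[],0⟩) (.leaf ⟨[],[214],0⟩))) (.node 215 (.node 214 (.leaf ⟨[215],[],0⟩) (.leaf ⟨[],[210],0⟩)) (.node 216 (.leaf ⟨[211],[],0⟩) (.leaf ⟨[168],[],0⟩)))))) (.node 232 (.node 224 (.node 220 (.node 218 (.leaf ⟨[169],[],0⟩) (.node 219 (.leaf ⟨[172],[],0⟩) (.leaf ⟨[173],[],0⟩))) (.node 222 (.node 221 (.leaf ⟨[],[174],0⟩) (.leaf ⟨[175],[],0⟩)) (.node 223 (.leaf ⟨[],[170],0⟩) (.leaf ⟨[171],[],0⟩)))) (.node 228 (.node 226 (.node 225 (.leaf ⟨[176],[],0⟩) (.leaf ⟨[177],[],0⟩)) (.node 227 (.leaf ⟨[180],[],0⟩) (.leaf ⟨[181],[],0⟩))) (.node 230 (.node 229 (.leaf ⟨[],[182],0⟩) (.leaf ⟨[183],[],0⟩)) (.node 231 (.leaf ⟨[],[178],0⟩) (.leaf ⟨[179],[],0⟩))))) (.node 240 (.node 236 (.node 234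 (.node 233 (.leaf ⟨[152],[],0⟩) (.leaf ⟨[153],[],0⟩)) (.node 235 (.leaf ⟨[156],[],0⟩) (.leaf ⟨[157],[],0⟩))) (.node 238 (.node 237 (.leaf ⟨[],[158],0⟩) (.leaf ⟨[159],[],0⟩)) (.node 239 (.leaf ⟨[],[154],0⟩) (.leaf ⟨[155],[],0⟩)))) (.node 244 (.node 242 (.node 241 (.leaf ⟨[160],[],0⟩) (.leaf ⟨[161],[],0⟩)) (.node 243 (.leaf ⟨[164],[],0⟩) (.leaf ⟨[165],[],0⟩))) (.node 246 (.node 245 (.leaf ⟨[],[166],0⟩) (.leaf ⟨[167],[],0⟩)) (.node 247 (.leaf ⟨[],[162],0⟩) (.leaf ⟨[163],[],0⟩)))))))))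
noncomputable def xmf : BT Row := (.node 124 (.node 62 (.node 31 (.node 15 (.node 7 (.node 3 (.node 1 (.leaf ⟨[120,126,145,146,147,148,149,151,161,162,163,164,165,167,169,170,171,172,173,175,193,194,195,196,197,199,200,206,217,218,219,220,221,223,241,242,243,244,245,247],[121,122,123,124,125,127,144,150,160,166,168,174,192,198,201,202,203,204,205,207,216,222,240,246],3⟩) (.node 2 (.leaf ⟨[121,122,123,124,125,127,145,146,147,148,149,151,160,166,169,170,171,172,173,175,193,194,195,196,197,199,201,202,203,204,205,207,217,218,219,220,221,223,240,246],[120,126,144,150,161,162,163,164,165,167,168,174,192,198,200,206,216,222,241,242,243,244,245,247],3⟩) (.leaf ⟨[2,26],[74,91],1⟩))) (.node 5 (.node 4 (.leaf ⟨[75,90],[3,27],1⟩) (.leaf ⟨[121,122,123,124,125,127,145,146,147,148,149,151,161,162,163,164,165,167,168,174,192,198,200,206,217,218,219,220,221,223,240,246],[120,126,144,150,160,166,169,170,171,172,173,175,193,194,195,196,197,199,201,202,203,204,205,207,216,222,241,242,243,244,245,247],3⟩))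 (.node 6 (.leaf ⟨[5],[23,46,63],1⟩) (.leaf ⟨[24,47,62],[6],1⟩)))) (.node 11 (.node 9 (.node 8 (.leaf ⟨[7,21,109],[92],1⟩) (.leaf ⟨[93],[8,22,108],1⟩)) (.node 10 (.leaf ⟨[125,127,144,145,146,147,148,150,165,167,173,175,197,199,200,201,202,203,204,206,216,217,218,219,220,222,240,241,242,243,244,246],[120,121,122,123,124,126,149,151,160,161,162,163,164,166,168,169,170,171,172,174,192,193,194,195,196,198,205,207,221,223,245,247],3⟩) (.leaf ⟨[120,126,145,146,147,148,149,151,160,166,168,174,193,194,195,196,197,199,200,206,216,222,240,246],[121,122,123,124,125,127,144,150,161,162,163,164,165,167,169,170,171,172,173,175,192,198,201,202,203,204,205,207,217,218,219,220,221,223,241,242,243,244,245,247],3⟩))) (.node 13 (.node 12 (.leaf ⟨[11,42,67],[103],1⟩) (.leaf ⟨[102],[12,43,68],1⟩)) (.node 14 (.leaf ⟨[13,52,113],[65],1⟩) (.leaf ⟨[66],[14,53,112],1⟩)))))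 (.node 23 (.node 19 (.node 17 (.node 16 (.leaf ⟨[122,123,126,127,146,147,150,151,162,163,166,167,168,169,172,173,194,195,198,199,202,203,206,207,216,217,220,221,242,243,246,247],[120,121,124,125,144,145,148,149,160,161,164,165,170,171,174,175,192,193,196,197,200,201,204,205,218,219,222,223,240,241,244,245],3⟩) (.leaf ⟨[16,116],[37,80],1⟩)) (.node 18 (.leaf ⟨[38,81],[17,115],1⟩) (.leaf ⟨[121,123,145,147,160,162,164,165,166,167,169,171,192,194,196,197,198,199,200,202,204,205,206,207,216,218,220,221,222,223,241,243],[120,122,124,125,126,127,144,146,148,149,150,151,161,163,168,170,172,173,174,175,193,195,201,203,217,219,240,242,244,245,246,247],3⟩))) (.node 21 (.node 20 (.leaf ⟨[120,122,123,125,145,148,150,151,161,164,166,167,169,172,174,175,192,194,195,197,201,204,206,207,216,218,219,221,240,242,243,245],[121,124,126,127,144,146,147,149,160,162,163,165,168,170,171,173,193,196,198,199,200,202,203,205,217,220,222,223,241,244,246,247],3⟩)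 (.leaf ⟨[121,122,123,124,125,127,144,150,161,162,163,164,165,167,169,170,171,172,173,175,193,194,195,196,197,199,200,206,216,222,240,246],[120,126,145,146,147,148,149,151,160,166,168,174,192,198,201,202,203,204,205,207,217,218,219,220,221,223,241,242,243,244,245,247],3⟩)) (.node 22 (.leaf ⟨[7,21,92],[109],1⟩) (.leaf ⟨[108],[8,22,93],1⟩)))) (.node 27 (.node 25 (.node 24 (.leaf ⟨[23],[5,46,63],1⟩) (.leaf ⟨[6,47,62],[24],1⟩)) (.node 26 (.leaf ⟨[120,121,122,123,124,126,144,145,146,147,148,150,160,161,162,163,164,166,173,175,197,199,205,207,216,217,218,219,220,222,245,247],[125,127,149,151,165,167,168,169,170,171,172,174,192,193,194,195,196,198,200,201,202,203,204,206,221,223,240,241,242,243,244,246],3⟩) (.leaf ⟨[2,26,74,91],[],1⟩))) (.node 29 (.node 28 (.leaf ⟨[],[3,27,75,90],1⟩) (.leaf ⟨[125,127,149,151,160,161,162,163,164,166,173,175,197,199,205,207,221,223,240,241,242,243,244,246],[120,121,122,123,124,126,144,145,146,147,148,150,165,167,168,169,170,171,172,174,192,193,194,195,196,198,200,201,202,203,204,206,216,217,218,219,220,222,245,247],3⟩))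 (.node 30 (.leaf ⟨[125,127,144,145,146,147,148,150,160,161,162,163,164,166,168,169,170,171,172,174,192,193,194,195,196,198,205,207,216,217,218,219,220,222,240,241,242,243,244,246],[120,121,122,123,124,126,149,151,165,167,173,175,197,199,200,201,202,203,204,206,221,223,245,247],3⟩) (.leaf ⟨[30,39],[70,118],1⟩)))))) (.node 46 (.node 38 (.node 34 (.node 32 (.leaf ⟨[71,117],[31,40],1⟩) (.node 33 (.leaf ⟨[122,124,144,145,147,149,150,151,160,161,163,165,166,167,168,169,171,173,174,175,194,196,200,201,203,205,206,207,218,220,242,244],[120,121,123,125,126,127,146,148,162,164,170,172,192,193,195,197,198,199,202,204,216,217,219,221,222,223,240,241,243,245,246,247],3⟩) (.leaf ⟨[121,122,125,126,145,146,149,150,160,163,164,167,169,170,173,174,192,195,196,199,200,203,204,207,216,219,220,223,241,242,245,246],[120,123,124,127,144,147,148,151,161,162,165,166,168,171,172,175,193,194,197,198,201,202,205,206,217,218,221,222,240,243,244,247],3⟩)))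 (.node 36 (.node 35 (.leaf ⟨[120,121,122,127,144,145,146,151,160,161,162,167,171,172,173,174,192,193,194,199,200,201,202,207,219,220,221,222,240,241,242,247],[123,124,125,126,147,148,149,150,163,164,165,166,168,169,170,175,195,196,197,198,203,204,205,206,216,217,218,223,243,244,245,246],3⟩) (.leaf ⟨[125,127,144,145,146,147,148,150,165,167,173,175,192,193,194,195,196,198,205,207,221,223,245,247],[120,121,122,123,124,126,149,151,160,161,162,163,164,166,168,169,170,171,172,174,197,199,200,201,202,203,204,206,216,217,218,219,220,222,240,241,242,243,244,246],3⟩)) (.node 37 (.leaf ⟨[121,122,123,124,125,127,145,146,147,148,149,151,160,166,169,170,171,172,173,175,192,198,200,206,216,222,241,242,243,244,245,247],[120,126,144,150,161,162,163,164,165,167,168,174,193,194,195,196,197,199,201,202,203,204,205,207,217,218,219,220,221,223,240,246],3⟩) (.leaf ⟨[37,116],[16,80],1⟩))))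 (.node 42 (.node 40 (.node 39 (.leaf ⟨[17,81],[38,115],1⟩) (.leaf ⟨[30,39,70,118],[],1⟩)) (.node 41 (.leaf ⟨[],[31,40,71,117],1⟩) (.leaf ⟨[123,124,125,126,144,145,146,151,160,161,162,167,168,169,170,175,195,196,197,198,200,201,202,207,219,220,221,222,243,244,245,246],[120,121,122,127,147,148,149,150,163,164,165,166,171,172,173,174,192,193,194,199,203,204,205,206,216,217,218,223,240,241,242,247],3⟩))) (.node 44 (.node 43 (.leaf ⟨[11,42,103],[67],1⟩) (.leaf ⟨[68],[12,43,102],1⟩)) (.node 45 (.leaf ⟨[121,123,144,146,148,149,150,151,161,163,169,171,192,194,196,197,198,199,201,203,217,219,241,243],[120,122,124,125,126,127,145,147,160,162,164,165,166,167,168,170,172,173,174,175,193,195,200,202,204,205,206,207,216,218,220,221,222,223,240,242,244,245,246,247],3⟩) (.leaf ⟨[122,124,146,148,162,164,168,169,171,173,174,175,194,196,202,204,216,217,219,221,222,223,242,244],[120,121,123,125,126,127,144,145,147,149,150,151,160,161,163,165,166,167,170,172,192,193,195,197,198,199,200,201,203,205,206,207,218,220,240,241,243,245,246,247],3⟩)))))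 (.node 54 (.node 50 (.node 48 (.node 47 (.leaf ⟨[46],[5,23,63],1⟩) (.leaf ⟨[6,24,62],[47],1⟩)) (.node 49 (.leaf ⟨[121,123,145,147,161,163,168,170,172,173,174,175,192,194,196,197,198,199,200,202,204,205,206,207,217,219,240,242,244,245,246,247],[120,122,124,125,126,127,144,146,148,149,150,151,160,162,164,165,166,167,169,171,193,195,201,203,216,218,220,221,222,223,241,243],3⟩) (.leaf ⟨[120,123,124,127,145,146,149,150,160,163,164,167,168,171,172,175,192,195,196,199,201,202,205,206,217,218,221,222,241,242,245,246],[121,122,125,126,144,147,148,151,161,162,165,166,169,170,173,174,193,194,197,198,200,203,204,207,216,219,220,223,240,243,244,247],3⟩))) (.node 52 (.node 51 (.leaf ⟨[121,123,144,146,148,149,150,151,160,162,164,165,166,167,168,170,172,173,174,175,192,194,196,197,198,199,201,203,216,218,220,221,222,223,240,242,244,245,246,247],[120,122,124,125,126,127,145,147,161,163,169,171,193,195,200,202,204,205,206,207,217,219,241,243],3⟩)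 (.leaf ⟨[120,122,124,125,126,127,144,146,148,149,150,151,161,163,168,170,172,173,174,175,192,194,196,197,198,199,200,202,204,205,206,207,216,218,220,221,222,223,241,243],[121,123,145,147,160,162,164,165,166,167,169,171,193,195,201,203,217,219,240,242,244,245,246,247],3⟩)) (.node 53 (.leaf ⟨[13,52,65],[113],1⟩) (.leaf ⟨[112],[14,53,66],1⟩)))) (.node 58 (.node 56 (.node 55 (.leaf ⟨[121,124,126,127,145,148,150,151,161,164,166,167,168,170,171,173,193,196,198,199,201,204,206,207,216,218,219,221,241,244,246,247],[120,122,123,125,144,146,147,149,160,162,163,165,169,172,174,175,192,194,195,197,200,202,203,205,217,220,222,223,240,242,243,245],3⟩) (.leaf ⟨[120,123,124,127,145,146,149,150,160,163,164,167,168,171,172,175,193,194,197,198,200,203,204,207,216,219,220,223,240,243,244,247],[121,122,125,126,144,147,148,151,161,162,165,166,169,170,173,174,192,195,196,199,201,202,205,206,217,218,221,222,241,242,245,246],3⟩))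 (.node 57 (.leaf ⟨[122,123,126,127,144,145,148,149,160,161,164,165,168,169,172,173,194,195,198,199,200,201,204,205,218,219,222,223,242,243,246,247],[120,121,124,125,146,147,150,151,162,163,166,167,170,171,174,175,192,193,196,197,202,203,206,207,216,217,220,221,240,241,244,245],3⟩) (.leaf ⟨[125,127,149,151,160,161,162,163,164,166,173,175,192,193,194,195,196,198,200,201,202,203,204,206,216,217,218,219,220,222,245,247],[120,121,122,123,124,126,144,145,146,147,148,150,165,167,168,169,170,171,172,174,197,199,205,207,221,223,240,241,242,243,244,246],3⟩))) (.node 60 (.node 59 (.leaf ⟨[120,123,124,127,144,147,148,151,161,162,165,166,168,171,172,175,192,195,196,199,200,203,204,207,216,219,220,223,241,242,245,246],[121,122,125,126,145,146,149,150,160,163,164,167,169,170,173,174,193,194,197,198,201,202,205,206,217,218,221,222,240,243,244,247],3⟩) (.leaf ⟨[120,123,124,127,145,146,149,150,161,162,165,166,169,170,173,174,193,194,197,198,200,203,204,207,217,218,221,222,241,242,245,246],[121,122,125,126,144,147,148,151,160,163,164,167,168,171,172,175,192,195,196,199,201,202,205,206,216,219,220,223,240,243,244,247],3⟩))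 (.node 61 (.leaf ⟨[120,122,124,125,126,127,145,147,160,162,164,165,166,167,168,170,172,173,174,175,192,194,196,197,198,199,201,203,217,219,241,243],[121,123,144,146,148,149,150,151,161,163,169,171,193,195,200,202,204,205,206,207,216,218,220,221,222,223,240,242,244,245,246,247],3⟩) (.leaf ⟨[120,123,124,127,144,147,148,151,160,163,164,167,169,170,173,174,193,194,197,198,201,202,205,206,216,219,220,223,241,242,245,246],[121,122,125,126,145,146,149,150,161,162,165,166,168,171,172,175,192,195,196,199,200,203,204,207,217,218,221,222,240,243,244,247],3⟩))))))) (.node 93 (.node 77 (.node 69 (.node 65 (.node 63 (.leaf ⟨[6,24,47],[62],1⟩) (.node 64 (.leaf ⟨[63],[5,23,46],1⟩) (.leaf ⟨[120,126,144,150,160,166,169,170,171,172,173,175,192,198,200,206,217,218,219,220,221,223,240,246],[121,122,123,124,125,127,145,146,147,148,149,151,161,162,163,164,165,167,168,174,193,194,195,196,197,199,201,202,203,204,205,207,216,222,241,242,243,244,245,247],3⟩)))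 (.node 67 (.node 66 (.leaf ⟨[52,65,113],[13],1⟩) (.leaf ⟨[14],[53,66,112],1⟩)) (.node 68 (.leaf ⟨[11,67,103],[42],1⟩) (.leaf ⟨[43],[12,68,102],1⟩)))) (.node 73 (.node 71 (.node 70 (.leaf ⟨[120,121,124,125,146,147,150,151,160,161,164,165,168,169,172,173,194,195,198,199,200,201,204,205,216,217,220,221,240,241,244,245],[122,123,126,127,144,145,148,149,162,163,166,167,170,171,174,175,192,193,196,197,202,203,206,207,218,219,222,223,242,243,246,247],3⟩) (.leaf ⟨[39,70],[30,118],1⟩)) (.node 72 (.leaf ⟨[31,117],[40,71],1⟩) (.leaf ⟨[121,122,125,126,144,147,148,151,160,163,164,167,168,171,172,175,193,194,197,198,200,203,204,207,217,218,221,222,241,242,245,246],[120,123,124,127,145,146,149,150,161,162,165,166,169,170,173,174,192,195,196,199,201,202,205,206,216,219,220,223,240,243,244,247],3⟩))) (.node 75 (.node 74 (.leaf ⟨[122,124,146,148,160,161,163,165,166,167,170,172,192,193,195,197,198,199,200,201,203,205,206,207,216,217,219,221,222,223,242,244],[120,121,123,125,126,127,144,145,147,149,150,151,162,164,168,169,171,173,174,175,194,196,202,204,218,220,240,241,243,245,246,247],3⟩)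 (.leaf ⟨[26,74],[2,91],1⟩)) (.node 76 (.leaf ⟨[3,90],[27,75],1⟩) (.leaf ⟨[120,121,124,125,144,145,148,149,162,163,166,167,168,169,172,173,192,193,196,197,200,201,204,205,216,217,220,221,242,243,246,247],[122,123,126,127,146,147,150,151,160,161,164,165,170,171,174,175,194,195,198,199,202,203,206,207,218,219,222,223,240,241,244,245],3⟩))))) (.node 85 (.node 81 (.node 79 (.node 78 (.leaf ⟨[120,121,124,125,146,147,150,151,162,163,166,167,170,171,174,175,194,195,198,199,200,201,204,205,218,219,222,223,242,243,246,247],[122,123,126,127,144,145,148,149,160,161,164,165,168,169,172,173,192,193,196,197,202,203,206,207,216,217,220,221,240,241,244,245],3⟩) (.leaf ⟨[120,121,122,127,147,148,149,150,160,161,162,167,168,169,170,175,192,193,194,199,203,204,205,206,219,220,221,222,243,244,245,246],[123,124,125,126,144,145,146,151,163,164,165,166,171,172,173,174,195,196,197,198,200,201,202,207,216,217,218,223,240,241,242,247],3⟩))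 (.node 80 (.leaf ⟨[120,121,124,125,144,145,148,149,160,161,164,165,170,171,174,175,194,195,198,199,202,203,206,207,216,217,220,221,242,243,246,247],[122,123,126,127,146,147,150,151,162,163,166,167,168,169,172,173,192,193,196,197,200,201,204,205,218,219,222,223,240,241,244,245],3⟩) (.leaf ⟨[80,116],[16,37],1⟩))) (.node 83 (.node 82 (.leaf ⟨[17,38],[81,115],1⟩) (.leaf ⟨[121,124,126,127,145,148,150,151,160,162,163,165,169,172,174,175,192,194,195,197,200,202,203,205,216,218,219,221,241,244,246,247],[120,122,123,125,144,146,147,149,161,164,166,167,168,170,171,173,193,196,198,199,201,204,206,207,217,220,222,223,240,242,243,245],3⟩)) (.node 84 (.leaf ⟨[120,122,124,125,126,127,145,147,161,163,169,171,192,194,196,197,198,199,201,203,216,218,220,221,222,223,240,242,244,245,246,247],[121,123,144,146,148,149,150,151,160,162,164,165,166,167,168,170,172,173,174,175,193,195,200,202,204,205,206,207,217,219,241,243],3⟩)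 (.leaf ⟨[120,121,122,127,147,148,149,150,160,161,162,167,168,169,170,175,195,196,197,198,200,201,202,207,216,217,218,223,240,241,242,247],[123,124,125,126,144,145,146,151,163,164,165,166,171,172,173,174,192,193,194,199,203,204,205,206,219,220,221,222,243,244,245,246],3⟩)))) (.node 89 (.node 87 (.node 86 (.leaf ⟨[120,121,122,123,124,126,144,145,146,147,148,150,160,161,162,163,164,166,173,175,192,193,194,195,196,198,200,201,202,203,204,206,221,223,240,241,242,243,244,246],[125,127,149,151,165,167,168,169,170,171,172,174,197,199,205,207,216,217,218,219,220,222,245,247],3⟩) (.leaf ⟨[120,121,122,127,144,145,146,151,160,161,162,167,171,172,173,174,195,196,197,198,203,204,205,206,216,217,218,223,243,244,245,246],[123,124,125,126,147,148,149,150,163,164,165,166,168,169,170,175,192,193,194,199,200,201,202,207,219,220,221,222,240,241,242,247],3⟩)) (.node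 88 (.leaf ⟨[122,123,126,127,144,145,148,149,162,163,166,167,170,171,174,175,194,195,198,199,200,201,204,205,216,217,220,221,240,241,244,245],[120,121,124,125,146,147,150,151,160,161,164,165,168,169,172,173,192,193,196,197,202,203,206,207,218,219,222,223,242,243,246,247],3⟩) (.leaf ⟨[120,121,122,127,147,148,149,150,163,164,165,166,171,172,173,174,195,196,197,198,200,201,202,207,219,220,221,222,243,244,245,246],[123,124,125,126,144,145,146,151,160,161,162,167,168,169,170,175,192,193,194,199,203,204,205,206,216,217,218,223,240,241,242,247],3⟩))) (.node 91 (.node 90 (.leaf ⟨[123,124,125,126,147,148,149,150,160,161,162,167,171,172,173,174,195,196,197,198,203,204,205,206,219,220,221,222,240,241,242,247],[120,121,122,127,144,145,146,151,163,164,165,166,168,169,170,175,192,193,194,199,200,201,202,207,216,217,218,223,243,244,245,246],3⟩) (.leaf ⟨[3,75],[27,90],1⟩))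 (.node 92 (.leaf ⟨[26,91],[2,74],1⟩) (.leaf ⟨[21,92,109],[7],1⟩)))))) (.node 108 (.node 100 (.node 96 (.node 94 (.leaf ⟨[8],[22,93,108],1⟩) (.node 95 (.leaf ⟨[120,122,123,125,145,148,150,151,160,162,163,165,168,170,171,173,192,194,195,197,201,204,206,207,217,220,222,223,241,244,246,247],[121,124,126,127,144,146,147,149,161,164,166,167,169,172,174,175,193,196,198,199,200,202,203,205,216,218,219,221,240,242,243,245],3⟩) (.leaf ⟨[120,121,123,125,126,127,144,145,147,149,150,151,160,161,163,165,166,167,170,172,194,196,202,204,216,217,219,221,222,223,242,244],[122,124,146,148,162,164,168,169,171,173,174,175,192,193,195,197,198,199,200,201,203,205,206,207,218,220,240,241,243,245,246,247],3⟩))) (.node 98 (.node 97 (.leaf ⟨[122,124,146,148,160,161,163,165,166,167,170,172,194,196,202,204,218,220,240,241,243,245,246,247],[120,121,123,125,126,127,144,145,147,149,150,151,162,164,168,169,171,173,174,175,192,193,195,197,198,199,200,201,203,205,206,207,216,217,219,221,222,223,242,244],3⟩)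 (.leaf ⟨[122,124,144,145,147,149,150,151,160,161,163,165,166,167,168,169,171,173,174,175,192,193,195,197,198,199,202,204,216,217,219,221,222,223,240,241,243,245,246,247],[120,121,123,125,126,127,146,148,162,164,170,172,194,196,200,201,203,205,206,207,218,220,242,244],3⟩)) (.node 99 (.leaf ⟨[125,127,144,145,146,147,148,150,160,161,162,163,164,166,168,169,170,171,172,174,197,199,200,201,202,203,204,206,221,223,245,247],[120,121,122,123,124,126,149,151,165,167,173,175,192,193,194,195,196,198,205,207,216,217,218,219,220,222,240,241,242,243,244,246],3⟩) (.leaf ⟨[122,123,126,127,146,147,150,151,160,161,164,165,170,171,174,175,192,193,196,197,200,201,204,205,216,217,220,221,242,243,246,247],[120,121,124,125,144,145,148,149,162,163,166,167,168,169,172,173,194,195,198,199,202,203,206,207,218,219,222,223,240,241,244,245],3⟩)))) (.node 104 (.node 102 (.node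 101 (.leaf ⟨[120,122,124,125,126,127,144,146,148,149,150,151,160,162,164,165,166,167,169,171,192,194,196,197,198,199,200,202,204,205,206,207,217,219,240,242,244,245,246,247],[121,123,145,147,161,163,168,170,172,173,174,175,193,195,201,203,216,218,220,221,222,223,241,243],3⟩) (.leaf ⟨[122,124,144,145,147,149,150,151,162,164,170,172,192,193,195,197,198,199,202,204,218,220,242,244],[120,121,123,125,126,127,146,148,160,161,163,165,166,167,168,169,171,173,174,175,194,196,200,201,203,205,206,207,216,217,219,221,222,223,240,241,243,245,246,247],3⟩)) (.node 103 (.leaf ⟨[12],[43,68,102],1⟩) (.leaf ⟨[42,67,103],[11],1⟩))) (.node 106 (.node 105 (.leaf ⟨[120,122,123,125,145,148,150,151,161,164,166,167,169,172,174,175,193,196,198,199,200,202,203,205,217,220,222,223,241,244,246,247],[121,124,126,127,144,146,147,149,160,162,163,165,168,170,171,173,192,194,195,197,201,204,206,207,216,218,219,221,240,242,243,245],3⟩)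 (.leaf ⟨[121,124,126,127,145,148,150,151,160,162,163,165,169,172,174,175,193,196,198,199,201,204,206,207,217,220,222,223,240,242,243,245],[120,122,123,125,144,146,147,149,161,164,166,167,168,170,171,173,192,194,195,197,200,202,203,205,216,218,219,221,241,244,246,247],3⟩)) (.node 107 (.leaf ⟨[121,124,126,127,145,148,150,151,161,164,166,167,168,170,171,173,192,194,195,197,200,202,203,205,217,220,222,223,240,242,243,245],[120,122,123,125,144,146,147,149,160,162,163,165,169,172,174,175,193,196,198,199,201,204,206,207,216,218,219,221,241,244,246,247],3⟩) (.leaf ⟨[120,121,123,125,126,127,146,148,160,161,163,165,166,167,168,169,171,173,174,175,192,193,195,197,198,199,202,204,218,220,242,244],[122,124,144,145,147,149,150,151,162,164,170,172,194,196,200,201,203,205,206,207,216,217,219,221,222,223,240,241,243,245,246,247],3⟩))))) (.node 116 (.node 112 (.node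 110 (.node 109 (.leaf ⟨[22],[8,93,108],1⟩) (.leaf ⟨[7,92,109],[21],1⟩)) (.node 111 (.leaf ⟨[120,122,123,125,145,148,150,151,160,162,163,165,168,170,171,173,193,196,198,199,200,202,203,205,216,218,219,221,240,242,243,245],[121,124,126,127,144,146,147,149,161,164,166,167,169,172,174,175,192,194,195,197,201,204,206,207,217,220,222,223,241,244,246,247],3⟩) (.leaf ⟨[120,123,124,127,144,147,148,151,160,163,164,167,169,170,173,174,192,195,196,199,200,203,204,207,217,218,221,222,240,243,244,247],[121,122,125,126,145,146,149,150,161,162,165,166,168,171,172,175,193,194,197,198,201,202,205,206,216,219,220,223,241,242,245,246],3⟩))) (.node 114 (.node 113 (.leaf ⟨[53],[14,66,112],1⟩) (.leaf ⟨[13,65,113],[52],1⟩)) (.node 115 (.leaf ⟨[120,121,122,127,144,145,146,151,163,164,165,166,168,169,170,175,195,196,197,198,203,204,205,206,219,220,221,222,240,241,242,247],[123,124,125,126,147,148,149,150,160,161,162,167,171,172,173,174,192,193,194,199,200,201,202,207,216,217,218,223,243,244,245,246],3⟩)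 (.leaf ⟨[],[17,38,81,115],1⟩)))) (.node 120 (.node 118 (.node 117 (.leaf ⟨[16,37,80,116],[],1⟩) (.leaf ⟨[31,71],[40,117],1⟩)) (.node 119 (.leaf ⟨[39,118],[30,70],1⟩) (.leaf ⟨[120,126,145,146,147,148,149,151,161,162,163,164,165,167,169,170,171,172,173,175,192,198,201,202,203,204,205,207,216,222,240,246],[121,122,123,124,125,127,144,150,160,166,168,174,193,194,195,196,197,199,200,206,217,218,219,220,221,223,241,242,243,244,245,247],3⟩))) (.node 122 (.node 121 (.leaf ⟨[0,10,19,25,34,49,51,55,58,59,60,61,64,69,76,77,78,79,83,84,85,86,88,94,95,100,104,107,110,111,114,119],[1,4,9,15,18,20,28,29,32,33,35,36,41,44,45,48,50,54,56,57,72,73,82,87,89,96,97,98,99,101,105,106],3⟩) (.leaf ⟨[1,4,18,20,25,33,34,36,44,48,50,54,69,72,76,77,78,79,82,84,85,86,88,95,105,106,107,114],[0,9,10,15,19,28,29,32,35,41,45,49,51,55,56,57,58,59,60,61,64,73,83,87,89,94,96,97,98,99,100,101,104,110,111,119],3⟩))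 (.node 123 (.leaf ⟨[1,4,15,19,20,25,32,33,34,36,45,51,56,60,72,73,78,83,84,85,86,87,88,94,96,97,99,100,101,104,110,114],[0,9,10,18,28,29,35,41,44,48,49,50,54,55,57,58,59,61,64,69,76,77,79,82,89,95,98,105,106,107,111,119],3⟩) (.leaf ⟨[1,4,15,18,19,20,25,36,41,44,48,49,50,55,56,58,59,61,85,87,89,94,95,99,104,107,110,111],[0,9,10,28,29,32,33,34,35,45,51,54,57,60,64,69,72,73,76,77,78,79,82,83,84,86,88,96,97,98,100,101,105,106,114,119],3⟩)))))))) (.node 186 (.node 155 (.node 139 (.node 131 (.node 127 (.node 125 (.leaf ⟨[1,4,20,25,32,36,41,45,49,51,54,55,58,59,60,61,69,73,76,77,79,82,83,85,89,96,97,100,101,105,106,111],[0,9,10,15,18,19,28,29,33,34,35,44,48,50,56,57,64,72,78,84,86,87,88,94,95,98,99,104,107,110,114,119],3⟩) (.node 126 (.leaf ⟨[1,4,9,19,20,28,29,33,35,36,41,51,57,60,69,72,76,77,79,83,89,94,95,98,100,104,107,110],[0,10,15,18,25,32,34,44,45,48,49,50,54,55,56,58,59,61,64,73,78,82,84,85,86,87,88,96,97,99,101,105,106,111,114,119],3⟩)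 (.leaf ⟨[0,10,15,25,33,41,51,54,56,60,64,72,82,83,85,87,89,95,99,100,105,106,107,119],[1,4,9,18,19,20,28,29,32,34,35,36,44,45,48,49,50,55,57,58,59,61,69,73,76,77,78,79,84,86,88,94,96,97,98,101,104,110,111,114],3⟩))) (.node 129 (.node 128 (.leaf ⟨[1,4,9,15,20,28,29,34,35,36,49,51,54,55,56,57,58,59,60,61,78,82,83,84,86,87,88,95,98,99,100,105,106,107,111,114],[0,10,18,19,25,32,33,41,44,45,48,50,64,69,72,73,76,77,79,85,89,94,96,97,101,104,110,119],3⟩) (.leaf ⟨[134,136,138,140,152,155,156,157,158,176,177,178,181,182,184,185,187,209,212,213,224,225,228,230,231,232,237,239],[128,129,130,131,132,133,135,137,139,141,142,143,153,154,159,179,180,183,186,188,189,190,191,208,210,211,214,215,226,227,229,233,234,235,236,238],3⟩)) (.node 130 (.leaf ⟨[130,131,132,133,135,137,138,140,153,155,156,157,158,176,177,179,180,183,184,185,186,188,189,190,191,208,212,213,224,225,226,227,229,233,237,239],[128,129,134,136,139,141,142,143,152,154,159,178,181,182,187,209,210,211,214,215,228,230,231,232,234,235,236,238],3⟩)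 (.leaf ⟨[129,131,132,133,135,136,137,138,139,141,142,143,154,155,156,157,158,176,178,179,180,183,185,186,187,211,214,215,225,226,228,230,231,234,237,239],[128,130,134,140,152,153,159,177,181,182,184,188,189,190,191,208,209,210,212,213,224,227,229,232,233,235,236,238],3⟩)))) (.node 135 (.node 133 (.node 132 (.leaf ⟨[129,130,132,133,135,138,139,140,152,153,154,155,159,177,178,179,181,182,184,186,187,188,189,190,191,210,214,215,225,227,228,230,231,235,237,239],[128,131,134,136,137,141,142,143,156,157,158,176,180,183,185,208,209,211,212,213,224,226,229,232,233,234,236,238],3⟩) (.leaf ⟨[129,130,131,133,135,136,137,139,140,141,142,143,152,153,154,156,159,177,178,180,181,182,185,187,188,208,209,213,224,226,227,228,229,236,237,239],[128,132,134,138,155,157,158,176,179,183,184,186,189,190,191,210,211,212,214,215,225,230,231,232,233,234,235,238],3⟩)) (.node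 134 (.leaf ⟨[129,130,131,132,135,138,140,141,152,153,154,157,159,176,179,180,181,183,185,187,189,208,209,212,225,228,229,230,231,232,233,234,235,236,237,238],[128,133,134,136,137,139,142,143,155,156,158,177,178,182,184,186,188,190,191,210,211,213,214,215,224,226,227,239],3⟩) (.leaf ⟨[128,138,140,142,152,153,154,158,159,176,179,180,182,183,185,187,190,210,211,215,224,226,227,229,230,237,238,239],[129,130,131,132,133,134,135,136,137,139,141,143,155,156,157,177,178,181,184,186,188,189,191,208,209,212,213,214,225,228,231,232,233,234,235,236],3⟩))) (.node 137 (.node 136 (.leaf ⟨[129,130,131,132,133,138,140,143,155,156,157,158,159,177,178,181,182,183,185,187,191,210,211,214,224,226,227,229,231,232,233,234,235,236,238,239],[128,134,135,136,137,139,141,142,152,153,154,176,179,180,184,186,188,189,190,208,209,212,213,215,225,228,230,237],3⟩) (.leaf ⟨[128,130,132,142,155,156,159,177,178,183,185,188,189,208,209,211,225,226,227,228,230,234,235,237],[129,131,133,134,135,136,137,138,139,140,141,143,152,153,154,157,158,176,179,180,181,182,184,186,187,190,191,210,212,213,214,215,224,229,231,232,233,236,238,239],3⟩))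 (.node 138 (.leaf ⟨[129,130,132,138,139,140,141,143,154,157,158,176,178,183,184,188,189,208,209,210,212,213,214,215,224,226,227,228,230,236,238,239],[128,131,133,134,135,136,137,142,152,153,155,156,159,177,179,180,181,182,185,186,187,190,191,211,225,229,231,232,233,234,235,237],3⟩) (.leaf ⟨[128,129,130,131,133,134,135,137,139,140,141,143,153,157,158,176,177,183,187,190,191,209,210,211,224,225,227,228,230,232,235,237],[132,136,138,142,152,154,155,156,159,178,179,180,181,182,184,185,186,188,189,208,212,213,214,215,226,229,231,233,234,236,238,239],3⟩))))) (.node 147 (.node 143 (.node 141 (.node 140 (.leaf ⟨[130,131,132,137,138,140,141,143,152,156,159,180,181,182,186,190,191,208,210,211,212,213,214,215,224,225,226,228,230,232,234,237],[128,129,133,134,135,136,139,142,153,154,155,157,158,176,177,178,179,183,184,185,187,188,189,209,227,229,231,233,235,236,238,239],3⟩)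 (.leaf ⟨[128,129,131,132,133,134,135,137,138,139,141,143,152,155,159,179,181,182,184,185,189,209,211,212,224,225,226,227,230,233,238,239],[130,136,140,142,153,154,156,157,158,176,177,178,180,183,186,187,188,190,191,208,210,213,214,215,228,229,231,232,234,235,236,237],3⟩)) (.node 142 (.leaf ⟨[130,132,133,137,138,139,140,143,153,154,158,179,180,182,184,185,188,209,211,213,231,232,234,235],[128,129,131,134,135,136,141,142,152,155,156,157,159,176,177,178,181,183,186,187,189,190,191,208,210,212,214,215,224,225,226,227,228,229,230,233,236,237,238,239],3⟩) (.leaf ⟨[130,132,134,136,153,154,157,179,180,181,186,187,191,209,211,214,224,225,226,227,228,233,236,239],[128,129,131,133,135,137,138,139,140,141,142,143,152,155,156,158,159,176,177,178,182,183,184,185,188,189,190,208,210,212,213,215,229,230,231,232,234,235,237,238],3⟩))) (.node 145 (.node 144 (.leaf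 ⟨[130,132,135,137,138,139,140,141,152,155,156,176,177,178,186,187,190,209,211,215,229,233,236,238],[128,129,131,133,134,136,142,143,153,154,157,158,159,179,180,181,182,183,184,185,188,189,191,208,210,212,213,214,224,225,226,227,228,230,231,232,234,235,237,239],3⟩) (.leaf ⟨[9,20,25,29,32,34,35,41,44,50,51,56,58,61,64,72,76,79,85,86,87,95,97,98,100,101,111,114],[0,1,4,10,15,18,19,28,33,36,45,48,49,54,55,57,59,60,69,73,77,78,82,83,84,88,89,94,96,99,104,105,106,107,110,119],3⟩)) (.node 146 (.leaf ⟨[0,1,4,9,10,18,19,25,29,32,33,34,35,36,41,48,49,54,55,56,59,60,76,79,82,83,85,86,87,94,95,97,98,101,104,105,106,110,114,119],[15,20,28,44,45,50,51,57,58,61,64,69,72,73,77,78,84,88,89,96,99,100,107,111],3⟩) (.leaf ⟨[0,1,4,9,10,15,25,29,33,34,35,36,41,44,45,49,50,51,55,59,69,73,77,85,86,96,98,99,100,107,114,119],[18,19,20,28,32,48,54,56,57,58,60,61,64,72,76,78,79,82,83,84,87,88,89,94,95,97,101,104,105,106,110,111],3⟩))))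 (.node 151 (.node 149 (.node 148 (.leaf ⟨[0,1,4,9,10,15,18,25,29,32,35,36,48,58,60,61,69,72,77,78,83,84,85,88,89,95,97,98,99,101,111,119],[19,20,28,33,34,41,44,45,49,50,51,54,55,56,57,59,64,73,76,79,82,86,87,94,96,100,104,105,106,107,110,114],3⟩) (.leaf ⟨[0,1,4,9,10,19,25,29,35,36,44,45,50,51,54,56,58,61,72,73,76,78,79,82,84,85,87,88,89,94,96,98,100,104,105,106,107,110,111,119],[15,18,20,28,32,33,34,41,48,49,55,57,59,60,64,69,77,83,86,95,97,99,101,114],3⟩)) (.node 150 (.leaf ⟨[0,1,4,10,28,32,33,36,44,49,50,51,55,56,57,59,76,78,79,84,87,88,89,95,97,100,101,119],[9,15,18,19,20,25,29,34,35,41,45,48,54,58,60,61,64,69,72,73,77,82,83,85,86,94,96,98,99,104,105,106,107,110,111,114],3⟩) (.leaf ⟨[9,15,19,20,25,29,32,33,35,44,49,50,51,54,55,59,64,69,77,78,82,84,85,88,89,94,95,97,98,99,100,101,104,105,106,110],[0,1,4,10,18,28,34,36,41,45,48,56,57,58,60,61,72,73,76,79,83,86,87,96,107,111,114,119],3⟩)))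 (.node 153 (.node 152 (.leaf ⟨[0,1,4,10,15,19,28,32,34,36,41,44,50,51,54,57,58,61,69,72,77,82,86,94,95,97,99,100,101,104,105,106,110,111,114,119],[9,18,20,25,29,33,35,45,48,49,55,56,59,60,64,73,76,78,79,83,84,85,87,88,89,96,98,107],3⟩) (.leaf ⟨[128,131,132,133,134,139,140,143,158,177,179,181,182,183,186,187,189,208,213,215,226,228,229,230,231,233,236,237],[129,130,135,136,137,138,141,142,152,153,154,155,156,157,159,176,178,180,184,185,188,190,191,209,210,211,212,214,224,225,227,232,234,235,238,239],3⟩)) (.node 154 (.leaf ⟨[129,131,132,133,134,138,141,142,154,155,156,157,159,176,179,181,182,183,188,190,191,209,213,215,227,232,236,237],[128,130,135,136,137,139,140,143,152,153,158,177,178,180,184,185,186,187,189,208,210,211,212,214,224,225,226,228,229,230,231,233,234,235,238,239],3⟩) (.leaf ⟨[130,131,132,133,134,137,141,142,153,155,156,157,159,180,184,187,189,210,213,215,224,228,229,230,231,235,238,239],[128,129,135,136,138,139,140,143,152,154,158,176,177,178,179,181,182,183,185,186,188,190,191,208,209,211,212,214,225,226,227,232,233,234,236,237],3⟩))))))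 (.node 170 (.node 162 (.node 158 (.node 156 (.leaf ⟨[128,129,130,131,135,136,140,143,153,154,156,157,159,176,177,181,182,183,184,186,189,211,213,215,225,234,238,239],[132,133,134,137,138,139,141,142,152,155,158,178,179,180,185,187,188,190,191,208,209,210,212,214,224,226,227,228,229,230,231,232,233,235,236,237],3⟩) (.node 157 (.leaf ⟨[128,129,130,132,135,136,139,143,153,154,155,157,159,178,185,190,191,212,213,215,224,226,229,230,231,232,233,237],[131,133,134,137,138,140,141,142,152,156,158,176,177,179,180,181,182,183,184,186,187,188,189,208,209,210,211,214,225,227,228,234,235,236,238,239],3⟩) (.leaf ⟨[128,129,130,133,135,137,138,142,153,154,155,156,159,176,177,179,182,183,184,186,187,208,209,210,211,212,213,214,224,226,228,230,231,232,233,236],[131,132,134,136,139,140,141,143,152,157,158,178,180,181,185,188,189,190,191,215,225,227,229,234,235,237,238,239],3⟩)))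 (.node 160 (.node 159 (.leaf ⟨[128,129,130,134,135,137,138,141,152,176,177,179,181,183,185,188,191,213,214,215,224,226,228,229,231,234,235,239],[131,132,133,136,139,140,142,143,153,154,155,156,157,158,159,178,180,182,184,186,187,189,190,208,209,210,211,212,225,227,230,232,233,236,237,238],3⟩) (.leaf ⟨[131,132,133,134,135,136,139,140,153,154,155,156,157,176,177,179,181,182,185,188,190,208,209,210,211,212,214,215,224,226,228,229,230,234,235,238],[128,129,130,137,138,141,142,143,152,158,159,178,180,183,184,186,187,189,191,213,225,227,231,232,233,236,237,239],3⟩)) (.node 161 (.leaf ⟨[1,10,18,25,28,29,32,33,34,36,41,49,50,55,56,57,60,61,64,69,72,73,78,79,82,84,85,86,89,94,95,96,97,98,99,100,105,107,110,111],[0,4,9,15,19,20,35,44,45,48,51,54,58,59,76,77,83,87,88,101,104,106,114,119],3⟩) (.leaf ⟨[0,4,19,20,25,28,29,32,34,41,44,48,51,54,56,57,58,59,69,73,78,79,83,84,85,86,89,95,96,97,98,99,104,106,107,119],[1,9,10,15,18,33,35,36,45,49,50,55,60,61,64,72,76,77,82,87,88,94,100,101,105,110,111,114],3⟩))))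 (.node 166 (.node 164 (.node 163 (.leaf ⟨[0,4,15,18,20,25,28,29,34,41,45,50,57,58,59,60,76,77,78,82,84,85,86,87,89,94,98,100,101,105,110,119],[1,9,10,19,32,33,35,36,44,48,49,51,54,55,56,61,64,69,72,73,79,83,88,95,96,97,99,104,106,107,111,114],3⟩) (.leaf ⟨[0,4,15,20,25,28,29,32,33,44,48,49,51,55,57,61,72,73,76,77,82,83,85,87,88,94,95,96,97,98,105,107,110,111,114,119],[1,9,10,18,19,34,35,36,41,45,50,54,56,58,59,60,64,69,78,79,84,86,89,99,100,101,104,106],3⟩)) (.node 165 (.leaf ⟨[0,4,18,19,20,25,28,29,33,45,49,50,54,55,56,57,60,61,69,72,79,85,88,98,99,100,101,104,106,111,114,119],[1,9,10,15,32,34,35,36,41,44,48,51,58,59,64,73,76,77,78,82,83,84,86,87,89,94,95,96,97,105,107,110],3⟩) (.leaf ⟨[0,4,9,18,20,32,35,50,56,58,59,60,69,73,79,82,88,94,95,96,97,99,100,105,107,110,114,119],[1,10,15,19,25,28,29,33,34,36,41,44,45,48,49,51,54,55,57,61,64,72,76,77,78,83,84,85,86,87,89,98,101,104,106,111],3⟩)))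 (.node 168 (.node 167 (.leaf ⟨[1,10,15,18,19,25,28,29,32,36,50,54,57,58,59,60,64,73,76,77,85,87,88,95,96,97,98,100,104,106,107,114],[0,4,9,20,33,34,35,41,44,45,48,49,51,55,56,61,69,72,78,79,82,83,84,86,89,94,99,101,105,110,111,119],3⟩) (.leaf ⟨[0,4,9,15,18,19,20,32,33,34,35,41,49,50,54,55,60,61,72,73,76,77,78,84,86,87,89,95,96,97,100,104,106,107,111,119],[1,10,25,28,29,36,44,45,48,51,56,57,58,59,64,69,79,82,83,85,88,94,98,99,101,105,110,114],3⟩)) (.node 169 (.leaf ⟨[4,10,15,29,32,41,45,48,49,50,51,54,55,56,58,60,69,72,76,78,84,94,97,98,106,107,110,114],[0,1,9,18,19,20,25,28,33,34,35,36,44,57,59,61,64,73,77,79,82,83,85,86,87,88,89,95,96,99,100,101,104,105,111,119],3⟩) (.leaf ⟨[0,1,15,18,19,20,29,32,33,36,41,44,45,56,59,61,64,69,76,78,82,83,84,97,98,100,104,105,107,111,114,119],[4,9,10,25,28,34,35,48,49,50,51,54,55,57,58,60,72,73,77,79,85,86,87,88,89,94,95,96,99,101,106,110],3⟩)))))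 (.node 178 (.node 174 (.node 172 (.node 171 (.leaf ⟨[0,1,20,29,33,36,41,48,50,51,54,59,60,61,64,73,77,78,79,84,87,94,95,96,98,99,101,106,110,111,114,119],[4,9,10,15,18,19,25,28,32,34,35,44,45,49,55,56,57,58,69,72,76,82,83,85,86,88,89,97,100,104,105,107],3⟩) (.leaf ⟨[0,1,18,20,29,32,34,36,44,45,49,54,55,58,64,72,77,79,83,86,87,88,89,94,97,98,99,100,106,107,110,119],[4,9,10,15,19,25,28,33,35,41,48,50,51,56,57,59,60,61,69,73,76,78,82,84,85,95,96,101,104,105,111,114],3⟩)) (.node 173 (.leaf ⟨[0,1,15,19,20,29,34,36,48,49,50,51,55,56,58,60,64,69,72,73,76,82,86,88,89,95,96,98,101,104,105,119],[4,9,10,18,25,28,32,33,35,41,44,45,54,57,59,61,77,78,79,83,84,85,87,94,97,99,100,106,107,110,111,114],3⟩) (.leaf ⟨[0,1,9,15,20,25,28,32,33,34,35,36,45,48,50,51,54,56,57,59,60,61,64,69,76,85,86,88,89,94,97,106,107,110,111,119],[4,10,18,19,29,41,44,49,55,58,72,73,77,78,79,82,83,84,87,95,96,98,99,100,101,104,105,114],3⟩)))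 (.node 176 (.node 175 (.leaf ⟨[4,10,19,29,32,33,34,45,48,50,51,59,60,61,77,79,82,86,87,88,89,97,98,99,104,105,107,111],[0,1,9,15,18,20,25,28,35,36,41,44,49,54,55,56,57,58,64,69,72,73,76,78,83,84,85,94,95,96,100,101,106,110,114,119],3⟩) (.leaf ⟨[0,1,9,19,20,25,28,32,35,36,41,45,48,49,50,51,55,57,58,60,64,72,77,78,79,82,84,85,87,97,99,104,105,107,114,119],[4,10,15,18,29,33,34,44,54,56,59,61,69,73,76,83,86,88,89,94,95,96,98,100,101,106,110,111],3⟩)) (.node 177 (.leaf ⟨[128,129,130,133,134,137,138,143,153,155,157,158,159,182,185,186,187,188,190,208,209,212,214,215,225,228,229,234,236,237,238,239],[131,132,135,136,139,140,141,142,152,154,156,176,177,178,179,180,181,183,184,189,191,210,211,213,224,226,227,230,231,232,233,235],3⟩) (.leaf ⟨[128,129,131,132,135,136,138,143,152,155,157,158,159,178,179,180,181,183,184,186,187,188,190,208,209,210,211,213,224,228,229,235],[130,133,134,137,139,140,141,142,153,154,156,176,177,182,185,189,191,212,214,215,225,226,227,230,231,232,233,234,236,237,238,239],3⟩))))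 (.node 182 (.node 180 (.node 179 (.leaf ⟨[128,130,131,132,135,136,137,143,156,177,179,180,181,183,184,185,187,188,190,209,210,212,214,215,227,230,231,232,236,237,238,239],[129,133,134,138,139,140,141,142,152,153,154,155,157,158,159,176,178,182,186,189,191,208,211,213,224,225,226,228,229,233,234,235],3⟩) (.leaf ⟨[129,130,131,133,134,140,141,142,152,153,157,158,159,177,178,180,181,183,184,185,186,188,190,209,211,212,214,215,226,230,231,233],[128,132,135,136,137,138,139,143,154,155,156,176,179,182,187,189,191,208,210,213,224,225,227,228,229,232,234,235,236,237,238,239],3⟩)) (.node 181 (.leaf ⟨[129,130,132,133,134,139,141,142,154,177,178,179,181,183,184,185,186,187,190,208,210,211,212,213,224,225,229,232,234,237,238,239],[128,131,135,136,137,138,140,143,152,153,155,156,157,158,159,176,180,182,188,189,191,209,214,215,226,227,228,230,231,233,235,236],3⟩)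 (.leaf ⟨[128,131,132,133,135,139,140,142,152,153,155,158,159,177,178,179,180,183,191,209,212,213,214,215,224,225,228,232,234,236,238,239],[129,130,134,136,137,138,141,143,154,156,157,176,181,182,184,185,186,187,188,189,190,208,210,211,226,227,229,230,231,233,235,237],3⟩))) (.node 184 (.node 183 (.leaf ⟨[128,131,132,134,135,139,140,141,152,153,155,157,159,176,184,185,186,187,188,208,210,211,213,214,226,227,231,232,234,236,237,239],[129,130,133,136,137,138,142,143,154,156,158,177,178,179,180,181,182,183,189,190,191,209,212,215,224,225,228,229,230,233,235,238],3⟩) (.leaf ⟨[129,130,133,134,135,136,137,138,152,153,155,157,158,177,178,179,180,181,189,208,210,211,213,215,226,227,230,232,234,236,237,238],[128,131,132,139,140,141,142,143,154,156,159,176,182,183,184,185,186,187,188,190,191,209,212,214,224,225,228,229,231,233,235,239],3⟩)) (.node 185 (.leaf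 ⟨[128,129,131,137,140,141,154,155,157,177,178,179,180,182,190,208,210,212,225,226,231,235,236,239],[130,132,133,134,135,136,138,139,142,143,152,153,156,158,159,176,181,183,184,185,186,187,188,189,191,209,211,213,214,215,224,227,228,229,230,232,233,234,237,238],3⟩) (.leaf ⟨[128,129,130,132,133,134,135,136,140,141,156,158,159,176,178,179,180,182,186,187,188,189,191,209,210,212,224,226,231,234,237,238],[131,137,138,139,142,143,152,153,154,155,157,177,181,183,184,185,190,208,211,213,214,215,225,227,228,229,230,232,233,235,236,239],3⟩))))))) (.node 217 (.node 201 (.node 193 (.node 189 (.node 187 (.leaf ⟨[129,130,131,139,142,143,152,155,157,176,177,179,180,182,185,187,188,189,191,208,209,210,211,213,214,215,224,225,231,233,237,238],[128,132,133,134,135,136,137,138,140,141,153,154,156,158,159,178,181,183,184,186,190,212,226,227,228,229,230,232,234,235,236,239],3⟩)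 (.node 188 (.leaf ⟨[128,130,131,132,133,134,135,138,142,143,152,154,157,176,177,178,180,182,185,186,188,189,191,210,211,212,228,229,230,232,236,239],[129,136,137,139,140,141,153,155,156,158,159,179,181,183,184,187,190,208,209,213,214,215,224,225,226,227,231,233,234,235,237,238],3⟩) (.leaf ⟨[129,131,132,136,137,141,153,158,159,176,177,178,179,182,185,186,187,189,191,208,209,211,212,213,214,215,227,229,230,232,235,239],[128,130,133,134,135,138,139,140,142,143,152,154,155,156,157,180,181,183,184,188,190,210,224,225,226,228,231,233,234,236,237,238],3⟩))) (.node 191 (.node 190 (.leaf ⟨[129,131,133,136,137,140,152,154,155,183,185,186,187,188,191,210,212,213,227,228,230,233,234,238],[128,130,132,134,135,138,139,141,142,143,153,156,157,158,159,176,177,178,179,180,181,182,184,189,190,208,209,211,214,215,224,225,226,229,231,232,235,236,237,239],3⟩) (.leaf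 ⟨[129,131,134,138,139,143,153,156,159,176,177,178,179,180,184,210,212,214,227,228,229,233,234,237],[128,130,132,133,135,136,137,140,141,142,152,154,155,157,158,181,182,183,185,186,187,188,189,190,191,208,209,211,213,215,224,225,226,230,231,232,235,236,238,239],3⟩)) (.node 192 (.leaf ⟨[129,131,135,138,139,142,153,156,158,181,185,186,187,188,189,210,212,215,224,225,226,232,235,236],[128,130,132,133,134,136,137,140,141,143,152,154,155,157,159,176,177,178,179,180,182,183,184,190,191,208,209,211,213,214,227,228,229,230,231,233,234,237,238,239],3⟩) (.leaf ⟨[4,18,19,29,33,34,35,36,44,48,49,50,51,57,58,60,64,73,76,78,82,83,85,94,97,99,100,101,106,107,111,119],[0,1,9,10,15,20,25,28,32,41,45,54,55,56,59,61,69,72,77,79,84,86,87,88,89,95,96,98,104,105,110,114],3⟩)))) (.node 197 (.node 195 (.node 194 (.leaf ⟨[0,1,10,20,29,34,35,54,55,57,59,61,72,73,76,78,85,97,99,101,104,105,107,110],[4,9,15,18,19,25,28,32,33,36,41,44,45,48,49,50,51,56,58,60,64,69,77,79,82,83,84,86,87,88,89,94,95,96,98,100,106,111,114,119],3⟩)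 (.leaf ⟨[0,1,10,15,18,19,20,29,32,34,35,44,45,48,50,51,55,56,57,59,60,61,69,72,77,78,79,82,83,85,87,94,95,96,100,106],[4,9,25,28,33,36,41,49,54,58,64,73,76,84,86,88,89,97,98,99,101,104,105,107,110,111,114,119],3⟩)) (.node 196 (.leaf ⟨[0,1,10,15,19,20,29,33,35,41,49,56,57,58,69,73,77,79,82,84,85,86,87,88,89,94,97,101,106,107,111,114],[4,9,18,25,28,32,34,36,44,45,48,50,51,54,55,59,60,61,64,72,76,78,83,95,96,98,99,100,104,105,110,119],3⟩) (.leaf ⟨[0,1,10,18,20,29,32,33,35,41,44,45,48,49,50,51,54,57,58,60,76,83,84,85,86,88,89,95,96,99,100,104,105,110,111,114],[4,9,15,19,25,28,34,36,55,56,59,61,64,69,72,73,77,78,79,82,87,94,97,98,101,106,107,119],3⟩))) (.node 199 (.node 198 (.leaf ⟨[0,1,9,10,18,19,20,25,28,41,44,48,50,51,55,59,60,61,72,73,76,82,83,84,86,88,89,94,97,98,99,100,101,106,107,114],[4,15,29,32,33,34,35,36,45,49,54,56,57,58,64,69,77,78,79,85,87,95,96,104,105,110,111,119],3⟩)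 (.leaf ⟨[4,15,18,29,35,36,41,44,48,50,51,54,55,56,57,59,60,61,64,69,72,73,77,79,83,84,85,86,87,88,89,97,100,101,104,105,107,110,114,119],[0,1,9,10,19,20,25,28,32,33,34,45,49,58,76,78,82,94,95,96,98,99,106,111],3⟩)) (.node 200 (.leaf ⟨[0,1,9,10,15,18,20,25,28,33,34,44,48,49,50,51,54,56,58,60,69,73,77,78,79,83,87,97,98,100,101,104,105,107,110,111],[4,19,29,32,35,36,41,45,55,57,59,61,64,72,76,82,84,85,86,88,89,94,95,96,99,106,114,119],3⟩) (.leaf ⟨[0,4,9,10,18,20,32,33,34,36,41,48,51,55,56,57,58,59,64,69,72,73,76,77,82,84,85,87,88,98,99,100,104,106,110,111],[1,15,19,25,28,29,35,44,45,49,50,54,60,61,78,79,83,86,89,94,95,96,97,101,105,107,114,119],3⟩))))) (.node 209 (.node 205 (.node 203 (.node 202 (.leaf ⟨[1,9,19,32,34,41,44,49,50,54,56,57,60,61,69,73,76,77,83,84,85,87,88,94,98,99,105,119],[0,4,10,15,18,20,25,28,29,33,35,36,45,48,51,55,58,59,64,72,78,79,82,86,89,95,96,97,100,101,104,106,107,110,111,114],3⟩)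 (.leaf ⟨[1,9,15,18,34,41,45,48,49,51,57,61,79,82,84,85,88,95,96,97,98,100,101,104,106,107,110,119],[0,4,10,19,20,25,28,29,32,33,35,36,44,50,54,55,56,58,59,60,64,69,72,73,76,77,78,83,86,87,89,94,99,105,111,114],3⟩)) (.node 204 (.leaf ⟨[1,9,15,32,33,44,50,55,57,58,59,60,72,73,78,79,82,83,85,86,89,98,104,106,110,111,114,119],[0,4,10,18,19,20,25,28,29,34,35,36,41,45,48,49,51,54,56,61,64,69,76,77,84,87,88,94,95,96,97,99,100,101,105,107],3⟩) (.leaf ⟨[1,9,18,19,33,45,48,51,54,55,56,57,58,59,69,72,76,77,78,85,86,87,89,94,95,96,97,98,99,100,101,105,107,111,114,119],[0,4,10,15,20,25,28,29,32,34,35,36,41,44,49,50,60,61,64,73,79,82,83,84,88,104,106,110],3⟩))) (.node 207 (.node 206 (.leaf ⟨[1,18,25,28,29,32,35,48,49,51,56,61,69,73,76,77,78,82,86,87,89,99,100,104,106,110,114,119],[0,4,9,10,15,19,20,33,34,36,41,44,45,50,54,55,57,58,59,60,64,72,79,83,84,85,88,94,95,96,97,98,101,105,107,111],3⟩)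 (.leaf ⟨[0,4,9,10,15,18,19,20,32,36,48,49,51,54,57,61,64,73,78,79,85,86,89,94,98,100,105,114],[1,25,28,29,33,34,35,41,44,45,50,55,56,58,59,60,69,72,76,77,82,83,84,87,88,95,96,97,99,101,104,106,107,110,111,119],3⟩)) (.node 208 (.leaf ⟨[1,15,18,19,25,28,29,32,33,34,35,41,48,51,54,55,58,59,72,73,79,84,88,94,100,105,111,119],[0,4,9,10,20,36,44,45,49,50,56,57,60,61,64,69,76,77,78,82,83,85,86,87,89,95,96,97,98,99,101,104,106,107,110,114],3⟩) (.leaf ⟨[129,132,133,136,137,139,152,157,159,176,177,180,182,183,184,186,188,214,224,225,226,229,230,232,235,236,237,238],[128,130,131,134,135,138,140,141,142,143,153,154,155,156,158,178,179,181,185,187,189,190,191,208,209,210,211,212,213,215,227,228,231,233,234,239],3⟩)))) (.node 213 (.node 211 (.node 210 (.leaf ⟨[128,132,133,136,137,138,140,141,142,143,153,157,159,176,177,178,179,181,185,186,188,210,211,212,213,215,224,225,227,228,231,233,235,236,237,238],[129,130,131,134,135,139,152,154,155,156,158,180,182,183,184,187,189,190,191,208,209,214,226,229,230,232,234,239],3⟩)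 (.leaf ⟨[131,134,135,137,138,139,154,157,159,177,178,180,182,183,184,185,186,187,189,190,191,209,211,212,213,215,224,226,227,228,231,234,235,236,237,238],[128,129,130,132,133,136,140,141,142,143,152,153,155,156,158,176,179,181,188,208,210,214,225,229,230,232,233,239],3⟩)) (.node 212 (.leaf ⟨[130,134,135,136,138,139,140,141,142,143,155,157,159,177,179,180,182,183,186,187,188,209,210,212,213,215,225,226,227,229,230,232,233,234,235,239],[128,129,131,132,133,137,152,153,154,156,158,176,178,181,184,185,189,190,191,208,211,214,224,228,231,236,237,238],3⟩) (.leaf ⟨[128,129,133,137,139,140,156,157,159,176,178,179,180,181,184,185,187,188,189,190,191,209,210,211,213,215,225,226,228,229,230,232,233,234,236,239],[130,131,132,134,135,136,138,141,142,143,152,153,154,155,158,177,182,183,186,208,212,214,224,227,231,235,237,238],3⟩))) (.node 215 (.node 214 (.leaf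 ⟨[128,129,132,137,139,141,152,153,154,155,156,157,158,177,180,181,182,183,186,188,189,209,210,211,212,215,224,227,228,229,231,232,233,234,237,239],[130,131,133,134,135,136,138,140,142,143,159,176,178,179,184,185,187,190,191,208,213,214,225,226,230,235,236,238],3⟩) (.leaf ⟨[130,131,135,137,139,142,157,158,159,176,178,179,181,182,186,188,190,208,224,227,228,230,231,232,233,234,238,239],[128,129,132,133,134,136,138,140,141,143,152,153,154,155,156,177,180,183,184,185,187,189,191,209,210,211,212,213,214,215,225,226,229,235,236,237],3⟩)) (.node 216 (.leaf ⟨[130,131,134,137,139,143,152,153,154,155,156,158,159,176,178,179,181,183,186,188,191,209,210,211,212,213,225,226,229,230,231,235,236,237,238,239],[128,129,132,133,135,136,138,140,141,142,157,177,180,182,184,185,187,189,190,208,214,215,224,227,228,232,233,234],3⟩) (.leaf ⟨[9,10,15,18,19,20,25,29,33,36,45,50,51,54,55,57,58,61,69,73,76,79,82,83,84,86,87,95,97,99,110,119],[0,1,4,28,32,34,35,41,44,48,49,56,59,60,64,72,77,78,85,88,89,94,96,98,100,101,104,105,106,107,111,114],3⟩))))))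 (.node 232 (.node 224 (.node 220 (.node 218 (.leaf ⟨[0,1,4,9,15,25,29,44,45,48,49,57,59,60,64,69,72,73,76,79,84,86,87,94,95,97,99,100,104,105,106,111],[10,18,19,20,28,32,33,34,35,36,41,50,51,54,55,56,58,61,77,78,82,83,85,88,89,96,98,101,107,110,114,119],3⟩) (.node 219 (.leaf ⟨[0,1,4,9,18,19,25,29,32,49,50,51,54,56,57,59,64,72,77,82,83,84,86,96,101,107,110,111],[10,15,20,28,33,34,35,36,41,44,45,48,55,58,60,61,69,73,76,78,79,85,87,88,89,94,95,97,98,99,100,104,105,106,114,119],3⟩) (.leaf ⟨[0,1,4,9,19,25,29,33,34,41,44,45,48,54,55,56,57,58,60,61,64,73,77,78,82,88,89,95,97,100,110,114],[10,15,18,20,28,32,35,36,49,50,51,59,69,72,76,79,83,84,85,86,87,94,96,98,99,101,104,105,106,107,111,119],3⟩))) (.node 222 (.node 221 (.leaf ⟨[0,1,4,9,15,18,25,29,32,33,34,41,50,51,55,57,58,61,64,69,76,78,79,83,87,88,89,94,96,99,101,104,105,106,107,114],[10,19,20,28,35,36,44,45,48,49,54,56,59,60,72,73,77,82,84,85,86,95,97,98,100,110,111,119],3⟩)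 (.leaf ⟨[0,1,4,15,18,19,28,34,35,41,45,49,50,51,54,59,64,69,72,73,76,78,79,82,83,85,87,88,89,95,97,98,99,110,111,114],[9,10,20,25,29,32,33,36,44,48,55,56,57,58,60,61,77,84,86,94,96,100,101,104,105,106,107,119],3⟩)) (.node 223 (.leaf ⟨[9,10,18,20,25,29,34,36,41,45,49,50,51,56,57,59,72,73,77,78,83,88,89,94,95,97,104,105,106,111,114,119],[0,1,4,15,19,28,32,33,35,44,48,54,55,58,60,61,64,69,76,79,82,84,85,86,87,96,98,99,100,101,107,110],3⟩) (.leaf ⟨[0,1,4,18,28,33,35,45,50,51,55,56,58,61,64,73,77,83,84,85,86,94,95,97,98,104,105,106],[9,10,15,19,20,25,29,32,34,36,41,44,48,49,54,57,59,60,69,72,76,78,79,82,87,88,89,96,99,100,101,107,110,111,114,119],3⟩)))) (.node 228 (.node 226 (.node 225 (.leaf ⟨[128,129,132,134,135,137,138,139,140,142,154,156,157,158,159,177,180,181,185,186,191,208,209,210,213,214,230,233,235,237,238,239],[130,131,133,136,141,143,152,153,155,176,178,179,182,183,184,187,188,189,190,211,212,215,224,225,226,227,228,229,231,232,234,236],3⟩)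 (.leaf ⟨[128,129,130,131,133,136,138,139,140,142,155,176,180,181,184,186,191,208,209,211,212,215,226,227,228,229,231,232,235,237,238,239],[132,134,135,137,141,143,152,153,154,156,157,158,159,177,178,179,182,183,185,187,188,189,190,210,213,214,224,225,230,233,234,236],3⟩)) (.node 227 (.leaf ⟨[129,130,132,134,135,136,137,139,140,142,152,156,157,158,159,179,182,183,184,185,191,208,210,211,212,215,225,227,228,229,231,236],[128,131,133,138,141,143,153,154,155,176,177,178,180,181,186,187,188,189,190,209,213,214,224,226,230,232,233,234,235,237,238,239],3⟩) (.leaf ⟨[129,131,132,134,135,136,137,138,140,142,153,178,182,183,188,189,190,209,210,211,213,214,225,226,228,229,231,232,233,237,238,239],[128,130,133,139,141,143,152,154,155,156,157,158,159,176,177,179,180,181,184,185,186,187,191,208,212,215,224,227,230,234,235,236],3⟩))) (.node 230 (.node 229 (.leaf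 ⟨[128,130,131,132,133,136,137,138,139,142,152,154,157,158,159,176,177,181,187,189,190,209,210,212,213,214,225,226,227,229,231,234],[129,134,135,140,141,143,153,155,156,178,179,180,182,183,184,185,186,188,191,208,211,215,224,228,230,232,233,235,236,237,238,239],3⟩) (.leaf ⟨[129,132,133,134,135,143,152,154,156,158,159,176,177,180,187,188,190,208,211,212,213,215,225,226,227,228,231,232,233,235,238,239],[128,130,131,136,137,138,139,140,141,142,153,155,157,178,179,181,182,183,184,185,186,189,191,209,210,214,224,229,230,234,236,237],3⟩)) (.node 231 (.leaf ⟨[128,130,131,133,134,136,137,138,139,140,152,154,156,157,159,178,179,183,187,188,189,208,211,212,214,215,224,232,233,235,237,239],[129,132,135,141,142,143,153,155,158,176,177,180,181,182,184,185,186,190,191,209,210,213,225,226,227,228,229,230,231,234,236,238],3⟩) (.leaf ⟨[128,130,131,133,135,141,152,154,156,157,158,178,179,182,184,185,186,209,210,213,214,215,225,226,227,228,229,232,233,235,237,238],[129,132,134,136,137,138,139,140,142,143,153,155,159,176,177,180,181,183,187,188,189,190,191,208,211,212,224,230,231,234,236,239],3⟩)))))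 (.node 240 (.node 236 (.node 234 (.node 233 (.leaf ⟨[128,133,135,138,139,141,153,156,157,178,180,181,182,183,187,188,191,208,211,212,213,214,225,227,229,230,231,238],[129,130,131,132,134,136,137,140,142,143,152,154,155,158,159,176,177,179,184,185,186,189,190,209,210,215,224,226,228,232,233,234,235,236,237,239],3⟩) (.leaf ⟨[129,133,135,140,142,143,152,156,157,179,186,189,190,209,211,212,213,214,224,227,229,230,231,234,235,236,237,239],[128,130,131,132,134,136,137,138,139,141,153,154,155,158,159,176,177,178,180,181,182,183,184,185,187,188,191,208,210,215,225,226,228,232,233,238],3⟩)) (.node 235 (.leaf ⟨[130,133,135,136,139,141,155,158,159,176,180,181,182,183,185,189,190,210,211,212,213,214,228,233,235,236,237,239],[128,129,131,132,134,137,138,140,142,143,152,153,154,156,157,177,178,179,184,186,187,188,191,208,209,215,224,225,226,227,229,230,231,232,234,238],3⟩)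 (.leaf ⟨[131,133,135,136,138,141,154,158,159,177,184,188,191,208,209,210,211,215,224,225,229,230,231,233,234,236,237,239],[128,129,130,132,134,137,139,140,142,143,152,153,155,156,157,176,178,179,180,181,182,183,185,186,187,189,190,212,213,214,226,227,228,232,235,238],3⟩))) (.node 238 (.node 237 (.leaf ⟨[132,133,135,137,142,143,152,153,157,176,178,181,182,183,184,187,191,208,209,210,212,215,226,233,234,235,237,239],[128,129,130,131,134,136,138,139,140,141,154,155,156,158,159,177,179,180,185,186,188,189,190,211,213,214,224,225,227,228,229,230,231,232,236,238],3⟩) (.leaf ⟨[128,129,130,131,132,133,134,136,138,139,152,153,156,176,178,180,182,183,185,186,190,208,209,210,213,215,224,225,227,230,231,233,234,235,236,239],[135,137,140,141,142,143,154,155,157,158,159,177,179,181,184,187,188,189,191,211,212,214,226,228,229,232,237,238],3⟩)) (.node 239 (.leaf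 ⟨[133,134,135,137,140,143,154,155,159,176,178,180,181,183,185,186,189,208,209,210,214,215,224,225,227,229,231,232],[128,129,130,131,132,136,138,139,141,142,152,153,156,157,158,177,179,182,184,187,188,190,191,211,212,213,226,228,230,233,234,235,236,237,238,239],3⟩) (.leaf ⟨[128,129,130,131,132,134,135,137,140,142,154,155,158,176,178,180,181,182,184,187,188,211,212,213,214,215,224,225,227,229,230,233,234,235,236,237],[133,136,138,139,141,143,152,153,156,157,159,177,179,183,185,186,189,190,191,208,209,210,226,228,231,232,238,239],3⟩)))) (.node 244 (.node 242 (.node 241 (.leaf ⟨[1,4,9,10,19,20,28,29,34,48,50,55,64,69,83,84,85,87,89,96,97,100,105,106,110,111,114,119],[0,15,18,25,32,33,35,36,41,44,45,49,51,54,56,57,58,59,60,61,72,73,76,77,78,79,82,86,88,94,95,98,99,101,104,107],3⟩) (.leaf ⟨[0,9,18,28,29,33,34,36,44,49,51,54,58,59,60,61,69,72,82,84,85,87,89,94,96,97,104,114],[1,4,10,15,19,20,25,32,35,41,45,48,50,55,56,57,64,73,76,77,78,79,83,86,88,95,98,99,100,101,105,106,107,110,111,119],3⟩))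 (.node 243 (.leaf ⟨[0,9,15,19,28,29,32,33,34,36,45,48,49,50,56,58,59,61,72,73,76,77,79,83,84,85,89,95,99,100,101,105,106,107,110,114],[1,4,10,18,20,25,35,41,44,51,54,55,57,60,64,69,78,82,86,87,88,94,96,97,98,104,111,119],3⟩) (.leaf ⟨[0,9,15,18,19,28,29,36,41,44,51,55,56,60,76,77,78,79,85,86,88,96,97,99,105,106,110,111],[1,4,10,20,25,32,33,34,35,45,48,49,50,54,57,58,59,61,64,69,72,73,82,83,84,87,89,94,95,98,100,101,104,107,114,119],3⟩))) (.node 246 (.node 245 (.leaf ⟨[0,9,28,29,32,36,41,45,48,50,54,55,69,73,78,82,83,85,86,87,88,94,95,100,101,104,107,111],[1,4,10,15,18,19,20,25,33,34,35,44,49,51,56,57,58,59,60,61,64,72,76,77,79,84,89,96,97,98,99,105,106,110,114,119],3⟩) (.leaf ⟨[0,19,25,33,35,36,41,48,49,50,57,58,59,61,69,72,78,83,86,87,88,96,97,98,100,105,106,110],[1,4,9,10,15,18,20,28,29,32,34,44,45,51,54,55,56,60,64,73,76,77,79,82,84,85,89,94,95,99,101,104,107,111,114,119],3⟩))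 (.node 247 (.leaf ⟨[1,4,9,10,15,20,28,29,33,41,48,49,50,54,56,58,59,61,64,72,76,77,78,79,82,83,85,86,88,94,96,97,99,100,104,119],[0,18,19,25,32,34,35,36,44,45,51,55,57,60,69,73,84,87,89,95,98,101,105,106,107,110,111,114],3⟩) (.leaf ⟨[0,15,25,34,35,36,48,50,54,55,56,57,76,77,79,82,83,84,89,94,96,97,98,99,100,104,111,114],[1,4,9,10,18,19,20,28,29,32,33,41,44,45,49,51,58,59,60,61,64,69,72,73,78,85,86,87,88,95,101,105,106,107,110,119],3⟩)))))))))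
noncomputable def xmg2 : BT Row := (.node 124 (.node 62 (.node 31 (.node 15 (.node 7 (.node 3 (.node 1 (.leaf ⟨[],[0],0⟩) (.node 2 (.leaf ⟨[1],[],0⟩) (.leaf ⟨[],[2],0⟩))) (.node 5 (.node 4 (.leaf ⟨[3],[],0⟩) (.leaf ⟨[4],[],0⟩)) (.node 6 (.leaf ⟨[],[5],0⟩) (.leaf ⟨[6],[],0⟩)))) (.node 11 (.node 9 (.node 8 (.leaf ⟨[7],[],0⟩) (.leaf ⟨[],[8],0⟩)) (.node 10 (.leaf ⟨[9],[],0⟩) (.leaf ⟨[10],[],0⟩))) (.node 13 (.node 12 (.leaf ⟨[],[11],0⟩) (.leaf ⟨[12],[],0⟩)) (.node 14 (.leaf ⟨[13],[],0⟩) (.leaf ⟨[],[14],0⟩))))) (.node 23 (.node 19 (.node 17 (.node 16 (.leaf ⟨[15],[],0⟩) (.leaf ⟨[16],[],0⟩)) (.node 18 (.leaf ⟨[],[17],0⟩) (.leaf ⟨[18],[],0⟩))) (.node 21 (.node 20 (.leaf ⟨[],[19],0⟩) (.leaf ⟨[20],[],0⟩)) (.node 22 (.leaf ⟨[],[21],0⟩) (.leaf ⟨[22],[],0⟩)))) (.node 27 (.node 25 (.node 24 (.leaf ⟨[23],[],0⟩) (.leaf ⟨[],[24],0⟩)) (.node 26 (.leaf ⟨[25],[],0⟩)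 (.leaf ⟨[26],[],0⟩))) (.node 29 (.node 28 (.leaf ⟨[],[27],0⟩) (.leaf ⟨[28],[],0⟩)) (.node 30 (.leaf ⟨[],[29],0⟩) (.leaf ⟨[30],[],0⟩)))))) (.node 46 (.node 38 (.node 34 (.node 32 (.leaf ⟨[],[31],0⟩) (.node 33 (.leaf ⟨[32],[],0⟩) (.leaf ⟨[],[33],0⟩))) (.node 36 (.node 35 (.leaf ⟨[],[34],0⟩) (.leaf ⟨[],[35],0⟩)) (.node 37 (.leaf ⟨[36],[],0⟩) (.leaf ⟨[],[37],0⟩)))) (.node 42 (.node 40 (.node 39 (.leaf ⟨[38],[],0⟩) (.leaf ⟨[39],[],0⟩)) (.node 41 (.leaf ⟨[],[40],0⟩) (.leaf ⟨[41],[],0⟩))) (.node 44 (.node 43 (.leaf ⟨[42],[],0⟩) (.leaf ⟨[],[43],0⟩)) (.node 45 (.leaf ⟨[44],[],0⟩) (.leaf ⟨[],[45],0⟩))))) (.node 54 (.node 50 (.node 48 (.node 47 (.leaf ⟨[46],[],0⟩) (.leaf ⟨[],[47],0⟩)) (.node 49 (.leaf ⟨[48],[],0⟩) (.leaf ⟨[],[49],0⟩))) (.node 52 (.node 51 (.leaf ⟨[],[50],0⟩) (.leaf ⟨[],[51],0⟩)) (.node 53 (.leaf ⟨[52],[],0⟩) (.leaf ⟨[],[53],0⟩)))) (.node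 58 (.node 56 (.node 55 (.leaf ⟨[54],[],0⟩) (.leaf ⟨[],[55],0⟩)) (.node 57 (.leaf ⟨[],[56],0⟩) (.leaf ⟨[],[57],0⟩))) (.node 60 (.node 59 (.leaf ⟨[],[58],0⟩) (.leaf ⟨[],[59],0⟩)) (.node 61 (.leaf ⟨[],[60],0⟩) (.leaf ⟨[61],[],0⟩))))))) (.node 93 (.node 77 (.node 69 (.node 65 (.node 63 (.leaf ⟨[],[62],0⟩) (.node 64 (.leaf ⟨[63],[],0⟩) (.leaf ⟨[64],[],0⟩))) (.node 67 (.node 66 (.leaf ⟨[],[65],0⟩) (.leaf ⟨[66],[],0⟩)) (.node 68 (.leaf ⟨[67],[],0⟩) (.leaf ⟨[],[68],0⟩)))) (.node 73 (.node 71 (.node 70 (.leaf ⟨[69],[],0⟩) (.leaf ⟨[70],[],0⟩)) (.node 72 (.leaf ⟨[],[71],0⟩) (.leaf ⟨[72],[],0⟩))) (.node 75 (.node 74 (.leaf ⟨[],[73],0⟩) (.leaf ⟨[74],[],0⟩)) (.node 76 (.leaf ⟨[],[75],0⟩) (.leaf ⟨[76],[],0⟩))))) (.node 85 (.node 81 (.node 79 (.node 78 (.leaf ⟨[],[77],0⟩) (.leaf ⟨[],[78],0⟩)) (.node 80 (.leaf ⟨[],[79],0⟩) (.leaf ⟨[80],[],0⟩))) (.node 83 (.node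 82 (.leaf ⟨[],[81],0⟩) (.leaf ⟨[82],[],0⟩)) (.node 84 (.leaf ⟨[],[83],0⟩) (.leaf ⟨[],[84],0⟩)))) (.node 89 (.node 87 (.node 86 (.leaf ⟨[],[85],0⟩) (.leaf ⟨[],[86],0⟩)) (.node 88 (.leaf ⟨[],[87],0⟩) (.leaf ⟨[],[88],0⟩))) (.node 91 (.node 90 (.leaf ⟨[89],[],0⟩) (.leaf ⟨[],[90],0⟩)) (.node 92 (.leaf ⟨[91],[],0⟩) (.leaf ⟨[92],[],0⟩)))))) (.node 108 (.node 100 (.node 96 (.node 94 (.leaf ⟨[],[93],0⟩) (.node 95 (.leaf ⟨[94],[],0⟩) (.leaf ⟨[],[95],0⟩))) (.node 98 (.node 97 (.leaf ⟨[],[96],0⟩) (.leaf ⟨[],[97],0⟩)) (.node 99 (.leaf ⟨[],[98],0⟩) (.leaf ⟨[],[99],0⟩)))) (.node 104 (.node 102 (.node 101 (.leaf ⟨[],[100],0⟩) (.leaf ⟨[101],[],0⟩)) (.node 103 (.leaf ⟨[],[102],0⟩) (.leaf ⟨[103],[],0⟩))) (.node 106 (.node 105 (.leaf ⟨[],[104],0⟩) (.leaf ⟨[],[105],0⟩)) (.node 107 (.leaf ⟨[],[106],0⟩) (.leaf ⟨[107],[],0⟩))))) (.node 116 (.node 112 (.node 110 (.node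 109 (.leaf ⟨[],[108],0⟩) (.leaf ⟨[109],[],0⟩)) (.node 111 (.leaf ⟨[],[110],0⟩) (.leaf ⟨[111],[],0⟩))) (.node 114 (.node 113 (.leaf ⟨[],[112],0⟩) (.leaf ⟨[113],[],0⟩)) (.node 115 (.leaf ⟨[114],[],0⟩) (.leaf ⟨[],[115],0⟩)))) (.node 120 (.node 118 (.node 117 (.leaf ⟨[116],[],0⟩) (.leaf ⟨[117],[],0⟩)) (.node 119 (.leaf ⟨[],[118],0⟩) (.leaf ⟨[119],[],0⟩))) (.node 122 (.node 121 (.leaf ⟨[128],[],0⟩) (.leaf ⟨[129],[],0⟩)) (.node 123 (.leaf ⟨[130],[],0⟩) (.leaf ⟨[131],[],0⟩)))))))) (.node 186 (.node 155 (.node 139 (.node 131 (.node 127 (.node 125 (.leaf ⟨[132],[],0⟩) (.node 126 (.leaf ⟨[133],[],0⟩) (.leaf ⟨[134],[],0⟩))) (.node 129 (.node 128 (.leaf ⟨[135],[],0⟩) (.leaf ⟨[120],[],0⟩)) (.node 130 (.leaf ⟨[121],[],0⟩) (.leaf ⟨[122],[],0⟩)))) (.node 135 (.node 133 (.node 132 (.leaf ⟨[123],[],0⟩) (.leaf ⟨[124],[],0⟩)) (.node 134 (.leaf ⟨[125],[],0⟩) (.leaf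 ⟨[126],[],0⟩))) (.node 137 (.node 136 (.leaf ⟨[127],[],0⟩) (.leaf ⟨[144],[],0⟩)) (.node 138 (.leaf ⟨[145],[],0⟩) (.leaf ⟨[146],[],0⟩))))) (.node 147 (.node 143 (.node 141 (.node 140 (.leaf ⟨[147],[],0⟩) (.leaf ⟨[148],[],0⟩)) (.node 142 (.leaf ⟨[149],[],0⟩) (.leaf ⟨[150],[],0⟩))) (.node 145 (.node 144 (.leaf ⟨[151],[],0⟩) (.leaf ⟨[136],[],0⟩)) (.node 146 (.leaf ⟨[137],[],0⟩) (.leaf ⟨[138],[],0⟩)))) (.node 151 (.node 149 (.node 148 (.leaf ⟨[139],[],0⟩) (.leaf ⟨[140],[],0⟩)) (.node 150 (.leaf ⟨[141],[],0⟩) (.leaf ⟨[142],[],0⟩))) (.node 153 (.node 152 (.leaf ⟨[143],[],0⟩) (.leaf ⟨[160],[],0⟩)) (.node 154 (.leaf ⟨[161],[],0⟩) (.leaf ⟨[162],[],0⟩)))))) (.node 170 (.node 162 (.node 158 (.node 156 (.leaf ⟨[163],[],0⟩) (.node 157 (.leaf ⟨[164],[],0⟩) (.leaf ⟨[165],[],0⟩))) (.node 160 (.node 159 (.leaf ⟨[166],[],0⟩) (.leaf ⟨[167],[],0⟩)) (.node 161 (.leaf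 ⟨[152],[],0⟩) (.leaf ⟨[153],[],0⟩)))) (.node 166 (.node 164 (.node 163 (.leaf ⟨[154],[],0⟩) (.leaf ⟨[155],[],0⟩)) (.node 165 (.leaf ⟨[156],[],0⟩) (.leaf ⟨[157],[],0⟩))) (.node 168 (.node 167 (.leaf ⟨[158],[],0⟩) (.leaf ⟨[159],[],0⟩)) (.node 169 (.leaf ⟨[176],[],0⟩) (.leaf ⟨[177],[],0⟩))))) (.node 178 (.node 174 (.node 172 (.node 171 (.leaf ⟨[178],[],0⟩) (.leaf ⟨[179],[],0⟩)) (.node 173 (.leaf ⟨[180],[],0⟩) (.leaf ⟨[181],[],0⟩))) (.node 176 (.node 175 (.leaf ⟨[182],[],0⟩) (.leaf ⟨[183],[],0⟩)) (.node 177 (.leaf ⟨[168],[],0⟩) (.leaf ⟨[169],[],0⟩)))) (.node 182 (.node 180 (.node 179 (.leaf ⟨[170],[],0⟩) (.leaf ⟨[171],[],0⟩)) (.node 181 (.leaf ⟨[172],[],0⟩) (.leaf ⟨[173],[],0⟩))) (.node 184 (.node 183 (.leaf ⟨[174],[],0⟩) (.leaf ⟨[175],[],0⟩)) (.node 185 (.leaf ⟨[192],[],0⟩) (.leaf ⟨[193],[],0⟩))))))) (.node 217 (.node 201 (.node 193 (.node 189 (.node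 187 (.leaf ⟨[194],[],0⟩) (.node 188 (.leaf ⟨[195],[],0⟩) (.leaf ⟨[196],[],0⟩))) (.node 191 (.node 190 (.leaf ⟨[197],[],0⟩) (.leaf ⟨[198],[],0⟩)) (.node 192 (.leaf ⟨[199],[],0⟩) (.leaf ⟨[184],[],0⟩)))) (.node 197 (.node 195 (.node 194 (.leaf ⟨[185],[],0⟩) (.leaf ⟨[186],[],0⟩)) (.node 196 (.leaf ⟨[187],[],0⟩) (.leaf ⟨[188],[],0⟩))) (.node 199 (.node 198 (.leaf ⟨[189],[],0⟩) (.leaf ⟨[190],[],0⟩)) (.node 200 (.leaf ⟨[191],[],0⟩) (.leaf ⟨[208],[],0⟩))))) (.node 209 (.node 205 (.node 203 (.node 202 (.leaf ⟨[209],[],0⟩) (.leaf ⟨[210],[],0⟩)) (.node 204 (.leaf ⟨[211],[],0⟩) (.leaf ⟨[212],[],0⟩))) (.node 207 (.node 206 (.leaf ⟨[213],[],0⟩) (.leaf ⟨[214],[],0⟩)) (.node 208 (.leaf ⟨[215],[],0⟩) (.leaf ⟨[200],[],0⟩)))) (.node 213 (.node 211 (.node 210 (.leaf ⟨[201],[],0⟩) (.leaf ⟨[202],[],0⟩)) (.node 212 (.leaf ⟨[203],[],0⟩) (.leaf ⟨[204],[],0⟩))) (.node 215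 (.node 214 (.leaf ⟨[205],[],0⟩) (.leaf ⟨[206],[],0⟩)) (.node 216 (.leaf ⟨[207],[],0⟩) (.leaf ⟨[224],[],0⟩)))))) (.node 232 (.node 224 (.node 220 (.node 218 (.leaf ⟨[225],[],0⟩) (.node 219 (.leaf ⟨[226],[],0⟩) (.leaf ⟨[227],[],0⟩))) (.node 222 (.node 221 (.leaf ⟨[228],[],0⟩) (.leaf ⟨[229],[],0⟩)) (.node 223 (.leaf ⟨[230],[],0⟩) (.leaf ⟨[231],[],0⟩)))) (.node 228 (.node 226 (.node 225 (.leaf ⟨[216],[],0⟩) (.leaf ⟨[217],[],0⟩)) (.node 227 (.leaf ⟨[218],[],0⟩) (.leaf ⟨[219],[],0⟩))) (.node 230 (.node 229 (.leaf ⟨[220],[],0⟩) (.leaf ⟨[221],[],0⟩)) (.node 231 (.leaf ⟨[222],[],0⟩) (.leaf ⟨[223],[],0⟩))))) (.node 240 (.node 236 (.node 234 (.node 233 (.leaf ⟨[240],[],0⟩) (.leaf ⟨[241],[],0⟩)) (.node 235 (.leaf ⟨[242],[],0⟩) (.leaf ⟨[243],[],0⟩))) (.node 238 (.node 237 (.leaf ⟨[244],[],0⟩) (.leaf ⟨[245],[],0⟩)) (.node 239 (.leaf ⟨[246],[],0⟩) (.leaf ⟨[247],[],0⟩))))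 (.node 244 (.node 242 (.node 241 (.leaf ⟨[232],[],0⟩) (.leaf ⟨[233],[],0⟩)) (.node 243 (.leaf ⟨[234],[],0⟩) (.leaf ⟨[235],[],0⟩))) (.node 246 (.node 245 (.leaf ⟨[236],[],0⟩) (.leaf ⟨[237],[],0⟩)) (.node 247 (.leaf ⟨[238],[],0⟩) (.leaf ⟨[239],[],0⟩)))))))))
noncomputable def xmg3 : BT Row := (.node 124 (.node 62 (.node 31 (.node 15 (.node 7 (.node 3 (.node 1 (.leaf ⟨[0],[],0⟩) (.node 2 (.leaf ⟨[],[1],0⟩) (.leaf ⟨[],[2],0⟩))) (.node 5 (.node 4 (.leaf ⟨[3],[],0⟩) (.leaf ⟨[4],[],0⟩)) (.node 6 (.leaf ⟨[5],[],0⟩) (.leaf ⟨[],[6],0⟩)))) (.node 11 (.node 9 (.node 8 (.leaf ⟨[],[7],0⟩) (.leaf ⟨[8],[],0⟩)) (.node 10 (.leaf ⟨[9],[],0⟩) (.leaf ⟨[10],[],0⟩))) (.node 13 (.node 12 (.leaf ⟨[11],[],0⟩) (.leaf ⟨[],[12],0⟩)) (.node 14 (.leaf ⟨[],[13],0⟩) (.leaf ⟨[14],[],0⟩))))) (.node 23 (.node 19 (.node 17 (.node 16 (.leaf ⟨[15],[],0⟩) (.leaf ⟨[16],[],0⟩)) (.node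 18 (.leaf ⟨[],[17],0⟩) (.leaf ⟨[],[18],0⟩))) (.node 21 (.node 20 (.leaf ⟨[19],[],0⟩) (.leaf ⟨[20],[],0⟩)) (.node 22 (.leaf ⟨[21],[],0⟩) (.leaf ⟨[],[22],0⟩)))) (.node 27 (.node 25 (.node 24 (.leaf ⟨[],[23],0⟩) (.leaf ⟨[24],[],0⟩)) (.node 26 (.leaf ⟨[25],[],0⟩) (.leaf ⟨[26],[],0⟩))) (.node 29 (.node 28 (.leaf ⟨[],[27],0⟩) (.leaf ⟨[],[28],0⟩)) (.node 30 (.leaf ⟨[29],[],0⟩) (.leaf ⟨[30],[],0⟩)))))) (.node 46 (.node 38 (.node 34 (.node 32 (.leaf ⟨[],[31],0⟩) (.node 33 (.leaf ⟨[],[32],0⟩) (.leaf ⟨[33],[],0⟩))) (.node 36 (.node 35 (.leaf ⟨[],[34],0⟩) (.leaf ⟨[],[35],0⟩)) (.node 37 (.leaf ⟨[36],[],0⟩) (.leaf ⟨[37],[],0⟩)))) (.node 42 (.node 40 (.node 39 (.leaf ⟨[],[38],0⟩) (.leaf ⟨[],[39],0⟩)) (.node 41 (.leaf ⟨[40],[],0⟩) (.leaf ⟨[41],[],0⟩))) (.node 44 (.node 43 (.leaf ⟨[42],[],0⟩) (.leaf ⟨[],[43],0⟩)) (.node 45 (.leaf ⟨[],[44],0⟩) (.leaf ⟨[45],[],0⟩)))))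 (.node 54 (.node 50 (.node 48 (.node 47 (.leaf ⟨[46],[],0⟩) (.leaf ⟨[],[47],0⟩)) (.node 49 (.leaf ⟨[],[48],0⟩) (.leaf ⟨[49],[],0⟩))) (.node 52 (.node 51 (.leaf ⟨[],[50],0⟩) (.leaf ⟨[],[51],0⟩)) (.node 53 (.leaf ⟨[52],[],0⟩) (.leaf ⟨[],[53],0⟩)))) (.node 58 (.node 56 (.node 55 (.leaf ⟨[],[54],0⟩) (.leaf ⟨[55],[],0⟩)) (.node 57 (.leaf ⟨[],[56],0⟩) (.leaf ⟨[],[57],0⟩))) (.node 60 (.node 59 (.leaf ⟨[],[58],0⟩) (.leaf ⟨[],[59],0⟩)) (.node 61 (.leaf ⟨[60],[],0⟩) (.leaf ⟨[],[61],0⟩))))))) (.node 93 (.node 77 (.node 69 (.node 65 (.node 63 (.leaf ⟨[],[62],0⟩) (.node 64 (.leaf ⟨[63],[],0⟩) (.leaf ⟨[64],[],0⟩))) (.node 67 (.node 66 (.leaf ⟨[65],[],0⟩) (.leaf ⟨[],[66],0⟩)) (.node 68 (.leaf ⟨[],[67],0⟩) (.leaf ⟨[68],[],0⟩)))) (.node 73 (.node 71 (.node 70 (.leaf ⟨[69],[],0⟩) (.leaf ⟨[70],[],0⟩)) (.node 72 (.leaf ⟨[],[71],0⟩) (.leaf ⟨[],[72],0⟩))) (.node 75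 (.node 74 (.leaf ⟨[73],[],0⟩) (.leaf ⟨[74],[],0⟩)) (.node 76 (.leaf ⟨[],[75],0⟩) (.leaf ⟨[],[76],0⟩))))) (.node 85 (.node 81 (.node 79 (.node 78 (.leaf ⟨[77],[],0⟩) (.leaf ⟨[],[78],0⟩)) (.node 80 (.leaf ⟨[],[79],0⟩) (.leaf ⟨[80],[],0⟩))) (.node 83 (.node 82 (.leaf ⟨[],[81],0⟩) (.leaf ⟨[],[82],0⟩)) (.node 84 (.leaf ⟨[83],[],0⟩) (.leaf ⟨[],[84],0⟩)))) (.node 89 (.node 87 (.node 86 (.leaf ⟨[],[85],0⟩) (.leaf ⟨[],[86],0⟩)) (.node 88 (.leaf ⟨[],[87],0⟩) (.leaf ⟨[88],[],0⟩))) (.node 91 (.node 90 (.leaf ⟨[],[89],0⟩) (.leaf ⟨[],[90],0⟩)) (.node 92 (.leaf ⟨[91],[],0⟩) (.leaf ⟨[92],[],0⟩)))))) (.node 108 (.node 100 (.node 96 (.node 94 (.leaf ⟨[],[93],0⟩) (.node 95 (.leaf ⟨[],[94],0⟩) (.leaf ⟨[95],[],0⟩))) (.node 98 (.node 97 (.leaf ⟨[],[96],0⟩) (.leaf ⟨[],[97],0⟩)) (.node 99 (.leaf ⟨[],[98],0⟩) (.leaf ⟨[],[99],0⟩)))) (.node 104 (.node 102 (.node 101 (.leaf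 ⟨[100],[],0⟩) (.leaf ⟨[],[101],0⟩)) (.node 103 (.leaf ⟨[],[102],0⟩) (.leaf ⟨[103],[],0⟩))) (.node 106 (.node 105 (.leaf ⟨[],[104],0⟩) (.leaf ⟨[],[105],0⟩)) (.node 107 (.leaf ⟨[106],[],0⟩) (.leaf ⟨[],[107],0⟩))))) (.node 116 (.node 112 (.node 110 (.node 109 (.leaf ⟨[],[108],0⟩) (.leaf ⟨[109],[],0⟩)) (.node 111 (.leaf ⟨[110],[],0⟩) (.leaf ⟨[],[111],0⟩))) (.node 114 (.node 113 (.leaf ⟨[],[112],0⟩) (.leaf ⟨[113],[],0⟩)) (.node 115 (.leaf ⟨[114],[],0⟩) (.leaf ⟨[115],[],0⟩)))) (.node 120 (.node 118 (.node 117 (.leaf ⟨[],[116],0⟩) (.leaf ⟨[],[117],0⟩)) (.node 119 (.leaf ⟨[118],[],0⟩) (.leaf ⟨[119],[],0⟩))) (.node 122 (.node 121 (.leaf ⟨[136],[],0⟩) (.leaf ⟨[137],[],0⟩)) (.node 123 (.leaf ⟨[138],[],0⟩) (.leaf ⟨[139],[],0⟩)))))))) (.node 186 (.node 155 (.node 139 (.node 131 (.node 127 (.node 125 (.leaf ⟨[140],[],0⟩) (.node 126 (.leaf ⟨[141],[],0⟩) (.leaf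 ⟨[142],[],0⟩))) (.node 129 (.node 128 (.leaf ⟨[143],[],0⟩) (.leaf ⟨[],[144],0⟩)) (.node 130 (.leaf ⟨[],[145],0⟩) (.leaf ⟨[],[146],0⟩)))) (.node 135 (.node 133 (.node 132 (.leaf ⟨[],[147],0⟩) (.leaf ⟨[],[148],0⟩)) (.node 134 (.leaf ⟨[],[149],0⟩) (.leaf ⟨[],[150],0⟩))) (.node 137 (.node 136 (.leaf ⟨[],[151],0⟩) (.leaf ⟨[120],[],0⟩)) (.node 138 (.leaf ⟨[121],[],0⟩) (.leaf ⟨[122],[],0⟩))))) (.node 147 (.node 143 (.node 141 (.node 140 (.leaf ⟨[123],[],0⟩) (.leaf ⟨[124],[],0⟩)) (.node 142 (.leaf ⟨[125],[],0⟩) (.leaf ⟨[126],[],0⟩))) (.node 145 (.node 144 (.leaf ⟨[127],[],0⟩) (.leaf ⟨[],[128],0⟩)) (.node 146 (.leaf ⟨[],[129],0⟩) (.leaf ⟨[],[130],0⟩)))) (.node 151 (.node 149 (.node 148 (.leaf ⟨[],[131],0⟩) (.leaf ⟨[],[132],0⟩)) (.node 150 (.leaf ⟨[],[133],0⟩) (.leaf ⟨[],[134],0⟩))) (.node 153 (.node 152 (.leaf ⟨[],[135],0⟩) (.leaf ⟨[168],[],0⟩)) (.node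 154 (.leaf ⟨[169],[],0⟩) (.leaf ⟨[170],[],0⟩)))))) (.node 170 (.node 162 (.node 158 (.node 156 (.leaf ⟨[171],[],0⟩) (.node 157 (.leaf ⟨[172],[],0⟩) (.leaf ⟨[173],[],0⟩))) (.node 160 (.node 159 (.leaf ⟨[174],[],0⟩) (.leaf ⟨[175],[],0⟩)) (.node 161 (.leaf ⟨[],[176],0⟩) (.leaf ⟨[],[177],0⟩)))) (.node 166 (.node 164 (.node 163 (.leaf ⟨[],[178],0⟩) (.leaf ⟨[],[179],0⟩)) (.node 165 (.leaf ⟨[],[180],0⟩) (.leaf ⟨[],[181],0⟩))) (.node 168 (.node 167 (.leaf ⟨[],[182],0⟩) (.leaf ⟨[],[183],0⟩)) (.node 169 (.leaf ⟨[152],[],0⟩) (.leaf ⟨[153],[],0⟩))))) (.node 178 (.node 174 (.node 172 (.node 171 (.leaf ⟨[154],[],0⟩) (.leaf ⟨[155],[],0⟩)) (.node 173 (.leaf ⟨[156],[],0⟩) (.leaf ⟨[157],[],0⟩))) (.node 176 (.node 175 (.leaf ⟨[158],[],0⟩) (.leaf ⟨[159],[],0⟩)) (.node 177 (.leaf ⟨[],[160],0⟩) (.leaf ⟨[],[161],0⟩)))) (.node 182 (.node 180 (.node 179 (.leaf ⟨[],[162],0⟩)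 (.leaf ⟨[],[163],0⟩)) (.node 181 (.leaf ⟨[],[164],0⟩) (.leaf ⟨[],[165],0⟩))) (.node 184 (.node 183 (.leaf ⟨[],[166],0⟩) (.leaf ⟨[],[167],0⟩)) (.node 185 (.leaf ⟨[200],[],0⟩) (.leaf ⟨[201],[],0⟩))))))) (.node 217 (.node 201 (.node 193 (.node 189 (.node 187 (.leaf ⟨[202],[],0⟩) (.node 188 (.leaf ⟨[203],[],0⟩) (.leaf ⟨[204],[],0⟩))) (.node 191 (.node 190 (.leaf ⟨[205],[],0⟩) (.leaf ⟨[206],[],0⟩)) (.node 192 (.leaf ⟨[207],[],0⟩) (.leaf ⟨[],[208],0⟩)))) (.node 197 (.node 195 (.node 194 (.leaf ⟨[],[209],0⟩) (.leaf ⟨[],[210],0⟩)) (.node 196 (.leaf ⟨[],[211],0⟩) (.leaf ⟨[],[212],0⟩))) (.node 199 (.node 198 (.leaf ⟨[],[213],0⟩) (.leaf ⟨[],[214],0⟩)) (.node 200 (.leaf ⟨[],[215],0⟩) (.leaf ⟨[184],[],0⟩))))) (.node 209 (.node 205 (.node 203 (.node 202 (.leaf ⟨[185],[],0⟩) (.leaf ⟨[186],[],0⟩)) (.node 204 (.leaf ⟨[187],[],0⟩) (.leaf ⟨[188],[],0⟩))) (.node 207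 (.node 206 (.leaf ⟨[189],[],0⟩) (.leaf ⟨[190],[],0⟩)) (.node 208 (.leaf ⟨[191],[],0⟩) (.leaf ⟨[],[192],0⟩)))) (.node 213 (.node 211 (.node 210 (.leaf ⟨[],[193],0⟩) (.leaf ⟨[],[194],0⟩)) (.node 212 (.leaf ⟨[],[195],0⟩) (.leaf ⟨[],[196],0⟩))) (.node 215 (.node 214 (.leaf ⟨[],[197],0⟩) (.leaf ⟨[],[198],0⟩)) (.node 216 (.leaf ⟨[],[199],0⟩) (.leaf ⟨[232],[],0⟩)))))) (.node 232 (.node 224 (.node 220 (.node 218 (.leaf ⟨[233],[],0⟩) (.node 219 (.leaf ⟨[234],[],0⟩) (.leaf ⟨[235],[],0⟩))) (.node 222 (.node 221 (.leaf ⟨[236],[],0⟩) (.leaf ⟨[237],[],0⟩)) (.node 223 (.leaf ⟨[238],[],0⟩) (.leaf ⟨[239],[],0⟩)))) (.node 228 (.node 226 (.node 225 (.leaf ⟨[],[240],0⟩) (.leaf ⟨[],[241],0⟩)) (.node 227 (.leaf ⟨[],[242],0⟩) (.leaf ⟨[],[243],0⟩))) (.node 230 (.node 229 (.leaf ⟨[],[244],0⟩) (.leaf ⟨[],[245],0⟩)) (.node 231 (.leaf ⟨[],[246],0⟩) (.leaf ⟨[],[247],0⟩)))))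 (.node 240 (.node 236 (.node 234 (.node 233 (.leaf ⟨[216],[],0⟩) (.leaf ⟨[217],[],0⟩)) (.node 235 (.leaf ⟨[218],[],0⟩) (.leaf ⟨[219],[],0⟩))) (.node 238 (.node 237 (.leaf ⟨[220],[],0⟩) (.leaf ⟨[221],[],0⟩)) (.node 239 (.leaf ⟨[222],[],0⟩) (.leaf ⟨[223],[],0⟩)))) (.node 244 (.node 242 (.node 241 (.leaf ⟨[],[224],0⟩) (.leaf ⟨[],[225],0⟩)) (.node 243 (.leaf ⟨[],[226],0⟩) (.leaf ⟨[],[227],0⟩))) (.node 246 (.node 245 (.leaf ⟨[],[228],0⟩) (.leaf ⟨[],[229],0⟩)) (.node 247 (.leaf ⟨[],[230],0⟩) (.leaf ⟨[],[231],0⟩)))))))))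
noncomputable def xmg4 : BT Row := (.node 124 (.node 62 (.node 31 (.node 15 (.node 7 (.node 3 (.node 1 (.leaf ⟨[0],[],0⟩) (.node 2 (.leaf ⟨[1],[],0⟩) (.leaf ⟨[2],[],0⟩))) (.node 5 (.node 4 (.leaf ⟨[],[3],0⟩) (.leaf ⟨[],[4],0⟩)) (.node 6 (.leaf ⟨[],[5],0⟩) (.leaf ⟨[6],[],0⟩)))) (.node 11 (.node 9 (.node 8 (.leaf ⟨[],[7],0⟩) (.leaf ⟨[8],[],0⟩)) (.node 10 (.leaf ⟨[9],[],0⟩) (.leaf ⟨[10],[],0⟩))) (.node 13 (.node 12 (.leaf ⟨[11],[],0⟩) (.leaf ⟨[],[12],0⟩)) (.node 14 (.leaf ⟨[13],[],0⟩) (.leaf ⟨[],[14],0⟩))))) (.node 23 (.node 19 (.node 17 (.node 16 (.leaf ⟨[],[15],0⟩) (.leaf ⟨[],[16],0⟩)) (.node 18 (.leaf ⟨[17],[],0⟩) (.leaf ⟨[18],[],0⟩))) (.node 21 (.node 20 (.leaf ⟨[19],[],0⟩) (.leaf ⟨[20],[],0⟩)) (.node 22 (.leaf ⟨[21],[],0⟩) (.leaf ⟨[],[22],0⟩)))) (.node 27 (.node 25 (.node 24 (.leaf ⟨[23],[],0⟩) (.leaf ⟨[],[24],0⟩)) (.node 26 (.leaf ⟨[],[25],0⟩)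 (.leaf ⟨[],[26],0⟩))) (.node 29 (.node 28 (.leaf ⟨[27],[],0⟩) (.leaf ⟨[28],[],0⟩)) (.node 30 (.leaf ⟨[29],[],0⟩) (.leaf ⟨[30],[],0⟩)))))) (.node 46 (.node 38 (.node 34 (.node 32 (.leaf ⟨[],[31],0⟩) (.node 33 (.leaf ⟨[],[32],0⟩) (.leaf ⟨[],[33],0⟩))) (.node 36 (.node 35 (.leaf ⟨[34],[],0⟩) (.leaf ⟨[],[35],0⟩)) (.node 37 (.leaf ⟨[36],[],0⟩) (.leaf ⟨[37],[],0⟩)))) (.node 42 (.node 40 (.node 39 (.leaf ⟨[],[38],0⟩) (.leaf ⟨[39],[],0⟩)) (.node 41 (.leaf ⟨[],[40],0⟩) (.leaf ⟨[],[41],0⟩))) (.node 44 (.node 43 (.leaf ⟨[],[42],0⟩) (.leaf ⟨[43],[],0⟩)) (.node 45 (.leaf ⟨[44],[],0⟩) (.leaf ⟨[45],[],0⟩))))) (.node 54 (.node 50 (.node 48 (.node 47 (.leaf ⟨[46],[],0⟩) (.leaf ⟨[],[47],0⟩)) (.node 49 (.leaf ⟨[],[48],0⟩) (.leaf ⟨[],[49],0⟩))) (.node 52 (.node 51 (.leaf ⟨[50],[],0⟩) (.leaf ⟨[],[51],0⟩)) (.node 53 (.leaf ⟨[52],[],0⟩) (.leaf ⟨[],[53],0⟩)))) (.node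 58 (.node 56 (.node 55 (.leaf ⟨[],[54],0⟩) (.leaf ⟨[],[55],0⟩)) (.node 57 (.leaf ⟨[56],[],0⟩) (.leaf ⟨[],[57],0⟩))) (.node 60 (.node 59 (.leaf ⟨[],[58],0⟩) (.leaf ⟨[59],[],0⟩)) (.node 61 (.leaf ⟨[],[60],0⟩) (.leaf ⟨[],[61],0⟩))))))) (.node 93 (.node 77 (.node 69 (.node 65 (.node 63 (.leaf ⟨[],[62],0⟩) (.node 64 (.leaf ⟨[63],[],0⟩) (.leaf ⟨[64],[],0⟩))) (.node 67 (.node 66 (.leaf ⟨[65],[],0⟩) (.leaf ⟨[],[66],0⟩)) (.node 68 (.leaf ⟨[67],[],0⟩) (.leaf ⟨[],[68],0⟩)))) (.node 73 (.node 71 (.node 70 (.leaf ⟨[],[69],0⟩) (.leaf ⟨[],[70],0⟩)) (.node 72 (.leaf ⟨[71],[],0⟩) (.leaf ⟨[72],[],0⟩))) (.node 75 (.node 74 (.leaf ⟨[73],[],0⟩) (.leaf ⟨[74],[],0⟩)) (.node 76 (.leaf ⟨[],[75],0⟩) (.leaf ⟨[],[76],0⟩))))) (.node 85 (.node 81 (.node 79 (.node 78 (.leaf ⟨[],[77],0⟩) (.leaf ⟨[78],[],0⟩)) (.node 80 (.leaf ⟨[],[79],0⟩) (.leaf ⟨[80],[],0⟩))) (.node 83 (.node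 82 (.leaf ⟨[],[81],0⟩) (.leaf ⟨[],[82],0⟩)) (.node 84 (.leaf ⟨[],[83],0⟩) (.leaf ⟨[84],[],0⟩)))) (.node 89 (.node 87 (.node 86 (.leaf ⟨[],[85],0⟩) (.leaf ⟨[],[86],0⟩)) (.node 88 (.leaf ⟨[87],[],0⟩) (.leaf ⟨[],[88],0⟩))) (.node 91 (.node 90 (.leaf ⟨[],[89],0⟩) (.leaf ⟨[],[90],0⟩)) (.node 92 (.leaf ⟨[91],[],0⟩) (.leaf ⟨[92],[],0⟩)))))) (.node 108 (.node 100 (.node 96 (.node 94 (.leaf ⟨[],[93],0⟩) (.node 95 (.leaf ⟨[],[94],0⟩) (.leaf ⟨[],[95],0⟩))) (.node 98 (.node 97 (.leaf ⟨[96],[],0⟩) (.leaf ⟨[],[97],0⟩)) (.node 99 (.leaf ⟨[],[98],0⟩) (.leaf ⟨[99],[],0⟩)))) (.node 104 (.node 102 (.node 101 (.leaf ⟨[],[100],0⟩) (.leaf ⟨[],[101],0⟩)) (.node 103 (.leaf ⟨[],[102],0⟩) (.leaf ⟨[103],[],0⟩))) (.node 106 (.node 105 (.leaf ⟨[],[104],0⟩) (.leaf ⟨[105],[],0⟩)) (.node 107 (.leaf ⟨[],[106],0⟩) (.leaf ⟨[],[107],0⟩))))) (.node 116 (.node 112 (.node 110 (.node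 109 (.leaf ⟨[],[108],0⟩) (.leaf ⟨[109],[],0⟩)) (.node 111 (.leaf ⟨[110],[],0⟩) (.leaf ⟨[111],[],0⟩))) (.node 114 (.node 113 (.leaf ⟨[112],[],0⟩) (.leaf ⟨[],[113],0⟩)) (.node 115 (.leaf ⟨[],[114],0⟩) (.leaf ⟨[],[115],0⟩)))) (.node 120 (.node 118 (.node 117 (.leaf ⟨[116],[],0⟩) (.leaf ⟨[],[117],0⟩)) (.node 119 (.leaf ⟨[118],[],0⟩) (.leaf ⟨[119],[],0⟩))) (.node 122 (.node 121 (.leaf ⟨[152],[],0⟩) (.leaf ⟨[153],[],0⟩)) (.node 123 (.leaf ⟨[154],[],0⟩) (.leaf ⟨[155],[],0⟩)))))))) (.node 186 (.node 155 (.node 139 (.node 131 (.node 127 (.node 125 (.leaf ⟨[156],[],0⟩) (.node 126 (.leaf ⟨[157],[],0⟩) (.leaf ⟨[158],[],0⟩))) (.node 129 (.node 128 (.leaf ⟨[159],[],0⟩) (.leaf ⟨[],[160],0⟩)) (.node 130 (.leaf ⟨[],[161],0⟩) (.leaf ⟨[],[162],0⟩)))) (.node 135 (.node 133 (.node 132 (.leaf ⟨[],[163],0⟩) (.leaf ⟨[],[164],0⟩)) (.node 134 (.leaf ⟨[],[165],0⟩) (.leaf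 ⟨[],[166],0⟩))) (.node 137 (.node 136 (.leaf ⟨[],[167],0⟩) (.leaf ⟨[],[168],0⟩)) (.node 138 (.leaf ⟨[],[169],0⟩) (.leaf ⟨[],[170],0⟩))))) (.node 147 (.node 143 (.node 141 (.node 140 (.leaf ⟨[],[171],0⟩) (.leaf ⟨[],[172],0⟩)) (.node 142 (.leaf ⟨[],[173],0⟩) (.leaf ⟨[],[174],0⟩))) (.node 145 (.node 144 (.leaf ⟨[],[175],0⟩) (.leaf ⟨[176],[],0⟩)) (.node 146 (.leaf ⟨[177],[],0⟩) (.leaf ⟨[178],[],0⟩)))) (.node 151 (.node 149 (.node 148 (.leaf ⟨[179],[],0⟩) (.leaf ⟨[180],[],0⟩)) (.node 150 (.leaf ⟨[181],[],0⟩) (.leaf ⟨[182],[],0⟩))) (.node 153 (.node 152 (.leaf ⟨[183],[],0⟩) (.leaf ⟨[120],[],0⟩)) (.node 154 (.leaf ⟨[121],[],0⟩) (.leaf ⟨[122],[],0⟩)))))) (.node 170 (.node 162 (.node 158 (.node 156 (.leaf ⟨[123],[],0⟩) (.node 157 (.leaf ⟨[124],[],0⟩) (.leaf ⟨[125],[],0⟩))) (.node 160 (.node 159 (.leaf ⟨[126],[],0⟩) (.leaf ⟨[127],[],0⟩)) (.node 161 (.leaf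 ⟨[],[128],0⟩) (.leaf ⟨[],[129],0⟩)))) (.node 166 (.node 164 (.node 163 (.leaf ⟨[],[130],0⟩) (.leaf ⟨[],[131],0⟩)) (.node 165 (.leaf ⟨[],[132],0⟩) (.leaf ⟨[],[133],0⟩))) (.node 168 (.node 167 (.leaf ⟨[],[134],0⟩) (.leaf ⟨[],[135],0⟩)) (.node 169 (.leaf ⟨[],[136],0⟩) (.leaf ⟨[],[137],0⟩))))) (.node 178 (.node 174 (.node 172 (.node 171 (.leaf ⟨[],[138],0⟩) (.leaf ⟨[],[139],0⟩)) (.node 173 (.leaf ⟨[],[140],0⟩) (.leaf ⟨[],[141],0⟩))) (.node 176 (.node 175 (.leaf ⟨[],[142],0⟩) (.leaf ⟨[],[143],0⟩)) (.node 177 (.leaf ⟨[144],[],0⟩) (.leaf ⟨[145],[],0⟩)))) (.node 182 (.node 180 (.node 179 (.leaf ⟨[146],[],0⟩) (.leaf ⟨[147],[],0⟩)) (.node 181 (.leaf ⟨[148],[],0⟩) (.leaf ⟨[149],[],0⟩))) (.node 184 (.node 183 (.leaf ⟨[150],[],0⟩) (.leaf ⟨[151],[],0⟩)) (.node 185 (.leaf ⟨[216],[],0⟩) (.leaf ⟨[217],[],0⟩))))))) (.node 217 (.node 201 (.node 193 (.node 189 (.node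 187 (.leaf ⟨[218],[],0⟩) (.node 188 (.leaf ⟨[219],[],0⟩) (.leaf ⟨[220],[],0⟩))) (.node 191 (.node 190 (.leaf ⟨[221],[],0⟩) (.leaf ⟨[222],[],0⟩)) (.node 192 (.leaf ⟨[223],[],0⟩) (.leaf ⟨[],[224],0⟩)))) (.node 197 (.node 195 (.node 194 (.leaf ⟨[],[225],0⟩) (.leaf ⟨[],[226],0⟩)) (.node 196 (.leaf ⟨[],[227],0⟩) (.leaf ⟨[],[228],0⟩))) (.node 199 (.node 198 (.leaf ⟨[],[229],0⟩) (.leaf ⟨[],[230],0⟩)) (.node 200 (.leaf ⟨[],[231],0⟩) (.leaf ⟨[],[232],0⟩))))) (.node 209 (.node 205 (.node 203 (.node 202 (.leaf ⟨[],[233],0⟩) (.leaf ⟨[],[234],0⟩)) (.node 204 (.leaf ⟨[],[235],0⟩) (.leaf ⟨[],[236],0⟩))) (.node 207 (.node 206 (.leaf ⟨[],[237],0⟩) (.leaf ⟨[],[238],0⟩)) (.node 208 (.leaf ⟨[],[239],0⟩) (.leaf ⟨[240],[],0⟩)))) (.node 213 (.node 211 (.node 210 (.leaf ⟨[241],[],0⟩) (.leaf ⟨[242],[],0⟩)) (.node 212 (.leaf ⟨[243],[],0⟩) (.leaf ⟨[244],[],0⟩))) (.node 215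 (.node 214 (.leaf ⟨[245],[],0⟩) (.leaf ⟨[246],[],0⟩)) (.node 216 (.leaf ⟨[247],[],0⟩) (.leaf ⟨[184],[],0⟩)))))) (.node 232 (.node 224 (.node 220 (.node 218 (.leaf ⟨[185],[],0⟩) (.node 219 (.leaf ⟨[186],[],0⟩) (.leaf ⟨[187],[],0⟩))) (.node 222 (.node 221 (.leaf ⟨[188],[],0⟩) (.leaf ⟨[189],[],0⟩)) (.node 223 (.leaf ⟨[190],[],0⟩) (.leaf ⟨[191],[],0⟩)))) (.node 228 (.node 226 (.node 225 (.leaf ⟨[],[192],0⟩) (.leaf ⟨[],[193],0⟩)) (.node 227 (.leaf ⟨[],[194],0⟩) (.leaf ⟨[],[195],0⟩))) (.node 230 (.node 229 (.leaf ⟨[],[196],0⟩) (.leaf ⟨[],[197],0⟩)) (.node 231 (.leaf ⟨[],[198],0⟩) (.leaf ⟨[],[199],0⟩))))) (.node 240 (.node 236 (.node 234 (.node 233 (.leaf ⟨[],[200],0⟩) (.leaf ⟨[],[201],0⟩)) (.node 235 (.leaf ⟨[],[202],0⟩) (.leaf ⟨[],[203],0⟩))) (.node 238 (.node 237 (.leaf ⟨[],[204],0⟩) (.leaf ⟨[],[205],0⟩)) (.node 239 (.leaf ⟨[],[206],0⟩) (.leaf ⟨[],[207],0⟩))))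 (.node 244 (.node 242 (.node 241 (.leaf ⟨[208],[],0⟩) (.leaf ⟨[209],[],0⟩)) (.node 243 (.leaf ⟨[210],[],0⟩) (.leaf ⟨[211],[],0⟩))) (.node 246 (.node 245 (.leaf ⟨[212],[],0⟩) (.leaf ⟨[213],[],0⟩)) (.node 247 (.leaf ⟨[214],[],0⟩) (.leaf ⟨[215],[],0⟩)))))))))
noncomputable def xmg5 : BT Row := (.node 124 (.node 62 (.node 31 (.node 15 (.node 7 (.node 3 (.node 1 (.leaf ⟨[0],[],0⟩) (.node 2 (.leaf ⟨[1],[],0⟩) (.leaf ⟨[2],[],0⟩))) (.node 5 (.node 4 (.leaf ⟨[],[3],0⟩) (.leaf ⟨[4],[],0⟩)) (.node 6 (.leaf ⟨[5],[],0⟩) (.leaf ⟨[],[6],0⟩)))) (.node 11 (.node 9 (.node 8 (.leaf ⟨[7],[],0⟩) (.leaf ⟨[],[8],0⟩)) (.node 10 (.leaf ⟨[],[9],0⟩) (.leaf ⟨[],[10],0⟩))) (.node 13 (.node 12 (.leaf ⟨[],[11],0⟩) (.leaf ⟨[12],[],0⟩)) (.node 14 (.leaf ⟨[],[13],0⟩) (.leaf ⟨[14],[],0⟩))))) (.node 23 (.node 19 (.node 17 (.node 16 (.leaf ⟨[15],[],0⟩) (.leaf ⟨[],[16],0⟩)) (.node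 18 (.leaf ⟨[17],[],0⟩) (.leaf ⟨[18],[],0⟩))) (.node 21 (.node 20 (.leaf ⟨[19],[],0⟩) (.leaf ⟨[20],[],0⟩)) (.node 22 (.leaf ⟨[21],[],0⟩) (.leaf ⟨[],[22],0⟩)))) (.node 27 (.node 25 (.node 24 (.leaf ⟨[23],[],0⟩) (.leaf ⟨[],[24],0⟩)) (.node 26 (.leaf ⟨[],[25],0⟩) (.leaf ⟨[26],[],0⟩))) (.node 29 (.node 28 (.leaf ⟨[],[27],0⟩) (.leaf ⟨[],[28],0⟩)) (.node 30 (.leaf ⟨[],[29],0⟩) (.leaf ⟨[],[30],0⟩)))))) (.node 46 (.node 38 (.node 34 (.node 32 (.leaf ⟨[31],[],0⟩) (.node 33 (.leaf ⟨[32],[],0⟩) (.leaf ⟨[33],[],0⟩))) (.node 36 (.node 35 (.leaf ⟨[34],[],0⟩) (.leaf ⟨[],[35],0⟩)) (.node 37 (.leaf ⟨[36],[],0⟩) (.leaf ⟨[37],[],0⟩)))) (.node 42 (.node 40 (.node 39 (.leaf ⟨[],[38],0⟩) (.leaf ⟨[39],[],0⟩)) (.node 41 (.leaf ⟨[],[40],0⟩) (.leaf ⟨[],[41],0⟩))) (.node 44 (.node 43 (.leaf ⟨[42],[],0⟩) (.leaf ⟨[],[43],0⟩)) (.node 45 (.leaf ⟨[],[44],0⟩) (.leaf ⟨[],[45],0⟩)))))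 (.node 54 (.node 50 (.node 48 (.node 47 (.leaf ⟨[],[46],0⟩) (.leaf ⟨[47],[],0⟩)) (.node 49 (.leaf ⟨[48],[],0⟩) (.leaf ⟨[49],[],0⟩))) (.node 52 (.node 51 (.leaf ⟨[50],[],0⟩) (.leaf ⟨[],[51],0⟩)) (.node 53 (.leaf ⟨[52],[],0⟩) (.leaf ⟨[],[53],0⟩)))) (.node 58 (.node 56 (.node 55 (.leaf ⟨[],[54],0⟩) (.leaf ⟨[],[55],0⟩)) (.node 57 (.leaf ⟨[],[56],0⟩) (.leaf ⟨[57],[],0⟩))) (.node 60 (.node 59 (.leaf ⟨[58],[],0⟩) (.leaf ⟨[],[59],0⟩)) (.node 61 (.leaf ⟨[],[60],0⟩) (.leaf ⟨[],[61],0⟩))))))) (.node 93 (.node 77 (.node 69 (.node 65 (.node 63 (.leaf ⟨[],[62],0⟩) (.node 64 (.leaf ⟨[63],[],0⟩) (.leaf ⟨[64],[],0⟩))) (.node 67 (.node 66 (.leaf ⟨[65],[],0⟩) (.leaf ⟨[],[66],0⟩)) (.node 68 (.leaf ⟨[67],[],0⟩) (.leaf ⟨[],[68],0⟩)))) (.node 73 (.node 71 (.node 70 (.leaf ⟨[],[69],0⟩) (.leaf ⟨[70],[],0⟩)) (.node 72 (.leaf ⟨[],[71],0⟩) (.leaf ⟨[],[72],0⟩))) (.node 75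 (.node 74 (.leaf ⟨[],[73],0⟩) (.leaf ⟨[],[74],0⟩)) (.node 76 (.leaf ⟨[75],[],0⟩) (.leaf ⟨[76],[],0⟩))))) (.node 85 (.node 81 (.node 79 (.node 78 (.leaf ⟨[77],[],0⟩) (.leaf ⟨[78],[],0⟩)) (.node 80 (.leaf ⟨[],[79],0⟩) (.leaf ⟨[80],[],0⟩))) (.node 83 (.node 82 (.leaf ⟨[],[81],0⟩) (.leaf ⟨[],[82],0⟩)) (.node 84 (.leaf ⟨[],[83],0⟩) (.leaf ⟨[],[84],0⟩)))) (.node 89 (.node 87 (.node 86 (.leaf ⟨[85],[],0⟩) (.leaf ⟨[86],[],0⟩)) (.node 88 (.leaf ⟨[],[87],0⟩) (.leaf ⟨[],[88],0⟩))) (.node 91 (.node 90 (.leaf ⟨[],[89],0⟩) (.leaf ⟨[],[90],0⟩)) (.node 92 (.leaf ⟨[91],[],0⟩) (.leaf ⟨[92],[],0⟩)))))) (.node 108 (.node 100 (.node 96 (.node 94 (.leaf ⟨[],[93],0⟩) (.node 95 (.leaf ⟨[],[94],0⟩) (.leaf ⟨[],[95],0⟩))) (.node 98 (.node 97 (.leaf ⟨[],[96],0⟩) (.leaf ⟨[97],[],0⟩)) (.node 99 (.leaf ⟨[98],[],0⟩) (.leaf ⟨[],[99],0⟩)))) (.node 104 (.node 102 (.node 101 (.leaf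 ⟨[],[100],0⟩) (.leaf ⟨[],[101],0⟩)) (.node 103 (.leaf ⟨[],[102],0⟩) (.leaf ⟨[103],[],0⟩))) (.node 106 (.node 105 (.leaf ⟨[],[104],0⟩) (.leaf ⟨[105],[],0⟩)) (.node 107 (.leaf ⟨[106],[],0⟩) (.leaf ⟨[107],[],0⟩))))) (.node 116 (.node 112 (.node 110 (.node 109 (.leaf ⟨[108],[],0⟩) (.leaf ⟨[],[109],0⟩)) (.node 111 (.leaf ⟨[],[110],0⟩) (.leaf ⟨[],[111],0⟩))) (.node 114 (.node 113 (.leaf ⟨[],[112],0⟩) (.leaf ⟨[113],[],0⟩)) (.node 115 (.leaf ⟨[],[114],0⟩) (.leaf ⟨[],[115],0⟩)))) (.node 120 (.node 118 (.node 117 (.leaf ⟨[116],[],0⟩) (.leaf ⟨[],[117],0⟩)) (.node 119 (.leaf ⟨[118],[],0⟩) (.leaf ⟨[119],[],0⟩))) (.node 122 (.node 121 (.leaf ⟨[],[176],0⟩) (.leaf ⟨[],[177],0⟩)) (.node 123 (.leaf ⟨[],[178],0⟩) (.leaf ⟨[],[179],0⟩)))))))) (.node 186 (.node 155 (.node 139 (.node 131 (.node 127 (.node 125 (.leaf ⟨[],[180],0⟩) (.node 126 (.leaf ⟨[],[181],0⟩) (.leaf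 ⟨[],[182],0⟩))) (.node 129 (.node 128 (.leaf ⟨[],[183],0⟩) (.leaf ⟨[168],[],0⟩)) (.node 130 (.leaf ⟨[169],[],0⟩) (.leaf ⟨[170],[],0⟩)))) (.node 135 (.node 133 (.node 132 (.leaf ⟨[171],[],0⟩) (.leaf ⟨[172],[],0⟩)) (.node 134 (.leaf ⟨[173],[],0⟩) (.leaf ⟨[174],[],0⟩))) (.node 137 (.node 136 (.leaf ⟨[175],[],0⟩) (.leaf ⟨[],[160],0⟩)) (.node 138 (.leaf ⟨[],[161],0⟩) (.leaf ⟨[],[162],0⟩))))) (.node 147 (.node 143 (.node 141 (.node 140 (.leaf ⟨[],[163],0⟩) (.leaf ⟨[],[164],0⟩)) (.node 142 (.leaf ⟨[],[165],0⟩) (.leaf ⟨[],[166],0⟩))) (.node 145 (.node 144 (.leaf ⟨[],[167],0⟩) (.leaf ⟨[152],[],0⟩)) (.node 146 (.leaf ⟨[153],[],0⟩) (.leaf ⟨[154],[],0⟩)))) (.node 151 (.node 149 (.node 148 (.leaf ⟨[155],[],0⟩) (.leaf ⟨[156],[],0⟩)) (.node 150 (.leaf ⟨[157],[],0⟩) (.leaf ⟨[158],[],0⟩))) (.node 153 (.node 152 (.leaf ⟨[159],[],0⟩) (.leaf ⟨[144],[],0⟩)) (.node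 154 (.leaf ⟨[145],[],0⟩) (.leaf ⟨[146],[],0⟩)))))) (.node 170 (.node 162 (.node 158 (.node 156 (.leaf ⟨[147],[],0⟩) (.node 157 (.leaf ⟨[148],[],0⟩) (.leaf ⟨[149],[],0⟩))) (.node 160 (.node 159 (.leaf ⟨[150],[],0⟩) (.leaf ⟨[151],[],0⟩)) (.node 161 (.leaf ⟨[],[136],0⟩) (.leaf ⟨[],[137],0⟩)))) (.node 166 (.node 164 (.node 163 (.leaf ⟨[],[138],0⟩) (.leaf ⟨[],[139],0⟩)) (.node 165 (.leaf ⟨[],[140],0⟩) (.leaf ⟨[],[141],0⟩))) (.node 168 (.node 167 (.leaf ⟨[],[142],0⟩) (.leaf ⟨[],[143],0⟩)) (.node 169 (.leaf ⟨[128],[],0⟩) (.leaf ⟨[129],[],0⟩))))) (.node 178 (.node 174 (.node 172 (.node 171 (.leaf ⟨[130],[],0⟩) (.leaf ⟨[131],[],0⟩)) (.node 173 (.leaf ⟨[132],[],0⟩) (.leaf ⟨[133],[],0⟩))) (.node 176 (.node 175 (.leaf ⟨[134],[],0⟩) (.leaf ⟨[135],[],0⟩)) (.node 177 (.leaf ⟨[],[120],0⟩) (.leaf ⟨[],[121],0⟩)))) (.node 182 (.node 180 (.node 179 (.leaf ⟨[],[122],0⟩)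 (.leaf ⟨[],[123],0⟩)) (.node 181 (.leaf ⟨[],[124],0⟩) (.leaf ⟨[],[125],0⟩))) (.node 184 (.node 183 (.leaf ⟨[],[126],0⟩) (.leaf ⟨[],[127],0⟩)) (.node 185 (.leaf ⟨[],[240],0⟩) (.leaf ⟨[],[241],0⟩))))))) (.node 217 (.node 201 (.node 193 (.node 189 (.node 187 (.leaf ⟨[],[242],0⟩) (.node 188 (.leaf ⟨[],[243],0⟩) (.leaf ⟨[],[244],0⟩))) (.node 191 (.node 190 (.leaf ⟨[],[245],0⟩) (.leaf ⟨[],[246],0⟩)) (.node 192 (.leaf ⟨[],[247],0⟩) (.leaf ⟨[232],[],0⟩)))) (.node 197 (.node 195 (.node 194 (.leaf ⟨[233],[],0⟩) (.leaf ⟨[234],[],0⟩)) (.node 196 (.leaf ⟨[235],[],0⟩) (.leaf ⟨[236],[],0⟩))) (.node 199 (.node 198 (.leaf ⟨[237],[],0⟩) (.leaf ⟨[238],[],0⟩)) (.node 200 (.leaf ⟨[239],[],0⟩) (.leaf ⟨[],[224],0⟩))))) (.node 209 (.node 205 (.node 203 (.node 202 (.leaf ⟨[],[225],0⟩) (.leaf ⟨[],[226],0⟩)) (.node 204 (.leaf ⟨[],[227],0⟩) (.leaf ⟨[],[228],0⟩))) (.node 207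 (.node 206 (.leaf ⟨[],[229],0⟩) (.leaf ⟨[],[230],0⟩)) (.node 208 (.leaf ⟨[],[231],0⟩) (.leaf ⟨[216],[],0⟩)))) (.node 213 (.node 211 (.node 210 (.leaf ⟨[217],[],0⟩) (.leaf ⟨[218],[],0⟩)) (.node 212 (.leaf ⟨[219],[],0⟩) (.leaf ⟨[220],[],0⟩))) (.node 215 (.node 214 (.leaf ⟨[221],[],0⟩) (.leaf ⟨[222],[],0⟩)) (.node 216 (.leaf ⟨[223],[],0⟩) (.leaf ⟨[208],[],0⟩)))))) (.node 232 (.node 224 (.node 220 (.node 218 (.leaf ⟨[209],[],0⟩) (.node 219 (.leaf ⟨[210],[],0⟩) (.leaf ⟨[211],[],0⟩))) (.node 222 (.node 221 (.leaf ⟨[212],[],0⟩) (.leaf ⟨[213],[],0⟩)) (.node 223 (.leaf ⟨[214],[],0⟩) (.leaf ⟨[215],[],0⟩)))) (.node 228 (.node 226 (.node 225 (.leaf ⟨[],[200],0⟩) (.leaf ⟨[],[201],0⟩)) (.node 227 (.leaf ⟨[],[202],0⟩) (.leaf ⟨[],[203],0⟩))) (.node 230 (.node 229 (.leaf ⟨[],[204],0⟩) (.leaf ⟨[],[205],0⟩)) (.node 231 (.leaf ⟨[],[206],0⟩) (.leaf ⟨[],[207],0⟩)))))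 (.node 240 (.node 236 (.node 234 (.node 233 (.leaf ⟨[192],[],0⟩) (.leaf ⟨[193],[],0⟩)) (.node 235 (.leaf ⟨[194],[],0⟩) (.leaf ⟨[195],[],0⟩))) (.node 238 (.node 237 (.leaf ⟨[196],[],0⟩) (.leaf ⟨[197],[],0⟩)) (.node 239 (.leaf ⟨[198],[],0⟩) (.leaf ⟨[199],[],0⟩)))) (.node 244 (.node 242 (.node 241 (.leaf ⟨[],[184],0⟩) (.leaf ⟨[],[185],0⟩)) (.node 243 (.leaf ⟨[],[186],0⟩) (.leaf ⟨[],[187],0⟩))) (.node 246 (.node 245 (.leaf ⟨[],[188],0⟩) (.leaf ⟨[],[189],0⟩)) (.node 247 (.leaf ⟨[],[190],0⟩) (.leaf ⟨[],[191],0⟩)))))))))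
noncomputable def xmg6 : BT Row := (.node 124 (.node 62 (.node 31 (.node 15 (.node 7 (.node 3 (.node 1 (.leaf ⟨[0],[],0⟩) (.node 2 (.leaf ⟨[1],[],0⟩) (.leaf ⟨[2],[],0⟩))) (.node 5 (.node 4 (.leaf ⟨[],[3],0⟩) (.leaf ⟨[4],[],0⟩)) (.node 6 (.leaf ⟨[5],[],0⟩) (.leaf ⟨[],[6],0⟩)))) (.node 11 (.node 9 (.node 8 (.leaf ⟨[7],[],0⟩) (.leaf ⟨[],[8],0⟩)) (.node 10 (.leaf ⟨[],[9],0⟩) (.leaf ⟨[10],[],0⟩))) (.node 13 (.node 12 (.leaf ⟨[11],[],0⟩) (.leaf ⟨[],[12],0⟩)) (.node 14 (.leaf ⟨[13],[],0⟩) (.leaf ⟨[],[14],0⟩))))) (.node 23 (.node 19 (.node 17 (.node 16 (.leaf ⟨[],[15],0⟩) (.leaf ⟨[16],[],0⟩)) (.node 18 (.leaf ⟨[],[17],0⟩) (.leaf ⟨[],[18],0⟩))) (.node 21 (.node 20 (.leaf ⟨[],[19],0⟩) (.leaf ⟨[],[20],0⟩)) (.node 22 (.leaf ⟨[],[21],0⟩) (.leaf ⟨[22],[],0⟩)))) (.node 27 (.node 25 (.node 24 (.leaf ⟨[],[23],0⟩) (.leaf ⟨[24],[],0⟩)) (.node 26 (.leaf ⟨[25],[],0⟩)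 (.leaf ⟨[],[26],0⟩))) (.node 29 (.node 28 (.leaf ⟨[27],[],0⟩) (.leaf ⟨[28],[],0⟩)) (.node 30 (.leaf ⟨[29],[],0⟩) (.leaf ⟨[],[30],0⟩)))))) (.node 46 (.node 38 (.node 34 (.node 32 (.leaf ⟨[31],[],0⟩) (.node 33 (.leaf ⟨[32],[],0⟩) (.leaf ⟨[33],[],0⟩))) (.node 36 (.node 35 (.leaf ⟨[34],[],0⟩) (.leaf ⟨[],[35],0⟩)) (.node 37 (.leaf ⟨[36],[],0⟩) (.leaf ⟨[37],[],0⟩)))) (.node 42 (.node 40 (.node 39 (.leaf ⟨[],[38],0⟩) (.leaf ⟨[39],[],0⟩)) (.node 41 (.leaf ⟨[],[40],0⟩) (.leaf ⟨[],[41],0⟩))) (.node 44 (.node 43 (.leaf ⟨[42],[],0⟩) (.leaf ⟨[],[43],0⟩)) (.node 45 (.leaf ⟨[],[44],0⟩) (.leaf ⟨[],[45],0⟩))))) (.node 54 (.node 50 (.node 48 (.node 47 (.leaf ⟨[46],[],0⟩) (.leaf ⟨[],[47],0⟩)) (.node 49 (.leaf ⟨[],[48],0⟩) (.leaf ⟨[],[49],0⟩))) (.node 52 (.node 51 (.leaf ⟨[],[50],0⟩) (.leaf ⟨[51],[],0⟩)) (.node 53 (.leaf ⟨[],[52],0⟩) (.leaf ⟨[53],[],0⟩)))) (.node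 58 (.node 56 (.node 55 (.leaf ⟨[54],[],0⟩) (.leaf ⟨[55],[],0⟩)) (.node 57 (.leaf ⟨[56],[],0⟩) (.leaf ⟨[],[57],0⟩))) (.node 60 (.node 59 (.leaf ⟨[58],[],0⟩) (.leaf ⟨[],[59],0⟩)) (.node 61 (.leaf ⟨[],[60],0⟩) (.leaf ⟨[],[61],0⟩))))))) (.node 93 (.node 77 (.node 69 (.node 65 (.node 63 (.leaf ⟨[],[62],0⟩) (.node 64 (.leaf ⟨[63],[],0⟩) (.leaf ⟨[64],[],0⟩))) (.node 67 (.node 66 (.leaf ⟨[65],[],0⟩) (.leaf ⟨[],[66],0⟩)) (.node 68 (.leaf ⟨[67],[],0⟩) (.leaf ⟨[],[68],0⟩)))) (.node 73 (.node 71 (.node 70 (.leaf ⟨[],[69],0⟩) (.leaf ⟨[70],[],0⟩)) (.node 72 (.leaf ⟨[],[71],0⟩) (.leaf ⟨[],[72],0⟩))) (.node 75 (.node 74 (.leaf ⟨[],[73],0⟩) (.leaf ⟨[74],[],0⟩)) (.node 76 (.leaf ⟨[],[75],0⟩) (.leaf ⟨[],[76],0⟩))))) (.node 85 (.node 81 (.node 79 (.node 78 (.leaf ⟨[],[77],0⟩) (.leaf ⟨[],[78],0⟩)) (.node 80 (.leaf ⟨[79],[],0⟩) (.leaf ⟨[],[80],0⟩))) (.node 83 (.node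 82 (.leaf ⟨[81],[],0⟩) (.leaf ⟨[82],[],0⟩)) (.node 84 (.leaf ⟨[83],[],0⟩) (.leaf ⟨[84],[],0⟩)))) (.node 89 (.node 87 (.node 86 (.leaf ⟨[],[85],0⟩) (.leaf ⟨[86],[],0⟩)) (.node 88 (.leaf ⟨[],[87],0⟩) (.leaf ⟨[],[88],0⟩))) (.node 91 (.node 90 (.leaf ⟨[],[89],0⟩) (.leaf ⟨[],[90],0⟩)) (.node 92 (.leaf ⟨[91],[],0⟩) (.leaf ⟨[92],[],0⟩)))))) (.node 108 (.node 100 (.node 96 (.node 94 (.leaf ⟨[],[93],0⟩) (.node 95 (.leaf ⟨[],[94],0⟩) (.leaf ⟨[],[95],0⟩))) (.node 98 (.node 97 (.leaf ⟨[],[96],0⟩) (.leaf ⟨[97],[],0⟩)) (.node 99 (.leaf ⟨[],[98],0⟩) (.leaf ⟨[99],[],0⟩)))) (.node 104 (.node 102 (.node 101 (.leaf ⟨[100],[],0⟩) (.leaf ⟨[101],[],0⟩)) (.node 103 (.leaf ⟨[102],[],0⟩) (.leaf ⟨[],[103],0⟩))) (.node 106 (.node 105 (.leaf ⟨[104],[],0⟩) (.leaf ⟨[],[105],0⟩)) (.node 107 (.leaf ⟨[],[106],0⟩) (.leaf ⟨[],[107],0⟩))))) (.node 116 (.node 112 (.node 110 (.node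 109 (.leaf ⟨[],[108],0⟩) (.leaf ⟨[109],[],0⟩)) (.node 111 (.leaf ⟨[],[110],0⟩) (.leaf ⟨[],[111],0⟩))) (.node 114 (.node 113 (.leaf ⟨[],[112],0⟩) (.leaf ⟨[113],[],0⟩)) (.node 115 (.leaf ⟨[],[114],0⟩) (.leaf ⟨[],[115],0⟩)))) (.node 120 (.node 118 (.node 117 (.leaf ⟨[116],[],0⟩) (.leaf ⟨[],[117],0⟩)) (.node 119 (.leaf ⟨[118],[],0⟩) (.leaf ⟨[119],[],0⟩))) (.node 122 (.node 121 (.leaf ⟨[184],[],0⟩) (.leaf ⟨[185],[],0⟩)) (.node 123 (.leaf ⟨[186],[],0⟩) (.leaf ⟨[187],[],0⟩)))))))) (.node 186 (.node 155 (.node 139 (.node 131 (.node 127 (.node 125 (.leaf ⟨[188],[],0⟩) (.node 126 (.leaf ⟨[189],[],0⟩) (.leaf ⟨[190],[],0⟩))) (.node 129 (.node 128 (.leaf ⟨[191],[],0⟩) (.leaf ⟨[],[192],0⟩)) (.node 130 (.leaf ⟨[],[193],0⟩) (.leaf ⟨[],[194],0⟩)))) (.node 135 (.node 133 (.node 132 (.leaf ⟨[],[195],0⟩) (.leaf ⟨[],[196],0⟩)) (.node 134 (.leaf ⟨[],[197],0⟩) (.leaf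 ⟨[],[198],0⟩))) (.node 137 (.node 136 (.leaf ⟨[],[199],0⟩) (.leaf ⟨[],[200],0⟩)) (.node 138 (.leaf ⟨[],[201],0⟩) (.leaf ⟨[],[202],0⟩))))) (.node 147 (.node 143 (.node 141 (.node 140 (.leaf ⟨[],[203],0⟩) (.leaf ⟨[],[204],0⟩)) (.node 142 (.leaf ⟨[],[205],0⟩) (.leaf ⟨[],[206],0⟩))) (.node 145 (.node 144 (.leaf ⟨[],[207],0⟩) (.leaf ⟨[208],[],0⟩)) (.node 146 (.leaf ⟨[209],[],0⟩) (.leaf ⟨[210],[],0⟩)))) (.node 151 (.node 149 (.node 148 (.leaf ⟨[211],[],0⟩) (.leaf ⟨[212],[],0⟩)) (.node 150 (.leaf ⟨[213],[],0⟩) (.leaf ⟨[214],[],0⟩))) (.node 153 (.node 152 (.leaf ⟨[215],[],0⟩) (.leaf ⟨[],[216],0⟩)) (.node 154 (.leaf ⟨[],[217],0⟩) (.leaf ⟨[],[218],0⟩)))))) (.node 170 (.node 162 (.node 158 (.node 156 (.leaf ⟨[],[219],0⟩) (.node 157 (.leaf ⟨[],[220],0⟩) (.leaf ⟨[],[221],0⟩))) (.node 160 (.node 159 (.leaf ⟨[],[222],0⟩) (.leaf ⟨[],[223],0⟩)) (.node 161 (.leaf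 ⟨[224],[],0⟩) (.leaf ⟨[225],[],0⟩)))) (.node 166 (.node 164 (.node 163 (.leaf ⟨[226],[],0⟩) (.leaf ⟨[227],[],0⟩)) (.node 165 (.leaf ⟨[228],[],0⟩) (.leaf ⟨[229],[],0⟩))) (.node 168 (.node 167 (.leaf ⟨[230],[],0⟩) (.leaf ⟨[231],[],0⟩)) (.node 169 (.leaf ⟨[232],[],0⟩) (.leaf ⟨[233],[],0⟩))))) (.node 178 (.node 174 (.node 172 (.node 171 (.leaf ⟨[234],[],0⟩) (.leaf ⟨[235],[],0⟩)) (.node 173 (.leaf ⟨[236],[],0⟩) (.leaf ⟨[237],[],0⟩))) (.node 176 (.node 175 (.leaf ⟨[238],[],0⟩) (.leaf ⟨[239],[],0⟩)) (.node 177 (.leaf ⟨[],[240],0⟩) (.leaf ⟨[],[241],0⟩)))) (.node 182 (.node 180 (.node 179 (.leaf ⟨[],[242],0⟩) (.leaf ⟨[],[243],0⟩)) (.node 181 (.leaf ⟨[],[244],0⟩) (.leaf ⟨[],[245],0⟩))) (.node 184 (.node 183 (.leaf ⟨[],[246],0⟩) (.leaf ⟨[],[247],0⟩)) (.node 185 (.leaf ⟨[120],[],0⟩) (.leaf ⟨[121],[],0⟩))))))) (.node 217 (.node 201 (.node 193 (.node 189 (.node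 187 (.leaf ⟨[122],[],0⟩) (.node 188 (.leaf ⟨[123],[],0⟩) (.leaf ⟨[124],[],0⟩))) (.node 191 (.node 190 (.leaf ⟨[125],[],0⟩) (.leaf ⟨[126],[],0⟩)) (.node 192 (.leaf ⟨[127],[],0⟩) (.leaf ⟨[],[128],0⟩)))) (.node 197 (.node 195 (.node 194 (.leaf ⟨[],[129],0⟩) (.leaf ⟨[],[130],0⟩)) (.node 196 (.leaf ⟨[],[131],0⟩) (.leaf ⟨[],[132],0⟩))) (.node 199 (.node 198 (.leaf ⟨[],[133],0⟩) (.leaf ⟨[],[134],0⟩)) (.node 200 (.leaf ⟨[],[135],0⟩) (.leaf ⟨[],[136],0⟩))))) (.node 209 (.node 205 (.node 203 (.node 202 (.leaf ⟨[],[137],0⟩) (.leaf ⟨[],[138],0⟩)) (.node 204 (.leaf ⟨[],[139],0⟩) (.leaf ⟨[],[140],0⟩))) (.node 207 (.node 206 (.leaf ⟨[],[141],0⟩) (.leaf ⟨[],[142],0⟩)) (.node 208 (.leaf ⟨[],[143],0⟩) (.leaf ⟨[144],[],0⟩)))) (.node 213 (.node 211 (.node 210 (.leaf ⟨[145],[],0⟩) (.leaf ⟨[146],[],0⟩)) (.node 212 (.leaf ⟨[147],[],0⟩) (.leaf ⟨[148],[],0⟩))) (.node 215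 (.node 214 (.leaf ⟨[149],[],0⟩) (.leaf ⟨[150],[],0⟩)) (.node 216 (.leaf ⟨[151],[],0⟩) (.leaf ⟨[],[152],0⟩)))))) (.node 232 (.node 224 (.node 220 (.node 218 (.leaf ⟨[],[153],0⟩) (.node 219 (.leaf ⟨[],[154],0⟩) (.leaf ⟨[],[155],0⟩))) (.node 222 (.node 221 (.leaf ⟨[],[156],0⟩) (.leaf ⟨[],[157],0⟩)) (.node 223 (.leaf ⟨[],[158],0⟩) (.leaf ⟨[],[159],0⟩)))) (.node 228 (.node 226 (.node 225 (.leaf ⟨[160],[],0⟩) (.leaf ⟨[161],[],0⟩)) (.node 227 (.leaf ⟨[162],[],0⟩) (.leaf ⟨[163],[],0⟩))) (.node 230 (.node 229 (.leaf ⟨[164],[],0⟩) (.leaf ⟨[165],[],0⟩)) (.node 231 (.leaf ⟨[166],[],0⟩) (.leaf ⟨[167],[],0⟩))))) (.node 240 (.node 236 (.node 234 (.node 233 (.leaf ⟨[168],[],0⟩) (.leaf ⟨[169],[],0⟩)) (.node 235 (.leaf ⟨[170],[],0⟩) (.leaf ⟨[171],[],0⟩))) (.node 238 (.node 237 (.leaf ⟨[172],[],0⟩) (.leaf ⟨[173],[],0⟩)) (.node 239 (.leaf ⟨[174],[],0⟩) (.leaf ⟨[175],[],0⟩))))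 (.node 244 (.node 242 (.node 241 (.leaf ⟨[],[176],0⟩) (.leaf ⟨[],[177],0⟩)) (.node 243 (.leaf ⟨[],[178],0⟩) (.leaf ⟨[],[179],0⟩))) (.node 246 (.node 245 (.leaf ⟨[],[180],0⟩) (.leaf ⟨[],[181],0⟩)) (.node 247 (.leaf ⟨[],[182],0⟩) (.leaf ⟨[],[183],0⟩)))))))))
noncomputable def xmg7 : BT Row := (.node 124 (.node 62 (.node 31 (.node 15 (.node 7 (.node 3 (.node 1 (.leaf ⟨[0],[],0⟩) (.node 2 (.leaf ⟨[1],[],0⟩) (.leaf ⟨[2],[],0⟩))) (.node 5 (.node 4 (.leaf ⟨[],[3],0⟩) (.leaf ⟨[4],[],0⟩)) (.node 6 (.leaf ⟨[5],[],0⟩) (.leaf ⟨[],[6],0⟩)))) (.node 11 (.node 9 (.node 8 (.leaf ⟨[7],[],0⟩) (.leaf ⟨[],[8],0⟩)) (.node 10 (.leaf ⟨[],[9],0⟩) (.leaf ⟨[10],[],0⟩))) (.node 13 (.node 12 (.leaf ⟨[11],[],0⟩) (.leaf ⟨[],[12],0⟩)) (.node 14 (.leaf ⟨[13],[],0⟩) (.leaf ⟨[],[14],0⟩))))) (.node 23 (.node 19 (.node 17 (.node 16 (.leaf ⟨[],[15],0⟩) (.leaf ⟨[16],[],0⟩)) (.node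 18 (.leaf ⟨[],[17],0⟩) (.leaf ⟨[],[18],0⟩))) (.node 21 (.node 20 (.leaf ⟨[],[19],0⟩) (.leaf ⟨[20],[],0⟩)) (.node 22 (.leaf ⟨[21],[],0⟩) (.leaf ⟨[],[22],0⟩)))) (.node 27 (.node 25 (.node 24 (.leaf ⟨[23],[],0⟩) (.leaf ⟨[],[24],0⟩)) (.node 26 (.leaf ⟨[],[25],0⟩) (.leaf ⟨[26],[],0⟩))) (.node 29 (.node 28 (.leaf ⟨[],[27],0⟩) (.leaf ⟨[],[28],0⟩)) (.node 30 (.leaf ⟨[],[29],0⟩) (.leaf ⟨[30],[],0⟩)))))) (.node 46 (.node 38 (.node 34 (.node 32 (.leaf ⟨[],[31],0⟩) (.node 33 (.leaf ⟨[],[32],0⟩) (.leaf ⟨[],[33],0⟩))) (.node 36 (.node 35 (.leaf ⟨[],[34],0⟩) (.leaf ⟨[35],[],0⟩)) (.node 37 (.leaf ⟨[],[36],0⟩) (.leaf ⟨[],[37],0⟩)))) (.node 42 (.node 40 (.node 39 (.leaf ⟨[38],[],0⟩) (.leaf ⟨[],[39],0⟩)) (.node 41 (.leaf ⟨[40],[],0⟩) (.leaf ⟨[41],[],0⟩))) (.node 44 (.node 43 (.leaf ⟨[],[42],0⟩) (.leaf ⟨[43],[],0⟩)) (.node 45 (.leaf ⟨[44],[],0⟩) (.leaf ⟨[45],[],0⟩)))))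 (.node 54 (.node 50 (.node 48 (.node 47 (.leaf ⟨[],[46],0⟩) (.leaf ⟨[47],[],0⟩)) (.node 49 (.leaf ⟨[48],[],0⟩) (.leaf ⟨[49],[],0⟩))) (.node 52 (.node 51 (.leaf ⟨[50],[],0⟩) (.leaf ⟨[],[51],0⟩)) (.node 53 (.leaf ⟨[],[52],0⟩) (.leaf ⟨[53],[],0⟩)))) (.node 58 (.node 56 (.node 55 (.leaf ⟨[54],[],0⟩) (.leaf ⟨[55],[],0⟩)) (.node 57 (.leaf ⟨[56],[],0⟩) (.leaf ⟨[],[57],0⟩))) (.node 60 (.node 59 (.leaf ⟨[58],[],0⟩) (.leaf ⟨[],[59],0⟩)) (.node 61 (.leaf ⟨[],[60],0⟩) (.leaf ⟨[],[61],0⟩))))))) (.node 93 (.node 77 (.node 69 (.node 65 (.node 63 (.leaf ⟨[],[62],0⟩) (.node 64 (.leaf ⟨[63],[],0⟩) (.leaf ⟨[64],[],0⟩))) (.node 67 (.node 66 (.leaf ⟨[65],[],0⟩) (.leaf ⟨[],[66],0⟩)) (.node 68 (.leaf ⟨[67],[],0⟩) (.leaf ⟨[],[68],0⟩)))) (.node 73 (.node 71 (.node 70 (.leaf ⟨[],[69],0⟩) (.leaf ⟨[70],[],0⟩)) (.node 72 (.leaf ⟨[],[71],0⟩) (.leaf ⟨[],[72],0⟩))) (.node 75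 (.node 74 (.leaf ⟨[],[73],0⟩) (.leaf ⟨[74],[],0⟩)) (.node 76 (.leaf ⟨[],[75],0⟩) (.leaf ⟨[],[76],0⟩))))) (.node 85 (.node 81 (.node 79 (.node 78 (.leaf ⟨[],[77],0⟩) (.leaf ⟨[],[78],0⟩)) (.node 80 (.leaf ⟨[79],[],0⟩) (.leaf ⟨[80],[],0⟩))) (.node 83 (.node 82 (.leaf ⟨[],[81],0⟩) (.leaf ⟨[],[82],0⟩)) (.node 84 (.leaf ⟨[],[83],0⟩) (.leaf ⟨[],[84],0⟩)))) (.node 89 (.node 87 (.node 86 (.leaf ⟨[85],[],0⟩) (.leaf ⟨[],[86],0⟩)) (.node 88 (.leaf ⟨[87],[],0⟩) (.leaf ⟨[88],[],0⟩))) (.node 91 (.node 90 (.leaf ⟨[89],[],0⟩) (.leaf ⟨[90],[],0⟩)) (.node 92 (.leaf ⟨[],[91],0⟩) (.leaf ⟨[],[92],0⟩)))))) (.node 108 (.node 100 (.node 96 (.node 94 (.leaf ⟨[93],[],0⟩) (.node 95 (.leaf ⟨[94],[],0⟩) (.leaf ⟨[95],[],0⟩))) (.node 98 (.node 97 (.leaf ⟨[96],[],0⟩) (.leaf ⟨[],[97],0⟩)) (.node 99 (.leaf ⟨[98],[],0⟩) (.leaf ⟨[],[99],0⟩)))) (.node 104 (.node 102 (.node 101 (.leaf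 ⟨[],[100],0⟩) (.leaf ⟨[],[101],0⟩)) (.node 103 (.leaf ⟨[],[102],0⟩) (.leaf ⟨[103],[],0⟩))) (.node 106 (.node 105 (.leaf ⟨[104],[],0⟩) (.leaf ⟨[],[105],0⟩)) (.node 107 (.leaf ⟨[],[106],0⟩) (.leaf ⟨[],[107],0⟩))))) (.node 116 (.node 112 (.node 110 (.node 109 (.leaf ⟨[],[108],0⟩) (.leaf ⟨[109],[],0⟩)) (.node 111 (.leaf ⟨[],[110],0⟩) (.leaf ⟨[],[111],0⟩))) (.node 114 (.node 113 (.leaf ⟨[],[112],0⟩) (.leaf ⟨[113],[],0⟩)) (.node 115 (.leaf ⟨[],[114],0⟩) (.leaf ⟨[],[115],0⟩)))) (.node 120 (.node 118 (.node 117 (.leaf ⟨[116],[],0⟩) (.leaf ⟨[],[117],0⟩)) (.node 119 (.leaf ⟨[118],[],0⟩) (.leaf ⟨[119],[],0⟩))) (.node 122 (.node 121 (.leaf ⟨[],[208],0⟩) (.leaf ⟨[],[209],0⟩)) (.node 123 (.leaf ⟨[],[210],0⟩) (.leaf ⟨[],[211],0⟩)))))))) (.node 186 (.node 155 (.node 139 (.node 131 (.node 127 (.node 125 (.leaf ⟨[],[212],0⟩) (.node 126 (.leaf ⟨[],[213],0⟩) (.leaf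 ⟨[],[214],0⟩))) (.node 129 (.node 128 (.leaf ⟨[],[215],0⟩) (.leaf ⟨[200],[],0⟩)) (.node 130 (.leaf ⟨[201],[],0⟩) (.leaf ⟨[202],[],0⟩)))) (.node 135 (.node 133 (.node 132 (.leaf ⟨[203],[],0⟩) (.leaf ⟨[204],[],0⟩)) (.node 134 (.leaf ⟨[205],[],0⟩) (.leaf ⟨[206],[],0⟩))) (.node 137 (.node 136 (.leaf ⟨[207],[],0⟩) (.leaf ⟨[],[192],0⟩)) (.node 138 (.leaf ⟨[],[193],0⟩) (.leaf ⟨[],[194],0⟩))))) (.node 147 (.node 143 (.node 141 (.node 140 (.leaf ⟨[],[195],0⟩) (.leaf ⟨[],[196],0⟩)) (.node 142 (.leaf ⟨[],[197],0⟩) (.leaf ⟨[],[198],0⟩))) (.node 145 (.node 144 (.leaf ⟨[],[199],0⟩) (.leaf ⟨[184],[],0⟩)) (.node 146 (.leaf ⟨[185],[],0⟩) (.leaf ⟨[186],[],0⟩)))) (.node 151 (.node 149 (.node 148 (.leaf ⟨[187],[],0⟩) (.leaf ⟨[188],[],0⟩)) (.node 150 (.leaf ⟨[189],[],0⟩) (.leaf ⟨[190],[],0⟩))) (.node 153 (.node 152 (.leaf ⟨[191],[],0⟩) (.leaf ⟨[240],[],0⟩)) (.node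 154 (.leaf ⟨[241],[],0⟩) (.leaf ⟨[242],[],0⟩)))))) (.node 170 (.node 162 (.node 158 (.node 156 (.leaf ⟨[243],[],0⟩) (.node 157 (.leaf ⟨[244],[],0⟩) (.leaf ⟨[245],[],0⟩))) (.node 160 (.node 159 (.leaf ⟨[246],[],0⟩) (.leaf ⟨[247],[],0⟩)) (.node 161 (.leaf ⟨[],[232],0⟩) (.leaf ⟨[],[233],0⟩)))) (.node 166 (.node 164 (.node 163 (.leaf ⟨[],[234],0⟩) (.leaf ⟨[],[235],0⟩)) (.node 165 (.leaf ⟨[],[236],0⟩) (.leaf ⟨[],[237],0⟩))) (.node 168 (.node 167 (.leaf ⟨[],[238],0⟩) (.leaf ⟨[],[239],0⟩)) (.node 169 (.leaf ⟨[224],[],0⟩) (.leaf ⟨[225],[],0⟩))))) (.node 178 (.node 174 (.node 172 (.node 171 (.leaf ⟨[226],[],0⟩) (.leaf ⟨[227],[],0⟩)) (.node 173 (.leaf ⟨[228],[],0⟩) (.leaf ⟨[229],[],0⟩))) (.node 176 (.node 175 (.leaf ⟨[230],[],0⟩) (.leaf ⟨[231],[],0⟩)) (.node 177 (.leaf ⟨[],[216],0⟩) (.leaf ⟨[],[217],0⟩)))) (.node 182 (.node 180 (.node 179 (.leaf ⟨[],[218],0⟩)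 (.leaf ⟨[],[219],0⟩)) (.node 181 (.leaf ⟨[],[220],0⟩) (.leaf ⟨[],[221],0⟩))) (.node 184 (.node 183 (.leaf ⟨[],[222],0⟩) (.leaf ⟨[],[223],0⟩)) (.node 185 (.leaf ⟨[144],[],0⟩) (.leaf ⟨[145],[],0⟩))))))) (.node 217 (.node 201 (.node 193 (.node 189 (.node 187 (.leaf ⟨[146],[],0⟩) (.node 188 (.leaf ⟨[147],[],0⟩) (.leaf ⟨[148],[],0⟩))) (.node 191 (.node 190 (.leaf ⟨[149],[],0⟩) (.leaf ⟨[150],[],0⟩)) (.node 192 (.leaf ⟨[151],[],0⟩) (.leaf ⟨[],[136],0⟩)))) (.node 197 (.node 195 (.node 194 (.leaf ⟨[],[137],0⟩) (.leaf ⟨[],[138],0⟩)) (.node 196 (.leaf ⟨[],[139],0⟩) (.leaf ⟨[],[140],0⟩))) (.node 199 (.node 198 (.leaf ⟨[],[141],0⟩) (.leaf ⟨[],[142],0⟩)) (.node 200 (.leaf ⟨[],[143],0⟩) (.leaf ⟨[128],[],0⟩))))) (.node 209 (.node 205 (.node 203 (.node 202 (.leaf ⟨[129],[],0⟩) (.leaf ⟨[130],[],0⟩)) (.node 204 (.leaf ⟨[131],[],0⟩) (.leaf ⟨[132],[],0⟩))) (.node 207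 (.node 206 (.leaf ⟨[133],[],0⟩) (.leaf ⟨[134],[],0⟩)) (.node 208 (.leaf ⟨[135],[],0⟩) (.leaf ⟨[],[120],0⟩)))) (.node 213 (.node 211 (.node 210 (.leaf ⟨[],[121],0⟩) (.leaf ⟨[],[122],0⟩)) (.node 212 (.leaf ⟨[],[123],0⟩) (.leaf ⟨[],[124],0⟩))) (.node 215 (.node 214 (.leaf ⟨[],[125],0⟩) (.leaf ⟨[],[126],0⟩)) (.node 216 (.leaf ⟨[],[127],0⟩) (.leaf ⟨[],[176],0⟩)))))) (.node 232 (.node 224 (.node 220 (.node 218 (.leaf ⟨[],[177],0⟩) (.node 219 (.leaf ⟨[],[178],0⟩) (.leaf ⟨[],[179],0⟩))) (.node 222 (.node 221 (.leaf ⟨[],[180],0⟩) (.leaf ⟨[],[181],0⟩)) (.node 223 (.leaf ⟨[],[182],0⟩) (.leaf ⟨[],[183],0⟩)))) (.node 228 (.node 226 (.node 225 (.leaf ⟨[168],[],0⟩) (.leaf ⟨[169],[],0⟩)) (.node 227 (.leaf ⟨[170],[],0⟩) (.leaf ⟨[171],[],0⟩))) (.node 230 (.node 229 (.leaf ⟨[172],[],0⟩) (.leaf ⟨[173],[],0⟩)) (.node 231 (.leaf ⟨[174],[],0⟩) (.leaf ⟨[175],[],0⟩)))))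 (.node 240 (.node 236 (.node 234 (.node 233 (.leaf ⟨[],[160],0⟩) (.leaf ⟨[],[161],0⟩)) (.node 235 (.leaf ⟨[],[162],0⟩) (.leaf ⟨[],[163],0⟩))) (.node 238 (.node 237 (.leaf ⟨[],[164],0⟩) (.leaf ⟨[],[165],0⟩)) (.node 239 (.leaf ⟨[],[166],0⟩) (.leaf ⟨[],[167],0⟩)))) (.node 244 (.node 242 (.node 241 (.leaf ⟨[152],[],0⟩) (.leaf ⟨[153],[],0⟩)) (.node 243 (.leaf ⟨[154],[],0⟩) (.leaf ⟨[155],[],0⟩))) (.node 246 (.node 245 (.leaf ⟨[156],[],0⟩) (.leaf ⟨[157],[],0⟩)) (.node 247 (.leaf ⟨[158],[],0⟩) (.leaf ⟨[159],[],0⟩)))))))))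
noncomputable def xmg8 : BT Row := (.node 124 (.node 62 (.node 31 (.node 15 (.node 7 (.node 3 (.node 1 (.leaf ⟨[0],[],0⟩) (.node 2 (.leaf ⟨[1],[],0⟩) (.leaf ⟨[2],[],0⟩))) (.node 5 (.node 4 (.leaf ⟨[],[3],0⟩) (.leaf ⟨[4],[],0⟩)) (.node 6 (.leaf ⟨[5],[],0⟩) (.leaf ⟨[],[6],0⟩)))) (.node 11 (.node 9 (.node 8 (.leaf ⟨[7],[],0⟩) (.leaf ⟨[],[8],0⟩)) (.node 10 (.leaf ⟨[],[9],0⟩) (.leaf ⟨[10],[],0⟩))) (.node 13 (.node 12 (.leaf ⟨[11],[],0⟩) (.leaf ⟨[],[12],0⟩)) (.node 14 (.leaf ⟨[13],[],0⟩) (.leaf ⟨[],[14],0⟩))))) (.node 23 (.node 19 (.node 17 (.node 16 (.leaf ⟨[],[15],0⟩) (.leaf ⟨[16],[],0⟩)) (.node 18 (.leaf ⟨[],[17],0⟩) (.leaf ⟨[],[18],0⟩))) (.node 21 (.node 20 (.leaf ⟨[],[19],0⟩) (.leaf ⟨[20],[],0⟩)) (.node 22 (.leaf ⟨[21],[],0⟩) (.leaf ⟨[],[22],0⟩)))) (.node 27 (.node 25 (.node 24 (.leaf ⟨[23],[],0⟩) (.leaf ⟨[],[24],0⟩)) (.node 26 (.leaf ⟨[],[25],0⟩)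 (.leaf ⟨[26],[],0⟩))) (.node 29 (.node 28 (.leaf ⟨[],[27],0⟩) (.leaf ⟨[],[28],0⟩)) (.node 30 (.leaf ⟨[],[29],0⟩) (.leaf ⟨[30],[],0⟩)))))) (.node 46 (.node 38 (.node 34 (.node 32 (.leaf ⟨[],[31],0⟩) (.node 33 (.leaf ⟨[],[32],0⟩) (.leaf ⟨[],[33],0⟩))) (.node 36 (.node 35 (.leaf ⟨[],[34],0⟩) (.leaf ⟨[35],[],0⟩)) (.node 37 (.leaf ⟨[36],[],0⟩) (.leaf ⟨[37],[],0⟩)))) (.node 42 (.node 40 (.node 39 (.leaf ⟨[],[38],0⟩) (.leaf ⟨[39],[],0⟩)) (.node 41 (.leaf ⟨[],[40],0⟩) (.leaf ⟨[],[41],0⟩))) (.node 44 (.node 43 (.leaf ⟨[42],[],0⟩) (.leaf ⟨[],[43],0⟩)) (.node 45 (.leaf ⟨[],[44],0⟩) (.leaf ⟨[],[45],0⟩))))) (.node 54 (.node 50 (.node 48 (.node 47 (.leaf ⟨[46],[],0⟩) (.leaf ⟨[],[47],0⟩)) (.node 49 (.leaf ⟨[],[48],0⟩) (.leaf ⟨[],[49],0⟩))) (.node 52 (.node 51 (.leaf ⟨[],[50],0⟩) (.leaf ⟨[51],[],0⟩)) (.node 53 (.leaf ⟨[52],[],0⟩) (.leaf ⟨[],[53],0⟩)))) (.node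 58 (.node 56 (.node 55 (.leaf ⟨[],[54],0⟩) (.leaf ⟨[],[55],0⟩)) (.node 57 (.leaf ⟨[],[56],0⟩) (.leaf ⟨[57],[],0⟩))) (.node 60 (.node 59 (.leaf ⟨[],[58],0⟩) (.leaf ⟨[59],[],0⟩)) (.node 61 (.leaf ⟨[60],[],0⟩) (.leaf ⟨[61],[],0⟩))))))) (.node 93 (.node 77 (.node 69 (.node 65 (.node 63 (.leaf ⟨[62],[],0⟩) (.node 64 (.leaf ⟨[],[63],0⟩) (.leaf ⟨[],[64],0⟩))) (.node 67 (.node 66 (.leaf ⟨[],[65],0⟩) (.leaf ⟨[66],[],0⟩)) (.node 68 (.leaf ⟨[],[67],0⟩) (.leaf ⟨[68],[],0⟩)))) (.node 73 (.node 71 (.node 70 (.leaf ⟨[69],[],0⟩) (.leaf ⟨[],[70],0⟩)) (.node 72 (.leaf ⟨[71],[],0⟩) (.leaf ⟨[72],[],0⟩))) (.node 75 (.node 74 (.leaf ⟨[73],[],0⟩) (.leaf ⟨[],[74],0⟩)) (.node 76 (.leaf ⟨[75],[],0⟩) (.leaf ⟨[76],[],0⟩))))) (.node 85 (.node 81 (.node 79 (.node 78 (.leaf ⟨[77],[],0⟩) (.leaf ⟨[78],[],0⟩)) (.node 80 (.leaf ⟨[],[79],0⟩) (.leaf ⟨[],[80],0⟩))) (.node 83 (.node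 82 (.leaf ⟨[81],[],0⟩) (.leaf ⟨[82],[],0⟩)) (.node 84 (.leaf ⟨[83],[],0⟩) (.leaf ⟨[84],[],0⟩)))) (.node 89 (.node 87 (.node 86 (.leaf ⟨[],[85],0⟩) (.leaf ⟨[86],[],0⟩)) (.node 88 (.leaf ⟨[],[87],0⟩) (.leaf ⟨[],[88],0⟩))) (.node 91 (.node 90 (.leaf ⟨[],[89],0⟩) (.leaf ⟨[],[90],0⟩)) (.node 92 (.leaf ⟨[91],[],0⟩) (.leaf ⟨[],[92],0⟩)))))) (.node 108 (.node 100 (.node 96 (.node 94 (.leaf ⟨[93],[],0⟩) (.node 95 (.leaf ⟨[94],[],0⟩) (.leaf ⟨[95],[],0⟩))) (.node 98 (.node 97 (.leaf ⟨[96],[],0⟩) (.leaf ⟨[],[97],0⟩)) (.node 99 (.leaf ⟨[98],[],0⟩) (.leaf ⟨[],[99],0⟩)))) (.node 104 (.node 102 (.node 101 (.leaf ⟨[],[100],0⟩) (.leaf ⟨[],[101],0⟩)) (.node 103 (.leaf ⟨[],[102],0⟩) (.leaf ⟨[103],[],0⟩))) (.node 106 (.node 105 (.leaf ⟨[104],[],0⟩) (.leaf ⟨[],[105],0⟩)) (.node 107 (.leaf ⟨[],[106],0⟩) (.leaf ⟨[],[107],0⟩))))) (.node 116 (.node 112 (.node 110 (.node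 109 (.leaf ⟨[],[108],0⟩) (.leaf ⟨[109],[],0⟩)) (.node 111 (.leaf ⟨[],[110],0⟩) (.leaf ⟨[],[111],0⟩))) (.node 114 (.node 113 (.leaf ⟨[],[112],0⟩) (.leaf ⟨[113],[],0⟩)) (.node 115 (.leaf ⟨[],[114],0⟩) (.leaf ⟨[],[115],0⟩)))) (.node 120 (.node 118 (.node 117 (.leaf ⟨[116],[],0⟩) (.leaf ⟨[],[117],0⟩)) (.node 119 (.leaf ⟨[118],[],0⟩) (.leaf ⟨[119],[],0⟩))) (.node 122 (.node 121 (.leaf ⟨[],[232],0⟩) (.leaf ⟨[],[233],0⟩)) (.node 123 (.leaf ⟨[],[234],0⟩) (.leaf ⟨[],[235],0⟩)))))))) (.node 186 (.node 155 (.node 139 (.node 131 (.node 127 (.node 125 (.leaf ⟨[],[236],0⟩) (.node 126 (.leaf ⟨[],[237],0⟩) (.leaf ⟨[],[238],0⟩))) (.node 129 (.node 128 (.leaf ⟨[],[239],0⟩) (.leaf ⟨[240],[],0⟩)) (.node 130 (.leaf ⟨[241],[],0⟩) (.leaf ⟨[242],[],0⟩)))) (.node 135 (.node 133 (.node 132 (.leaf ⟨[243],[],0⟩) (.leaf ⟨[244],[],0⟩)) (.node 134 (.leaf ⟨[245],[],0⟩) (.leaf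 ⟨[246],[],0⟩))) (.node 137 (.node 136 (.leaf ⟨[247],[],0⟩) (.leaf ⟨[216],[],0⟩)) (.node 138 (.leaf ⟨[217],[],0⟩) (.leaf ⟨[218],[],0⟩))))) (.node 147 (.node 143 (.node 141 (.node 140 (.leaf ⟨[219],[],0⟩) (.leaf ⟨[220],[],0⟩)) (.node 142 (.leaf ⟨[221],[],0⟩) (.leaf ⟨[222],[],0⟩))) (.node 145 (.node 144 (.leaf ⟨[223],[],0⟩) (.leaf ⟨[],[224],0⟩)) (.node 146 (.leaf ⟨[],[225],0⟩) (.leaf ⟨[],[226],0⟩)))) (.node 151 (.node 149 (.node 148 (.leaf ⟨[],[227],0⟩) (.leaf ⟨[],[228],0⟩)) (.node 150 (.leaf ⟨[],[229],0⟩) (.leaf ⟨[],[230],0⟩))) (.node 153 (.node 152 (.leaf ⟨[],[231],0⟩) (.leaf ⟨[],[200],0⟩)) (.node 154 (.leaf ⟨[],[201],0⟩) (.leaf ⟨[],[202],0⟩)))))) (.node 170 (.node 162 (.node 158 (.node 156 (.leaf ⟨[],[203],0⟩) (.node 157 (.leaf ⟨[],[204],0⟩) (.leaf ⟨[],[205],0⟩))) (.node 160 (.node 159 (.leaf ⟨[],[206],0⟩) (.leaf ⟨[],[207],0⟩)) (.node 161 (.leaf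 ⟨[208],[],0⟩) (.leaf ⟨[209],[],0⟩)))) (.node 166 (.node 164 (.node 163 (.leaf ⟨[210],[],0⟩) (.leaf ⟨[211],[],0⟩)) (.node 165 (.leaf ⟨[212],[],0⟩) (.leaf ⟨[213],[],0⟩))) (.node 168 (.node 167 (.leaf ⟨[214],[],0⟩) (.leaf ⟨[215],[],0⟩)) (.node 169 (.leaf ⟨[184],[],0⟩) (.leaf ⟨[185],[],0⟩))))) (.node 178 (.node 174 (.node 172 (.node 171 (.leaf ⟨[186],[],0⟩) (.leaf ⟨[187],[],0⟩)) (.node 173 (.leaf ⟨[188],[],0⟩) (.leaf ⟨[189],[],0⟩))) (.node 176 (.node 175 (.leaf ⟨[190],[],0⟩) (.leaf ⟨[191],[],0⟩)) (.node 177 (.leaf ⟨[],[192],0⟩) (.leaf ⟨[],[193],0⟩)))) (.node 182 (.node 180 (.node 179 (.leaf ⟨[],[194],0⟩) (.leaf ⟨[],[195],0⟩)) (.node 181 (.leaf ⟨[],[196],0⟩) (.leaf ⟨[],[197],0⟩))) (.node 184 (.node 183 (.leaf ⟨[],[198],0⟩) (.leaf ⟨[],[199],0⟩)) (.node 185 (.leaf ⟨[168],[],0⟩) (.leaf ⟨[169],[],0⟩))))))) (.node 217 (.node 201 (.node 193 (.node 189 (.node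 187 (.leaf ⟨[170],[],0⟩) (.node 188 (.leaf ⟨[171],[],0⟩) (.leaf ⟨[172],[],0⟩))) (.node 191 (.node 190 (.leaf ⟨[173],[],0⟩) (.leaf ⟨[174],[],0⟩)) (.node 192 (.leaf ⟨[175],[],0⟩) (.leaf ⟨[],[176],0⟩)))) (.node 197 (.node 195 (.node 194 (.leaf ⟨[],[177],0⟩) (.leaf ⟨[],[178],0⟩)) (.node 196 (.leaf ⟨[],[179],0⟩) (.leaf ⟨[],[180],0⟩))) (.node 199 (.node 198 (.leaf ⟨[],[181],0⟩) (.leaf ⟨[],[182],0⟩)) (.node 200 (.leaf ⟨[],[183],0⟩) (.leaf ⟨[],[152],0⟩))))) (.node 209 (.node 205 (.node 203 (.node 202 (.leaf ⟨[],[153],0⟩) (.leaf ⟨[],[154],0⟩)) (.node 204 (.leaf ⟨[],[155],0⟩) (.leaf ⟨[],[156],0⟩))) (.node 207 (.node 206 (.leaf ⟨[],[157],0⟩) (.leaf ⟨[],[158],0⟩)) (.node 208 (.leaf ⟨[],[159],0⟩) (.leaf ⟨[160],[],0⟩)))) (.node 213 (.node 211 (.node 210 (.leaf ⟨[161],[],0⟩) (.leaf ⟨[162],[],0⟩)) (.node 212 (.leaf ⟨[163],[],0⟩) (.leaf ⟨[164],[],0⟩))) (.node 215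 (.node 214 (.leaf ⟨[165],[],0⟩) (.leaf ⟨[166],[],0⟩)) (.node 216 (.leaf ⟨[167],[],0⟩) (.leaf ⟨[136],[],0⟩)))))) (.node 232 (.node 224 (.node 220 (.node 218 (.leaf ⟨[137],[],0⟩) (.node 219 (.leaf ⟨[138],[],0⟩) (.leaf ⟨[139],[],0⟩))) (.node 222 (.node 221 (.leaf ⟨[140],[],0⟩) (.leaf ⟨[141],[],0⟩)) (.node 223 (.leaf ⟨[142],[],0⟩) (.leaf ⟨[143],[],0⟩)))) (.node 228 (.node 226 (.node 225 (.leaf ⟨[],[144],0⟩) (.leaf ⟨[],[145],0⟩)) (.node 227 (.leaf ⟨[],[146],0⟩) (.leaf ⟨[],[147],0⟩))) (.node 230 (.node 229 (.leaf ⟨[],[148],0⟩) (.leaf ⟨[],[149],0⟩)) (.node 231 (.leaf ⟨[],[150],0⟩) (.leaf ⟨[],[151],0⟩))))) (.node 240 (.node 236 (.node 234 (.node 233 (.leaf ⟨[],[120],0⟩) (.leaf ⟨[],[121],0⟩)) (.node 235 (.leaf ⟨[],[122],0⟩) (.leaf ⟨[],[123],0⟩))) (.node 238 (.node 237 (.leaf ⟨[],[124],0⟩) (.leaf ⟨[],[125],0⟩)) (.node 239 (.leaf ⟨[],[126],0⟩) (.leaf ⟨[],[127],0⟩))))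 (.node 244 (.node 242 (.node 241 (.leaf ⟨[128],[],0⟩) (.leaf ⟨[129],[],0⟩)) (.node 243 (.leaf ⟨[130],[],0⟩) (.leaf ⟨[131],[],0⟩))) (.node 246 (.node 245 (.leaf ⟨[132],[],0⟩) (.leaf ⟨[133],[],0⟩)) (.node 247 (.leaf ⟨[134],[],0⟩) (.leaf ⟨[135],[],0⟩)))))))))
noncomputable def xmu : BT Row := (.node 124 (.node 62 (.node 31 (.node 15 (.node 7 (.node 3 (.node 1 (.leaf ⟨[96],[],0⟩) (.node 2 (.leaf ⟨[97],[],0⟩) (.leaf ⟨[],[3],0⟩))) (.node 5 (.node 4 (.leaf ⟨[],[2],0⟩) (.leaf ⟨[101],[],0⟩)) (.node 6 (.leaf ⟨[14],[],0⟩) (.leaf ⟨[13],[],0⟩)))) (.node 11 (.node 9 (.node 8 (.leaf ⟨[11],[],0⟩) (.leaf ⟨[12],[],0⟩)) (.node 10 (.leaf ⟨[],[100],0⟩) (.leaf ⟨[],[95],0⟩))) (.node 13 (.node 12 (.leaf ⟨[7],[],0⟩) (.leaf ⟨[8],[],0⟩)) (.node 14 (.leaf ⟨[6],[],0⟩) (.leaf ⟨[5],[],0⟩))))) (.node 23 (.node 19 (.node 17 (.node 16 (.leaf ⟨[94],[],0⟩) (.leaf ⟨[],[17],0⟩)) (.node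 18 (.leaf ⟨[],[16],0⟩) (.leaf ⟨[98],[],0⟩))) (.node 21 (.node 20 (.leaf ⟨[99],[],0⟩) (.leaf ⟨[],[45],0⟩)) (.node 22 (.leaf ⟨[67],[],0⟩) (.leaf ⟨[68],[],0⟩)))) (.node 27 (.node 25 (.node 24 (.leaf ⟨[66],[],0⟩) (.leaf ⟨[65],[],0⟩)) (.node 26 (.leaf ⟨[44],[],0⟩) (.leaf ⟨[75],[],0⟩))) (.node 29 (.node 28 (.leaf ⟨[74],[],0⟩) (.leaf ⟨[],[50],0⟩)) (.node 30 (.leaf ⟨[],[51],0⟩) (.leaf ⟨[70],[],0⟩)))))) (.node 46 (.node 38 (.node 34 (.node 32 (.leaf ⟨[71],[],0⟩) (.node 33 (.leaf ⟨[36],[],0⟩) (.leaf ⟨[41],[],0⟩))) (.node 36 (.node 35 (.leaf ⟨[],[49],0⟩) (.leaf ⟨[48],[],0⟩)) (.node 37 (.leaf ⟨[],[32],0⟩) (.leaf ⟨[],[115],0⟩)))) (.node 42 (.node 40 (.node 39 (.leaf ⟨[],[116],0⟩) (.leaf ⟨[118],[],0⟩)) (.node 41 (.leaf ⟨[117],[],0⟩) (.leaf ⟨[],[33],0⟩))) (.node 44 (.node 43 (.leaf ⟨[],[109],0⟩) (.leaf ⟨[],[108],0⟩)) (.node 45 (.leaf ⟨[],[25],0⟩) (.leaf ⟨[20],[],0⟩)))))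 (.node 54 (.node 50 (.node 48 (.node 47 (.leaf ⟨[112],[],0⟩) (.leaf ⟨[113],[],0⟩)) (.node 49 (.leaf ⟨[],[35],0⟩) (.leaf ⟨[34],[],0⟩))) (.node 52 (.node 51 (.leaf ⟨[28],[],0⟩) (.leaf ⟨[29],[],0⟩)) (.node 53 (.leaf ⟨[62],[],0⟩) (.leaf ⟨[63],[],0⟩)))) (.node 58 (.node 56 (.node 55 (.leaf ⟨[],[87],0⟩) (.leaf ⟨[86],[],0⟩)) (.node 57 (.leaf ⟨[],[82],0⟩) (.leaf ⟨[],[83],0⟩))) (.node 60 (.node 59 (.leaf ⟨[],[88],0⟩) (.leaf ⟨[],[89],0⟩)) (.node 61 (.leaf ⟨[85],[],0⟩) (.leaf ⟨[],[84],0⟩))))))) (.node 93 (.node 77 (.node 69 (.node 65 (.node 63 (.leaf ⟨[52],[],0⟩) (.node 64 (.leaf ⟨[53],[],0⟩) (.leaf ⟨[107],[],0⟩))) (.node 67 (.node 66 (.leaf ⟨[24],[],0⟩) (.leaf ⟨[23],[],0⟩)) (.node 68 (.leaf ⟨[21],[],0⟩) (.leaf ⟨[22],[],0⟩)))) (.node 73 (.node 71 (.node 70 (.leaf ⟨[],[106],0⟩) (.leaf ⟨[30],[],0⟩)) (.node 72 (.leaf ⟨[31],[],0⟩) (.leaf ⟨[114],[],0⟩))) (.node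 75 (.node 74 (.leaf ⟨[119],[],0⟩) (.leaf ⟨[27],[],0⟩)) (.node 76 (.leaf ⟨[26],[],0⟩) (.leaf ⟨[],[104],0⟩))))) (.node 85 (.node 81 (.node 79 (.node 78 (.leaf ⟨[],[105],0⟩) (.leaf ⟨[111],[],0⟩)) (.node 80 (.leaf ⟨[],[110],0⟩) (.leaf ⟨[],[81],0⟩))) (.node 83 (.node 82 (.leaf ⟨[],[80],0⟩) (.leaf ⟨[56],[],0⟩)) (.node 84 (.leaf ⟨[57],[],0⟩) (.leaf ⟨[61],[],0⟩)))) (.node 89 (.node 87 (.node 86 (.leaf ⟨[],[60],0⟩) (.leaf ⟨[],[55],0⟩)) (.node 88 (.leaf ⟨[54],[],0⟩) (.leaf ⟨[58],[],0⟩))) (.node 91 (.node 90 (.leaf ⟨[59],[],0⟩) (.leaf ⟨[],[91],0⟩)) (.node 92 (.leaf ⟨[],[90],0⟩) (.leaf ⟨[],[103],0⟩)))))) (.node 108 (.node 100 (.node 96 (.node 94 (.leaf ⟨[],[102],0⟩) (.node 95 (.leaf ⟨[],[15],0⟩) (.leaf ⟨[10],[],0⟩))) (.node 98 (.node 97 (.leaf ⟨[],[0],0⟩) (.leaf ⟨[],[1],0⟩)) (.node 99 (.leaf ⟨[],[18],0⟩) (.leaf ⟨[],[19],0⟩)))) (.node 104 (.node 102 (.node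 101 (.leaf ⟨[9],[],0⟩) (.leaf ⟨[],[4],0⟩)) (.node 103 (.leaf ⟨[],[93],0⟩) (.leaf ⟨[],[92],0⟩))) (.node 106 (.node 105 (.leaf ⟨[76],[],0⟩) (.leaf ⟨[77],[],0⟩)) (.node 107 (.leaf ⟨[69],[],0⟩) (.leaf ⟨[],[64],0⟩))))) (.node 116 (.node 112 (.node 110 (.node 109 (.leaf ⟨[],[43],0⟩) (.leaf ⟨[],[42],0⟩)) (.node 111 (.leaf ⟨[79],[],0⟩) (.leaf ⟨[],[78],0⟩))) (.node 114 (.node 113 (.leaf ⟨[46],[],0⟩) (.leaf ⟨[47],[],0⟩)) (.node 115 (.leaf ⟨[],[72],0⟩) (.leaf ⟨[],[37],0⟩)))) (.node 120 (.node 118 (.node 117 (.leaf ⟨[],[38],0⟩) (.leaf ⟨[40],[],0⟩)) (.node 119 (.leaf ⟨[39],[],0⟩) (.leaf ⟨[],[73],0⟩))) (.node 122 (.node 121 (.leaf ⟨[169],[],0⟩) (.leaf ⟨[],[168],0⟩)) (.node 123 (.leaf ⟨[],[175],0⟩) (.leaf ⟨[],[174],0⟩)))))))) (.node 186 (.node 155 (.node 139 (.node 131 (.node 127 (.node 125 (.leaf ⟨[],[173],0⟩) (.node 126 (.leaf ⟨[172],[],0⟩) (.leaf ⟨[171],[],0⟩)))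 (.node 129 (.node 128 (.leaf ⟨[170],[],0⟩) (.leaf ⟨[],[177],0⟩)) (.node 130 (.leaf ⟨[176],[],0⟩) (.leaf ⟨[183],[],0⟩)))) (.node 135 (.node 133 (.node 132 (.leaf ⟨[182],[],0⟩) (.leaf ⟨[181],[],0⟩)) (.node 134 (.leaf ⟨[],[180],0⟩) (.leaf ⟨[],[179],0⟩))) (.node 137 (.node 136 (.leaf ⟨[],[178],0⟩) (.leaf ⟨[],[153],0⟩)) (.node 138 (.leaf ⟨[152],[],0⟩) (.leaf ⟨[159],[],0⟩))))) (.node 147 (.node 143 (.node 141 (.node 140 (.leaf ⟨[158],[],0⟩) (.leaf ⟨[157],[],0⟩)) (.node 142 (.leaf ⟨[],[156],0⟩) (.leaf ⟨[],[155],0⟩))) (.node 145 (.node 144 (.leaf ⟨[],[154],0⟩) (.leaf ⟨[],[161],0⟩)) (.node 146 (.leaf ⟨[160],[],0⟩) (.leaf ⟨[167],[],0⟩)))) (.node 151 (.node 149 (.node 148 (.leaf ⟨[166],[],0⟩) (.leaf ⟨[165],[],0⟩)) (.node 150 (.leaf ⟨[],[164],0⟩) (.leaf ⟨[],[163],0⟩))) (.node 153 (.node 152 (.leaf ⟨[],[162],0⟩) (.leaf ⟨[137],[],0⟩)) (.node 154 (.leaf ⟨[],[136],0⟩)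 (.leaf ⟨[],[143],0⟩)))))) (.node 170 (.node 162 (.node 158 (.node 156 (.leaf ⟨[],[142],0⟩) (.node 157 (.leaf ⟨[],[141],0⟩) (.leaf ⟨[140],[],0⟩))) (.node 160 (.node 159 (.leaf ⟨[139],[],0⟩) (.leaf ⟨[138],[],0⟩)) (.node 161 (.leaf ⟨[],[145],0⟩) (.leaf ⟨[144],[],0⟩)))) (.node 166 (.node 164 (.node 163 (.leaf ⟨[151],[],0⟩) (.leaf ⟨[150],[],0⟩)) (.node 165 (.leaf ⟨[149],[],0⟩) (.leaf ⟨[],[148],0⟩))) (.node 168 (.node 167 (.leaf ⟨[],[147],0⟩) (.leaf ⟨[],[146],0⟩)) (.node 169 (.leaf ⟨[121],[],0⟩) (.leaf ⟨[],[120],0⟩))))) (.node 178 (.node 174 (.node 172 (.node 171 (.leaf ⟨[],[127],0⟩) (.leaf ⟨[],[126],0⟩)) (.node 173 (.leaf ⟨[],[125],0⟩) (.leaf ⟨[124],[],0⟩))) (.node 176 (.node 175 (.leaf ⟨[123],[],0⟩) (.leaf ⟨[122],[],0⟩)) (.node 177 (.leaf ⟨[129],[],0⟩) (.leaf ⟨[],[128],0⟩)))) (.node 182 (.node 180 (.node 179 (.leaf ⟨[],[135],0⟩) (.leaf ⟨[],[134],0⟩))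 (.node 181 (.leaf ⟨[],[133],0⟩) (.leaf ⟨[132],[],0⟩))) (.node 184 (.node 183 (.leaf ⟨[131],[],0⟩) (.leaf ⟨[130],[],0⟩)) (.node 185 (.leaf ⟨[209],[],0⟩) (.leaf ⟨[],[208],0⟩))))))) (.node 217 (.node 201 (.node 193 (.node 189 (.node 187 (.leaf ⟨[],[215],0⟩) (.node 188 (.leaf ⟨[],[214],0⟩) (.leaf ⟨[],[213],0⟩))) (.node 191 (.node 190 (.leaf ⟨[212],[],0⟩) (.leaf ⟨[211],[],0⟩)) (.node 192 (.leaf ⟨[210],[],0⟩) (.leaf ⟨[201],[],0⟩)))) (.node 197 (.node 195 (.node 194 (.leaf ⟨[],[200],0⟩) (.leaf ⟨[],[207],0⟩)) (.node 196 (.leaf ⟨[],[206],0⟩) (.leaf ⟨[],[205],0⟩))) (.node 199 (.node 198 (.leaf ⟨[204],[],0⟩) (.leaf ⟨[203],[],0⟩)) (.node 200 (.leaf ⟨[202],[],0⟩) (.leaf ⟨[193],[],0⟩))))) (.node 209 (.node 205 (.node 203 (.node 202 (.leaf ⟨[],[192],0⟩) (.leaf ⟨[],[199],0⟩)) (.node 204 (.leaf ⟨[],[198],0⟩) (.leaf ⟨[],[197],0⟩))) (.node 207 (.node 206 (.leaf ⟨[196],[],0⟩)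 (.leaf ⟨[195],[],0⟩)) (.node 208 (.leaf ⟨[194],[],0⟩) (.leaf ⟨[],[185],0⟩)))) (.node 213 (.node 211 (.node 210 (.leaf ⟨[184],[],0⟩) (.leaf ⟨[191],[],0⟩)) (.node 212 (.leaf ⟨[190],[],0⟩) (.leaf ⟨[189],[],0⟩))) (.node 215 (.node 214 (.leaf ⟨[],[188],0⟩) (.leaf ⟨[],[187],0⟩)) (.node 216 (.leaf ⟨[],[186],0⟩) (.leaf ⟨[],[241],0⟩)))))) (.node 232 (.node 224 (.node 220 (.node 218 (.leaf ⟨[240],[],0⟩) (.node 219 (.leaf ⟨[247],[],0⟩) (.leaf ⟨[246],[],0⟩))) (.node 222 (.node 221 (.leaf ⟨[245],[],0⟩) (.leaf ⟨[],[244],0⟩)) (.node 223 (.leaf ⟨[],[243],0⟩) (.leaf ⟨[],[242],0⟩)))) (.node 228 (.node 226 (.node 225 (.leaf ⟨[],[233],0⟩) (.leaf ⟨[232],[],0⟩)) (.node 227 (.leaf ⟨[239],[],0⟩) (.leaf ⟨[238],[],0⟩))) (.node 230 (.node 229 (.leaf ⟨[237],[],0⟩) (.leaf ⟨[],[236],0⟩)) (.node 231 (.leaf ⟨[],[235],0⟩) (.leaf ⟨[],[234],0⟩))))) (.node 240 (.node 236 (.node 234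 (.node 233 (.leaf ⟨[225],[],0⟩) (.leaf ⟨[],[224],0⟩)) (.node 235 (.leaf ⟨[],[231],0⟩) (.leaf ⟨[],[230],0⟩))) (.node 238 (.node 237 (.leaf ⟨[],[229],0⟩) (.leaf ⟨[228],[],0⟩)) (.node 239 (.leaf ⟨[227],[],0⟩) (.leaf ⟨[226],[],0⟩)))) (.node 244 (.node 242 (.node 241 (.leaf ⟨[],[217],0⟩) (.leaf ⟨[216],[],0⟩)) (.node 243 (.leaf ⟨[223],[],0⟩) (.leaf ⟨[222],[],0⟩))) (.node 246 (.node 245 (.leaf ⟨[221],[],0⟩) (.leaf ⟨[],[220],0⟩)) (.node 247 (.leaf ⟨[],[219],0⟩) (.leaf ⟨[],[218],0⟩)))))))))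
noncomputable def xmui : BT Row := (.node 124 (.node 62 (.node 31 (.node 15 (.node 7 (.node 3 (.node 1 (.leaf ⟨[],[96],0⟩) (.node 2 (.leaf ⟨[],[97],0⟩) (.leaf ⟨[],[3],0⟩))) (.node 5 (.node 4 (.leaf ⟨[],[2],0⟩) (.leaf ⟨[],[101],0⟩)) (.node 6 (.leaf ⟨[14],[],0⟩) (.leaf ⟨[13],[],0⟩)))) (.node 11 (.node 9 (.node 8 (.leaf ⟨[11],[],0⟩) (.leaf ⟨[12],[],0⟩)) (.node 10 (.leaf ⟨[100],[],0⟩) (.leaf ⟨[95],[],0⟩))) (.node 13 (.node 12 (.leaf ⟨[7],[],0⟩) (.leaf ⟨[8],[],0⟩)) (.node 14 (.leaf ⟨[6],[],0⟩) (.leaf ⟨[5],[],0⟩))))) (.node 23 (.node 19 (.node 17 (.node 16 (.leaf ⟨[],[94],0⟩) (.leaf ⟨[],[17],0⟩)) (.node 18 (.leaf ⟨[],[16],0⟩) (.leaf ⟨[],[98],0⟩))) (.node 21 (.node 20 (.leaf ⟨[],[99],0⟩) (.leaf ⟨[45],[],0⟩)) (.node 22 (.leaf ⟨[67],[],0⟩) (.leaf ⟨[68],[],0⟩)))) (.node 27 (.node 25 (.node 24 (.leaf ⟨[66],[],0⟩) (.leaf ⟨[65],[],0⟩)) (.node 26 (.leaf ⟨[],[44],0⟩)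 (.leaf ⟨[75],[],0⟩))) (.node 29 (.node 28 (.leaf ⟨[74],[],0⟩) (.leaf ⟨[50],[],0⟩)) (.node 30 (.leaf ⟨[51],[],0⟩) (.leaf ⟨[70],[],0⟩)))))) (.node 46 (.node 38 (.node 34 (.node 32 (.leaf ⟨[71],[],0⟩) (.node 33 (.leaf ⟨[],[36],0⟩) (.leaf ⟨[],[41],0⟩))) (.node 36 (.node 35 (.leaf ⟨[49],[],0⟩) (.leaf ⟨[],[48],0⟩)) (.node 37 (.leaf ⟨[32],[],0⟩) (.leaf ⟨[],[115],0⟩)))) (.node 42 (.node 40 (.node 39 (.leaf ⟨[],[116],0⟩) (.leaf ⟨[118],[],0⟩)) (.node 41 (.leaf ⟨[117],[],0⟩) (.leaf ⟨[33],[],0⟩))) (.node 44 (.node 43 (.leaf ⟨[],[109],0⟩) (.leaf ⟨[],[108],0⟩)) (.node 45 (.leaf ⟨[25],[],0⟩) (.leaf ⟨[],[20],0⟩))))) (.node 54 (.node 50 (.node 48 (.node 47 (.leaf ⟨[112],[],0⟩) (.leaf ⟨[113],[],0⟩)) (.node 49 (.leaf ⟨[35],[],0⟩) (.leaf ⟨[],[34],0⟩))) (.node 52 (.node 51 (.leaf ⟨[],[28],0⟩) (.leaf ⟨[],[29],0⟩)) (.node 53 (.leaf ⟨[62],[],0⟩) (.leaf ⟨[63],[],0⟩))))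 (.node 58 (.node 56 (.node 55 (.leaf ⟨[87],[],0⟩) (.leaf ⟨[],[86],0⟩)) (.node 57 (.leaf ⟨[82],[],0⟩) (.leaf ⟨[83],[],0⟩))) (.node 60 (.node 59 (.leaf ⟨[88],[],0⟩) (.leaf ⟨[89],[],0⟩)) (.node 61 (.leaf ⟨[],[85],0⟩) (.leaf ⟨[84],[],0⟩))))))) (.node 93 (.node 77 (.node 69 (.node 65 (.node 63 (.leaf ⟨[52],[],0⟩) (.node 64 (.leaf ⟨[53],[],0⟩) (.leaf ⟨[],[107],0⟩))) (.node 67 (.node 66 (.leaf ⟨[24],[],0⟩) (.leaf ⟨[23],[],0⟩)) (.node 68 (.leaf ⟨[21],[],0⟩) (.leaf ⟨[22],[],0⟩)))) (.node 73 (.node 71 (.node 70 (.leaf ⟨[106],[],0⟩) (.leaf ⟨[30],[],0⟩)) (.node 72 (.leaf ⟨[31],[],0⟩) (.leaf ⟨[],[114],0⟩))) (.node 75 (.node 74 (.leaf ⟨[],[119],0⟩) (.leaf ⟨[27],[],0⟩)) (.node 76 (.leaf ⟨[26],[],0⟩) (.leaf ⟨[104],[],0⟩))))) (.node 85 (.node 81 (.node 79 (.node 78 (.leaf ⟨[105],[],0⟩) (.leaf ⟨[],[111],0⟩)) (.node 80 (.leaf ⟨[110],[],0⟩) (.leaf ⟨[],[81],0⟩))) (.node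 83 (.node 82 (.leaf ⟨[],[80],0⟩) (.leaf ⟨[],[56],0⟩)) (.node 84 (.leaf ⟨[],[57],0⟩) (.leaf ⟨[],[61],0⟩)))) (.node 89 (.node 87 (.node 86 (.leaf ⟨[60],[],0⟩) (.leaf ⟨[55],[],0⟩)) (.node 88 (.leaf ⟨[],[54],0⟩) (.leaf ⟨[],[58],0⟩))) (.node 91 (.node 90 (.leaf ⟨[],[59],0⟩) (.leaf ⟨[],[91],0⟩)) (.node 92 (.leaf ⟨[],[90],0⟩) (.leaf ⟨[],[103],0⟩)))))) (.node 108 (.node 100 (.node 96 (.node 94 (.leaf ⟨[],[102],0⟩) (.node 95 (.leaf ⟨[15],[],0⟩) (.leaf ⟨[],[10],0⟩))) (.node 98 (.node 97 (.leaf ⟨[0],[],0⟩) (.leaf ⟨[1],[],0⟩)) (.node 99 (.leaf ⟨[18],[],0⟩) (.leaf ⟨[19],[],0⟩)))) (.node 104 (.node 102 (.node 101 (.leaf ⟨[],[9],0⟩) (.leaf ⟨[4],[],0⟩)) (.node 103 (.leaf ⟨[],[93],0⟩) (.leaf ⟨[],[92],0⟩))) (.node 106 (.node 105 (.leaf ⟨[],[76],0⟩) (.leaf ⟨[],[77],0⟩)) (.node 107 (.leaf ⟨[],[69],0⟩) (.leaf ⟨[64],[],0⟩))))) (.node 116 (.node 112 (.node 110 (.node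 109 (.leaf ⟨[],[43],0⟩) (.leaf ⟨[],[42],0⟩)) (.node 111 (.leaf ⟨[],[79],0⟩) (.leaf ⟨[78],[],0⟩))) (.node 114 (.node 113 (.leaf ⟨[46],[],0⟩) (.leaf ⟨[47],[],0⟩)) (.node 115 (.leaf ⟨[72],[],0⟩) (.leaf ⟨[],[37],0⟩)))) (.node 120 (.node 118 (.node 117 (.leaf ⟨[],[38],0⟩) (.leaf ⟨[40],[],0⟩)) (.node 119 (.leaf ⟨[39],[],0⟩) (.leaf ⟨[73],[],0⟩))) (.node 122 (.node 121 (.leaf ⟨[],[169],0⟩) (.leaf ⟨[168],[],0⟩)) (.node 123 (.leaf ⟨[175],[],0⟩) (.leaf ⟨[174],[],0⟩)))))))) (.node 186 (.node 155 (.node 139 (.node 131 (.node 127 (.node 125 (.leaf ⟨[173],[],0⟩) (.node 126 (.leaf ⟨[],[172],0⟩) (.leaf ⟨[],[171],0⟩))) (.node 129 (.node 128 (.leaf ⟨[],[170],0⟩) (.leaf ⟨[],[177],0⟩)) (.node 130 (.leaf ⟨[176],[],0⟩) (.leaf ⟨[183],[],0⟩)))) (.node 135 (.node 133 (.node 132 (.leaf ⟨[182],[],0⟩) (.leaf ⟨[181],[],0⟩)) (.node 134 (.leaf ⟨[],[180],0⟩) (.leaf ⟨[],[179],0⟩)))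 (.node 137 (.node 136 (.leaf ⟨[],[178],0⟩) (.leaf ⟨[],[153],0⟩)) (.node 138 (.leaf ⟨[152],[],0⟩) (.leaf ⟨[159],[],0⟩))))) (.node 147 (.node 143 (.node 141 (.node 140 (.leaf ⟨[158],[],0⟩) (.leaf ⟨[157],[],0⟩)) (.node 142 (.leaf ⟨[],[156],0⟩) (.leaf ⟨[],[155],0⟩))) (.node 145 (.node 144 (.leaf ⟨[],[154],0⟩) (.leaf ⟨[161],[],0⟩)) (.node 146 (.leaf ⟨[],[160],0⟩) (.leaf ⟨[],[167],0⟩)))) (.node 151 (.node 149 (.node 148 (.leaf ⟨[],[166],0⟩) (.leaf ⟨[],[165],0⟩)) (.node 150 (.leaf ⟨[164],[],0⟩) (.leaf ⟨[163],[],0⟩))) (.node 153 (.node 152 (.leaf ⟨[162],[],0⟩) (.leaf ⟨[137],[],0⟩)) (.node 154 (.leaf ⟨[],[136],0⟩) (.leaf ⟨[],[143],0⟩)))))) (.node 170 (.node 162 (.node 158 (.node 156 (.leaf ⟨[],[142],0⟩) (.node 157 (.leaf ⟨[],[141],0⟩) (.leaf ⟨[140],[],0⟩))) (.node 160 (.node 159 (.leaf ⟨[139],[],0⟩) (.leaf ⟨[138],[],0⟩)) (.node 161 (.leaf ⟨[145],[],0⟩)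 (.leaf ⟨[],[144],0⟩)))) (.node 166 (.node 164 (.node 163 (.leaf ⟨[],[151],0⟩) (.leaf ⟨[],[150],0⟩)) (.node 165 (.leaf ⟨[],[149],0⟩) (.leaf ⟨[148],[],0⟩))) (.node 168 (.node 167 (.leaf ⟨[147],[],0⟩) (.leaf ⟨[146],[],0⟩)) (.node 169 (.leaf ⟨[],[121],0⟩) (.leaf ⟨[120],[],0⟩))))) (.node 178 (.node 174 (.node 172 (.node 171 (.leaf ⟨[127],[],0⟩) (.leaf ⟨[126],[],0⟩)) (.node 173 (.leaf ⟨[125],[],0⟩) (.leaf ⟨[],[124],0⟩))) (.node 176 (.node 175 (.leaf ⟨[],[123],0⟩) (.leaf ⟨[],[122],0⟩)) (.node 177 (.leaf ⟨[129],[],0⟩) (.leaf ⟨[],[128],0⟩)))) (.node 182 (.node 180 (.node 179 (.leaf ⟨[],[135],0⟩) (.leaf ⟨[],[134],0⟩)) (.node 181 (.leaf ⟨[],[133],0⟩) (.leaf ⟨[132],[],0⟩))) (.node 184 (.node 183 (.leaf ⟨[131],[],0⟩) (.leaf ⟨[130],[],0⟩)) (.node 185 (.leaf ⟨[209],[],0⟩) (.leaf ⟨[],[208],0⟩))))))) (.node 217 (.node 201 (.node 193 (.node 189 (.node 187 (.leaf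 ⟨[],[215],0⟩) (.node 188 (.leaf ⟨[],[214],0⟩) (.leaf ⟨[],[213],0⟩))) (.node 191 (.node 190 (.leaf ⟨[212],[],0⟩) (.leaf ⟨[211],[],0⟩)) (.node 192 (.leaf ⟨[210],[],0⟩) (.leaf ⟨[],[201],0⟩)))) (.node 197 (.node 195 (.node 194 (.leaf ⟨[200],[],0⟩) (.leaf ⟨[207],[],0⟩)) (.node 196 (.leaf ⟨[206],[],0⟩) (.leaf ⟨[205],[],0⟩))) (.node 199 (.node 198 (.leaf ⟨[],[204],0⟩) (.leaf ⟨[],[203],0⟩)) (.node 200 (.leaf ⟨[],[202],0⟩) (.leaf ⟨[],[193],0⟩))))) (.node 209 (.node 205 (.node 203 (.node 202 (.leaf ⟨[192],[],0⟩) (.leaf ⟨[199],[],0⟩)) (.node 204 (.leaf ⟨[198],[],0⟩) (.leaf ⟨[197],[],0⟩))) (.node 207 (.node 206 (.leaf ⟨[],[196],0⟩) (.leaf ⟨[],[195],0⟩)) (.node 208 (.leaf ⟨[],[194],0⟩) (.leaf ⟨[],[185],0⟩)))) (.node 213 (.node 211 (.node 210 (.leaf ⟨[184],[],0⟩) (.leaf ⟨[191],[],0⟩)) (.node 212 (.leaf ⟨[190],[],0⟩) (.leaf ⟨[189],[],0⟩))) (.node 215 (.node 214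 (.leaf ⟨[],[188],0⟩) (.leaf ⟨[],[187],0⟩)) (.node 216 (.leaf ⟨[],[186],0⟩) (.leaf ⟨[241],[],0⟩)))))) (.node 232 (.node 224 (.node 220 (.node 218 (.leaf ⟨[],[240],0⟩) (.node 219 (.leaf ⟨[],[247],0⟩) (.leaf ⟨[],[246],0⟩))) (.node 222 (.node 221 (.leaf ⟨[],[245],0⟩) (.leaf ⟨[244],[],0⟩)) (.node 223 (.leaf ⟨[243],[],0⟩) (.leaf ⟨[242],[],0⟩)))) (.node 228 (.node 226 (.node 225 (.leaf ⟨[],[233],0⟩) (.leaf ⟨[232],[],0⟩)) (.node 227 (.leaf ⟨[239],[],0⟩) (.leaf ⟨[238],[],0⟩))) (.node 230 (.node 229 (.leaf ⟨[237],[],0⟩) (.leaf ⟨[],[236],0⟩)) (.node 231 (.leaf ⟨[],[235],0⟩) (.leaf ⟨[],[234],0⟩))))) (.node 240 (.node 236 (.node 234 (.node 233 (.leaf ⟨[225],[],0⟩) (.leaf ⟨[],[224],0⟩)) (.node 235 (.leaf ⟨[],[231],0⟩) (.leaf ⟨[],[230],0⟩))) (.node 238 (.node 237 (.leaf ⟨[],[229],0⟩) (.leaf ⟨[228],[],0⟩)) (.node 239 (.leaf ⟨[227],[],0⟩) (.leaf ⟨[226],[],0⟩))))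 (.node 244 (.node 242 (.node 241 (.leaf ⟨[217],[],0⟩) (.leaf ⟨[],[216],0⟩)) (.node 243 (.leaf ⟨[],[223],0⟩) (.leaf ⟨[],[222],0⟩))) (.node 246 (.node 245 (.leaf ⟨[],[221],0⟩) (.leaf ⟨[220],[],0⟩)) (.node 247 (.leaf ⟨[219],[],0⟩) (.leaf ⟨[218],[],0⟩)))))))))
noncomputable def As : List (BT Row) := [xma, xma, xmc, xmc, xmd, xmd, xme, xme, xms, xmsi, xmt, xmti, xmf, xmf, xmg2, xmg2, xmg3, xmg3, xmg4, xmg4, xmg5, xmg5, xmg6, xmg6, xmg7, xmg7, xmg8, xmg8]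
noncomputable def As1 : List (BT Row) := As ++ [xmu, xmui]
theorem wf1 : wfB As1 = true := by decide +kernel
theorem diag0 : diagB (nth dA As1 0) = true := by decide +kernel
theorem inv0 : invB As1 0 = true := by decide +kernel
theorem inv1 : invB As1 1 = true := by decide +kernel
theorem inv2 : invB As1 2 = true := by decide +kernel
theorem inv3 : invB As1 3 = true := by decide +kernel
theorem inv4 : invB As1 4 = true := by decide +kernel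
theorem inv5 : invB As1 5 = true := by decide +kernel
theorem inv6 : invB As1 6 = true := by decide +kernel
theorem inv7 : invB As1 7 = true := by decide +kernel
theorem inv8 : invB As1 8 = true := by decide +kernel
theorem inv9 : invB As1 9 = true := by decide +kernel
theorem inv10 : invB As1 10 = true := by decide +kernel
theorem inv11 : invB As1 11 = true := by decide +kernel
theorem inv12 : invB As1 12 = true := by decide +kernel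
theorem inv13 : invB As1 13 = true := by decide +kernel
theorem inv14 : invB As1 14 = true := by decide +kernel
theorem inv_all : ∀ j < 15, invB As1 j = true := by
  intro j hj
  interval_cases j
  exacts [inv0, inv1, inv2, inv3, inv4, inv5, inv6, inv7, inv8, inv9, inv10, inv11, inv12, inv13, inv14]

end Cfsg.Agent.ThO
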