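import Cfsg.Agent.ThO.Rep
import Cfsg.Agent.ThO.Gen

set_option autoImplicit false
set_option Elab.async false
set_option maxRecDepth 100000
set_option linter.all false

namespace Cfsg.Agent.ThO
open Cfsg.Agent.CGT

noncomputable def WX : List (List ℕ) := [[0], [2], [4], [6], [8], [10], [12], [8, 6, 4, 6, 8, 11, 2, 4, 6, 0, 2, 4, 6, 8, 10, 12], [6, 13, 8, 6, 4, 6, 8, 10, 4, 6, 2, 4, 6, 0, 2, 4, 6, 8, 10], [12, 10, 8, 11, 6, 4, 6, 8, 11, 8, 6, 4, 6, 8, 10, 4], [4, 8, 11, 8, 11, 6, 4, 6, 8, 10, 6, 4, 6, 8, 10, 6, 4, 6, 8], [10, 6, 4, 6, 2, 4, 6, 0, 2, 4, 6, 8, 11, 13, 4], [11, 2, 4, 6, 0, 2, 4, 6, 8, 10, 12, 0], [13, 10, 10, 8, 11, 6, 4, 6, 8, 11, 6, 4, 6, 0], [11, 6, 4, 6, 8, 10], [11, 6, 8, 10, 8, 10, 4, 6, 2, 4, 6, 4], [11, 6, 4, 6, 8, 10, 8, 10, 4, 6, 8, 2], [11, 0, 2, 4, 6, 8, 11, 12,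 11, 4, 6, 2, 0], [13, 10, 6, 8, 11, 8, 0, 2, 4, 6, 2, 4, 0], [12, 11, 6, 8, 10, 2, 4, 6, 8, 10, 4, 0], [8, 11, 11, 6, 2, 4, 6, 8, 11, 8, 2, 4], [10, 12, 4, 6, 8, 10, 4, 6, 8, 11, 2, 4, 6, 8, 6], [4, 6, 8, 11, 11, 6, 8, 11, 0, 2, 4, 6, 4], [13, 11, 8, 11, 2, 4, 6, 8, 10, 13, 0, 2, 4, 0, 2], [11, 13, 8, 4, 6, 0, 2, 4, 6, 2, 4, 2]]
noncomputable def WC : List (List ℕ) := [[0], [4], [6], [8], [10], [12], [14]]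
noncomputable def WP : List (List ℕ) := [[0], [4], [6], [8], [10], [12]]
noncomputable def WD : List (List ℕ) := [[0], [2], [4], [6], [8], [14]]
noncomputable def LW0 : List (List ℕ) := [[0], [4], [8], [12], [2, 0, 4, 2], [10, 10, 8, 11, 11], [6, 4, 6]]
noncomputable def TW0 : List (List ℕ) := [[0], [4], [8], [13], [8, 2, 4, 0, 2], [10, 10, 8, 11, 11], [6, 4, 6, 2, 4, 6, 0, 2, 4, 6, 8, 6, 4, 6, 2, 4, 0, 2]]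
noncomputable def LL : List (List ℕ) := [[0], [2], [4], [6], [4, 12, 8, 4, 12, 10, 6, 10], [4, 12, 8, 4, 12, 10, 7, 10, 8], [7, 10, 12, 6, 10, 12, 10, 6, 4, 2], [8, 12, 8, 4, 12, 6, 10, 8, 7, 4, 0]]
noncomputable def R0 : List (List (List ℕ)) := [[[5, 1, 6], [6, 8], [5, 1, 6], [6, 8]], [[5, 1, 6, 3, 5, 1, 2, 7], [6, 3, 0, 4, 2, 5, 9, 7], [5, 1, 6, 3, 5, 1, 2, 9], [5, 1, 7]], [[5, 1, 11], [5, 1, 11], [5, 1, 0, 4, 11]], [[10, 10, 6, 11, 11], [10, 10, 6, 11, 11], [10, 10, 6, 11, 11], [9, 7, 5, 6, 8, 10, 10, 10, 9, 7, 5, 6, 8, 11, 7, 5, 6, 5, 1, 6, 11, 11]], [[10], [10, 4, 0], [10]], [[11], [11], [11]], [[10, 6], [8, 11, 6, 8, 11, 13, 4, 6, 8, 11, 4, 6, 8, 11, 11, 4, 6, 8, 0], [10, 6, 8, 11]], [[6], [10, 12, 8, 6, 4, 6, 8, 11, 8, 6, 4, 6, 8, 11, 6, 8], [6, 4, 0], [13, 11, 8, 4, 6, 4, 6, 8,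 10, 6, 8, 6, 4, 6]], [[6], [8, 10, 6, 8, 10, 4, 6, 8, 10, 4, 6, 8, 11, 6, 4, 6, 0], [6, 4, 0], [11, 4, 6, 8, 11, 4, 6, 8, 10, 12, 4, 6, 8, 10, 4, 6, 8, 6, 0]], [[11, 6], [10, 8, 10, 6, 8, 10, 4, 6, 8, 10, 4, 6, 8, 10, 13, 6, 4, 6, 8], [6, 4, 0], [6, 8, 11, 4, 6, 8, 10, 12, 4, 6, 8, 4]], [[11, 6], [8, 11, 6, 8, 11, 8, 4, 6, 4, 6, 8, 11, 6, 8, 10, 4, 6, 8, 4, 6, 4], [6, 4, 0], [11, 4, 6, 8, 11, 6, 4, 6, 8, 11, 4, 6, 4, 6, 8, 10, 13, 6]], [[2], [8, 2], [2, 4, 0], [8, 4, 0, 2]], [[2], [], [2, 4, 0], [8, 2, 4, 0, 2]], [[6], [8, 2, 4, 6, 4, 6, 2, 4, 6, 4], [2, 4, 0], [8, 6, 0, 2, 4, 6, 2, 4, 0, 2]], [[6], [6, 4, 6, 8, 2, 4, 6, 4, 6, 2, 4, 6, 4, 2], [2, 4, 0], [8, 4, 6, 2, 4, 6, 8, 2, 4, 6, 0, 2, 4, 6, 8, 0]], [[6, 2], [0, 2, 4, 6, 2, 4, 6, 8, 2, 4, 6, 4, 0, 2], [6, 2, 4, 0], [2, 4, 6, 8, 2, 4,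 6, 2, 4, 6, 2]], [[6, 2], [4, 0], [6, 2, 4, 0], []], [[], [5, 1]]]
noncomputable def NW : List (List ℕ) := [[], [15], [15, 7, 15], [15, 3, 10, 15], [15, 3, 7, 15], [15, 3, 7, 10, 15], [15, 3, 7, 11, 15], [15, 7, 15, 3, 7, 15], [15, 3, 12, 10, 8, 11, 6, 4, 6, 8, 11, 8, 6, 4, 6, 8, 10, 4, 10, 12, 10, 8, 11, 6, 4, 6, 8, 11, 8, 6, 4, 6, 8, 10, 4, 10, 15, 3, 10, 15], [15, 3, 1, 7, 5, 7, 10, 9, 7, 5, 7, 10, 9, 11, 11, 12, 3, 7, 10, 13, 10, 6, 8, 11, 8, 0, 2, 4, 6, 2, 4, 0, 15, 3, 10, 15], [15, 7, 15, 3, 7, 10, 15]]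
noncomputable def alw : List (List ℕ) := [[], [0, 1, 10], [0]]
noncomputable def Z (xs : List (List ℕ)) : List ℕ := xs.flatMap fun x => 14 :: x
noncomputable def inC (w : List ℕ) : Bool := beqL (expand (dbl WC) (w.map fun a => if a < 2 then a else a - 2)) w
noncomputable def memC (w : List ℕ) : Bool := inC w && (fun v => wordIn [0, 2, 4, 6, 8, 10, 12] v && fixN lc_ns 0 v)
  (w.map fun a => if a < 2 then a else a - 2)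
noncomputable def memD (w : List ℕ) : Bool := (fun v => beqL (expand (dbl WD) v) w &&
  (wordIn [0, 2, 4, 6, 8, 10] v && fixN ld_ns 0 v)) (w.map fun a => if a < 10 then a else a - 4)
noncomputable def q2 (u v : List ℕ) : Bool := (fun w => (memC w || memD w) && isOne As1 (expand (dbl Wb) w)) (u ++ invW v)

end Cfsg.Agent.ThO
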