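import Cfsg.Agent.ThO.Mats
import Cfsg.Prelude.Def_Spor_Th

set_option autoImplicit false
set_option Elab.async false
set_option maxRecDepth 100000
set_option linter.all false

namespace Cfsg.Agent.ThO
open Cfsg.Agent.CGT

noncomputable def gens : List Cfsg.Spor.Th.Gen := [.a, .b, .c, .d, .e, .s, .t, .u]
theorem gens_all : ∀ x, x ∈ gens := by intro x; cases x <;> decide
theorem gens_nodup : gens.Nodup := by decide
/-- the generators -/
noncomputable abbrev δ : ℕ → Cfsg.Spor.Th := pγ gens Cfsg.Spor.Th.edges Cfsg.Spor.Th.extra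
noncomputable def DR : List (List ℕ) := [[0, 0], [2, 2], [4, 4], [6, 6], [8, 8], [0, 2, 0, 2, 0, 2], [0, 8, 0, 8], [2, 4, 2, 4, 2, 4], [2, 6, 2, 6], [2, 8, 2, 8], [0, 7, 5, 7, 5, 7, 5, 7, 5], [4, 8, 4, 8], [6, 8, 6, 8, 6, 8], [2, 4, 6, 8, 2, 4, 6, 8, 2, 4, 6, 8, 2, 4, 6, 8, 2, 4, 6, 8, 2, 4, 6, 8, 2, 4, 6, 8, 2, 4, 6, 8], [10, 10, 10, 10, 10, 10, 10], [11, 1, 10, 0], [11, 3, 10, 2], [11, 5, 10, 4], [10, 6, 10, 6], [9, 11, 8, 11, 11, 9, 10, 10, 10], [12, 12, 12], [13, 1, 12, 0], [13, 3, 12, 2], [13, 5, 12, 4], [13, 7, 12, 6], [13, 9, 12, 8], [13, 10, 12, 11, 11], [14, 14, 5, 1], [15, 1, 14, 0], [15, 5, 14, 4], [15, 9, 14, 8], [6, 8, 15, 6, 14, 6, 8, 15, 6, 14], [15, 3, 5, 1, 2, 14, 3, 0, 4, 2, 9], [7, 15, 6, 3, 5, 1, 2, 7, 14, 6, 3, 0, 4, 2, 5, 9, 7, 15, 6, 3, 5, 1, 2, 9, 15], [15, 12, 14, 12], [9, 11, 11, 15, 10, 10, 8, 11, 11, 14, 10, 10], [0, 4, 11, 15, 11, 15, 11, 15], [0, 4, 11, 15, 10, 14, 11, 15, 10, 14, 11, 15, 10, 14, 11, 15, 10, 14], [6, 11, 11, 14, 10, 10, 6, 11, 11, 14, 10, 10, 6, 11,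 11, 14, 10, 10, 6, 11, 11, 14, 9, 7, 5, 6, 8, 10, 10, 10, 9, 7, 5, 6, 8, 11, 7, 5, 6, 5, 1]]
theorem DR_eq : defR gens Cfsg.Spor.Th.edges Cfsg.Spor.Th.extra = DR := by decide +kernel
theorem hD : Holds (ext δ) DR := DR_eq ▸ pres_holds gens_all _ _
/-- the generators as words in the matrices -/
noncomputable def Wb : List (List ℕ) := [[0], [2, 4, 12, 4, 12, 4, 12, 4, 2], [2], [4], [6], [8], [10], [28]]
/-- the matrices as words in the generators -/
noncomputable def WK : List (List ℕ) := [[0], [4], [6], [8], [10], [12], [2, 0, 4, 2], [6, 4, 7], [8, 6, 4, 7, 9], [10, 8, 6, 4, 7, 9, 11], [11, 8, 6, 4, 7, 9, 10], [8, 10, 8, 6, 4, 7, 9, 11, 9], [10, 10, 8, 6, 4, 7, 9, 11, 11], [12, 10, 8, 6, 4, 7, 9, 11, 13]]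
theorem rel0 : isOne As1 (expand (dbl Wb) (nth [] DR 0)) = true := by decide +kernel
theorem rel1 : isOne As1 (expand (dbl Wb) (nth [] DR 1)) = true := by decide +kernel
theorem rel2 : isOne As1 (expand (dbl Wb) (nth [] DR 2)) = true := by decide +kernel
theorem rel3 : isOne As1 (expand (dbl Wb) (nth [] DR 3)) = true := by decide +kernel
theorem rel4 : isOne As1 (expand (dbl Wb) (nth [] DR 4)) = true := by decide +kernel
theorem rel5 : isOne As1 (expand (dbl Wb) (nth [] DR 5)) = true := by decide +kernel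
theorem rel6 : isOne As1 (expand (dbl Wb) (nth [] DR 6)) = true := by decide +kernel
theorem rel7 : isOne As1 (expand (dbl Wb) (nth [] DR 7)) = true := by decide +kernel
theorem rel8 : isOne As1 (expand (dbl Wb) (nth [] DR 8)) = true := by decide +kernel
theorem rel9 : isOne As1 (expand (dbl Wb) (nth [] DR 9)) = true := by decide +kernel
theorem rel10 : isOne As1 (expand (dbl Wb) (nth [] DR 10)) = true := by decide +kernel
theorem rel11 : isOne As1 (expand (dbl Wb) (nth [] DR 11)) = true := by decide +kernel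
theorem rel12 : isOne As1 (expand (dbl Wb) (nth [] DR 12)) = true := by decide +kernel
theorem rel13 : isOne As1 (expand (dbl Wb) (nth [] DR 13)) = true := by decide +kernel
theorem rel14 : isOne As1 (expand (dbl Wb) (nth [] DR 14)) = true := by decide +kernel
theorem rel15 : isOne As1 (expand (dbl Wb) (nth [] DR 15)) = true := by decide +kernel
theorem rel16 : isOne As1 (expand (dbl Wb) (nth [] DR 16)) = true := by decide +kernel
theorem rel17 : isOne As1 (expand (dbl Wb) (nth [] DR 17)) = true := by decide +kernel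
theorem rel18 : isOne As1 (expand (dbl Wb) (nth [] DR 18)) = true := by decide +kernel
theorem rel19 : isOne As1 (expand (dbl Wb) (nth [] DR 19)) = true := by decide +kernel
theorem rel20 : isOne As1 (expand (dbl Wb) (nth [] DR 20)) = true := by decide +kernel
theorem rel21 : isOne As1 (expand (dbl Wb) (nth [] DR 21)) = true := by decide +kernel
theorem rel22 : isOne As1 (expand (dbl Wb) (nth [] DR 22)) = true := by decide +kernel
theorem rel23 : isOne As1 (expand (dbl Wb) (nth [] DR 23)) = true := by decide +kernel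
theorem rel24 : isOne As1 (expand (dbl Wb) (nth [] DR 24)) = true := by decide +kernel
theorem rel25 : isOne As1 (expand (dbl Wb) (nth [] DR 25)) = true := by decide +kernel
theorem rel26 : isOne As1 (expand (dbl Wb) (nth [] DR 26)) = true := by decide +kernel
theorem rel27 : isOne As1 (expand (dbl Wb) (nth [] DR 27)) = true := by decide +kernel
theorem rel28 : isOne As1 (expand (dbl Wb) (nth [] DR 28)) = true := by decide +kernel
theorem rel29 : isOne As1 (expand (dbl Wb) (nth [] DR 29)) = true := by decide +kernel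
theorem rel30 : isOne As1 (expand (dbl Wb) (nth [] DR 30)) = true := by decide +kernel
theorem rel31 : isOne As1 (expand (dbl Wb) (nth [] DR 31)) = true := by decide +kernel
theorem rel32 : isOne As1 (expand (dbl Wb) (nth [] DR 32)) = true := by decide +kernel
theorem rel33 : isOne As1 (expand (dbl Wb) (nth [] DR 33)) = true := by decide +kernel
theorem rel34 : isOne As1 (expand (dbl Wb) (nth [] DR 34)) = true := by decide +kernel
theorem rel35 : isOne As1 (expand (dbl Wb) (nth [] DR 35)) = true := by decide +kernel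
theorem rel36 : isOne As1 (expand (dbl Wb) (nth [] DR 36)) = true := by decide +kernel
theorem rel37 : isOne As1 (expand (dbl Wb) (nth [] DR 37)) = true := by decide +kernel
theorem rel38 : isOne As1 (expand (dbl Wb) (nth [] DR 38)) = true := by decide +kernel
theorem rel_all : ∀ j < 39, isOne As1 (expand (dbl Wb) (nth [] DR j)) = true := by
  intro j hj
  interval_cases j
  exacts [rel0, rel1, rel2, rel3, rel4, rel5, rel6, rel7, rel8, rel9, rel10, rel11, rel12, rel13, rel14, rel15, rel16, rel17, rel18, rel19, rel20, rel21, rel22, rel23, rel24, rel25, rel26, rel27, rel28, rel29, rel30, rel31, rel32, rel33, rel34, rel35, rel36, rel37, rel38]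
theorem der0 : isOne As1 (1 :: expand (dbl Wb) (nth [] WK 0)) = true := by decide +kernel
theorem der1 : isOne As1 (3 :: expand (dbl Wb) (nth [] WK 1)) = true := by decide +kernel
theorem der2 : isOne As1 (5 :: expand (dbl Wb) (nth [] WK 2)) = true := by decide +kernel
theorem der3 : isOne As1 (7 :: expand (dbl Wb) (nth [] WK 3)) = true := by decide +kernel
theorem der4 : isOne As1 (9 :: expand (dbl Wb) (nth [] WK 4)) = true := by decide +kernel
theorem der5 : isOne As1 (11 :: expand (dbl Wb) (nth [] WK 5)) = true := by decide +kernel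
theorem der6 : isOne As1 (13 :: expand (dbl Wb) (nth [] WK 6)) = true := by decide +kernel
theorem der7 : isOne As1 (15 :: expand (dbl Wb) (nth [] WK 7)) = true := by decide +kernel
theorem der8 : isOne As1 (17 :: expand (dbl Wb) (nth [] WK 8)) = true := by decide +kernel
theorem der9 : isOne As1 (19 :: expand (dbl Wb) (nth [] WK 9)) = true := by decide +kernel
theorem der10 : isOne As1 (21 :: expand (dbl Wb) (nth [] WK 10)) = true := by decide +kernel
theorem der11 : isOne As1 (23 :: expand (dbl Wb) (nth [] WK 11)) = true := by decide +kernel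
theorem der12 : isOne As1 (25 :: expand (dbl Wb) (nth [] WK 12)) = true := by decide +kernel
theorem der13 : isOne As1 (27 :: expand (dbl Wb) (nth [] WK 13)) = true := by decide +kernel
theorem der_all : ∀ j < 14, isOne As1 ((2 * j + 1) :: expand (dbl Wb) (nth [] WK j)) = true := by
  intro j hj
  interval_cases j
  exacts [der0, der1, der2, der3, der4, der5, der6, der7, der8, der9, der10, der11, der12, der13]

end Cfsg.Agent.ThO
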