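import Cfsg.Agent.ThO.Rels

set_option autoImplicit false
set_option maxRecDepth 100000

namespace Cfsg.Agent.ThO
open Cfsg.Agent.CGT

/-- The representation of degree 248. -/
theorem rep : ∃ ρ : Cfsg.Spor.Th →* MMˣ, (∀ g, ρ g ∈ Orth) ∧ (∀ j, ρ (δ j) = wg (un As1) Wb j) ∧
    (∀ j < 14, ρ (wg δ WK j) = un As1 j) := by
  obtain ⟨h1, h2⟩ := un_spec wf1 (m := 15) rfl inv_all
  obtain ⟨ρ, hρ⟩ := pres_lift gens_all gens_nodup (edges := Cfsg.Spor.Th.edges)
    (extra := Cfsg.Spor.Th.extra) (p := wg (un As1) Wb)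
    (fun j hj => by rw [wg, nth_eq, List.getD_eq_default _ _ (show Wb.length ≤ j from hj)]; rfl) (by
      rw [DR_eq]
      intro r hr
      obtain ⟨i, hi, rfl⟩ := List.getElem_of_mem hr
      have := isOne_un h1 (rel_all i hi)
      rwa [ev_expand_dbl, nth_eq, List.getD_eq_getElem _ _ hi] at this)
  have hw : ∀ w, ρ (ev (ext δ) w) = ev (ext (wg (un As1) Wb)) w := fun w => by
    rw [map_ev]; congr 1; funext a; rw [map_ext]; congr 1; exact funext hρ
  refine ⟨ρ, fun g => ?_, hρ, fun j hj => ?_⟩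
  · have : gp δ [0, 2, 4, 6, 8, 10, 12, 14] ≤ Orth.comap ρ := gp_le fun a _ => ext_mem (by
      rw [Subgroup.mem_comap, hρ]
      exact ev_mem _ _ _ fun b _ => ext_mem (h2 _))
    exact this (pres_gen gens_all _ _ (L := [0, 2, 4, 6, 8, 10, 12, 14]) (by decide +kernel) ▸ Subgroup.mem_top g)
  · have := isOne_un h1 (der_all j hj)
    rw [ev_cons, ext_two_mul_add_one, inv_mul_eq_one, ev_expand_dbl] at this
    rw [wg, hw, this]

end Cfsg.Agent.ThO
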