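import Cfsg.Agent.ThO.Vec

set_option autoImplicit false
set_option maxRecDepth 10000

/-! Orthogonal matrices, and a quadratic invariant evaluated on many vectors. -/

namespace Cfsg.Agent.ThO

open Cfsg.Agent.CGT Cfsg.Agent.PM Matrix

noncomputable def cntL (a : ℕ) (l : List ℕ) : ℕ :=
  List.rec 0 (fun b _ ih => Bool.rec ih (Nat.succ ih) (Nat.beq b a)) l

theorem cntL_eq (a : ℕ) (l : List ℕ) : cntL a l = l.count a := by
  induction l with
  | nil => rfl
  | cons b l ih =>
    show (Bool.rec (cntL a l) (Nat.succ (cntL a l)) (Nat.beq b a) : ℕ) = _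
    rw [List.count_cons, ih]
    cases h : Nat.beq b a
    · have := Nat.ne_of_beq_eq_false h
      simp [this]
    · simp [Nat.eq_of_beq_eq_true h]

noncomputable def trB (A A' : BT Row) : Bool := allLt 248 fun i => (fun r : Row =>
  allL r.pos (fun j => (fun r' : Row => Nat.beq (cntL i r'.pos) (cntL j r.pos) && Nat.beq r'.m r.m)
    (gt A' j)) &&
  allL r.neg (fun j => (fun r' : Row => Nat.beq (cntL i r'.neg) (cntL j r.neg) && Nat.beq r'.m r.m)
    (gt A' j))) (gt A i)

theorem trB_sound {A A' : BT Row} (h : trB A A' = true) (h' : trB A' A = true) :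
    mat A' = (mat A)ᵀ := by
  simp only [trB, allLt_iff, Bool.and_eq_true, allL_iff, Nat.beq_eq, cntL_eq] at h h'
  ext i j
  have h1 := h j j.2
  have h2 := h' i i.2
  rw [transpose_apply, mat, mat]
  have e1 : (gt A' i).pos.count (j : ℕ) = (gt A j).pos.count (i : ℕ) := by
    by_cases c1 : (i : ℕ) ∈ (gt A j).pos
    · exact (h1.1 _ c1).1
    · by_cases c2 : (j : ℕ) ∈ (gt A' i).pos
      · exact (h2.1 _ c2).1.symm
      · rw [List.count_eq_zero.2 c1, List.count_eq_zero.2 c2]
  have e2 : (gt A' i).neg.count (j : ℕ) = (gt A j).neg.count (i : ℕ) := by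
    by_cases c1 : (i : ℕ) ∈ (gt A j).neg
    · exact (h1.2 _ c1).1
    · by_cases c2 : (j : ℕ) ∈ (gt A' i).neg
      · exact (h2.2 _ c2).1.symm
      · rw [List.count_eq_zero.2 c1, List.count_eq_zero.2 c2]
  rw [e1, e2]
  by_cases c1 : (i : ℕ) ∈ (gt A j).pos
  · rw [(h1.1 _ c1).2]
  · by_cases c2 : (i : ℕ) ∈ (gt A j).neg
    · rw [(h1.2 _ c2).2]
    · rw [List.count_eq_zero.2 c1, List.count_eq_zero.2 c2, sub_self, zero_mul, zero_mul]

/-- The orthogonal matrices. -/
def Orth : Subgroup MMˣ where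
  carrier := {u | (u : MM)ᵀ = (u⁻¹ : MMˣ)}
  one_mem' := by simp
  mul_mem' := fun {a b} ha hb => by
    have ha' : (a : MM)ᵀ = (a⁻¹ : MMˣ) := ha
    have hb' : (b : MM)ᵀ = (b⁻¹ : MMˣ) := hb
    show ((a * b : MMˣ) : MM)ᵀ = ((a * b)⁻¹ : MMˣ)
    rw [Units.val_mul, transpose_mul, ha', hb', _root_.mul_inv_rev, Units.val_mul]
  inv_mem' := fun {a} ha => by
    have ha' : (a : MM)ᵀ = (a⁻¹ : MMˣ) := ha
    show ((a⁻¹ : MMˣ) : MM)ᵀ = ((a⁻¹)⁻¹ : MMˣ)
    rw [← ha', transpose_transpose, inv_inv]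

theorem Orth.dot {u : MMˣ} (hu : u ∈ Orth) (x y : V) :
    ((u : MM) *ᵥ x) ⬝ᵥ ((u : MM) *ᵥ y) = x ⬝ᵥ y := by
  have hu' : (u : MM)ᵀ = (u⁻¹ : MMˣ) := hu
  rw [dotProduct_mulVec, ← mulVec_transpose, hu', mulVec_mulVec, Units.inv_mul, one_mulVec]

noncomputable def mt (As : List (BT Row)) (a : ℕ) : MM := mat (nth dA As a)

noncomputable def wfB (As : List (BT Row)) : Bool := allL As fun A => allT A wfR

theorem lets_mt {As : List (BT Row)} (h : wfB As = true) : Lets (mt As) As :=
  fun _ ha => ⟨allL_iff.1 h _ (FT.nth_mem _ ha), rfl⟩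

open Classical in
/-- The generators as invertible matrices. -/
noncomputable def un (As : List (BT Row)) (j : ℕ) : MMˣ :=
  if h : 2 * j < As.length ∧ mt As (2 * j + 1) * mt As (2 * j) = 1 then
    ⟨mt As (2 * j), mt As (2 * j + 1), mul_eq_one_comm.1 h.2, h.2⟩ else 1

noncomputable def invB (As : List (BT Row)) (j : ℕ) : Bool :=
  trB (nth dA As (Nat.mul 2 j)) (nth dA As (Nat.succ (Nat.mul 2 j))) &&
    (trB (nth dA As (Nat.succ (Nat.mul 2 j))) (nth dA As (Nat.mul 2 j)) &&
      isOne As [Nat.succ (Nat.mul 2 j), Nat.mul 2 j])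

theorem un_of_le {As : List (BT Row)} {j : ℕ} (h : As.length ≤ 2 * j) : un As j = 1 :=
  dif_neg fun h' => by omega

theorem un_spec {As : List (BT Row)} (h : wfB As = true) {m : ℕ} (hl : As.length = 2 * m)
    (hi : ∀ j < m, invB As j = true) :
    Lets (fun a => ((ext (un As) a : MMˣ) : MM)) As ∧ ∀ j, un As j ∈ Orth := by
  have key : ∀ j < m, (un As j : MM) = mt As (2 * j) ∧ ((un As j)⁻¹ : MMˣ) = mt As (2 * j + 1) ∧
      mt As (2 * j + 1) = (mt As (2 * j))ᵀ := fun j hj => by
    have h1 := hi j hj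
    simp only [invB, Bool.and_eq_true] at h1
    have h2 := isOne_sound (lets_mt h) h1.2.2
    rw [ev_cons, ev_singleton] at h2
    have h3 : 2 * j < As.length ∧ mt As (2 * j + 1) * mt As (2 * j) = 1 := ⟨by omega, h2⟩
    rw [un, dif_pos h3]
    exact ⟨rfl, rfl, trB_sound h1.1 h1.2.1⟩
  refine ⟨fun a ha => ⟨(lets_mt h a ha).1, ?_⟩, fun j => ?_⟩
  · obtain ⟨j, rfl | rfl⟩ := Nat.even_or_odd' a
    · simp only [ext_two_mul]; exact (key j (by omega)).1
    · simp only [ext_two_mul_add_one]; exact (key j (by omega)).2.1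
  · by_cases hj : j < m
    · obtain ⟨h1, h2, h3⟩ := key j hj
      show (un As j : MM)ᵀ = ((un As j)⁻¹ : MMˣ)
      rw [h1, h2, h3]
    · rw [un_of_le (by omega)]; exact Orth.one_mem

theorem ev_val (U : ℕ → MMˣ) (w : List ℕ) : ((ev U w : MMˣ) : MM) = ev (fun a => (U a : MM)) w :=
  map_ev U (Units.coeHom MM) w

theorem isOne_un {U : ℕ → MMˣ} {As : List (BT Row)} (hg : Lets (fun a => (U a : MM)) As) {w : List ℕ}
    (h : isOne As w = true) : ev U w = 1 := Units.ext ((ev_val U w).trans (isOne_sound hg h))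

/-! ### The invariant -/

def Φ (z : V) : R := ∑ i : Fin 248, if (i : ℕ) < 120 then z i * z i else 0

noncomputable def diagB (A : BT Row) : Bool := allLt 248 fun i => (fun r : Row => Nat.beq r.m 0 &&
  Bool.rec (beqL r.pos [] && beqL r.neg [i]) (beqL r.pos [i] && beqL r.neg []) (Nat.blt i 120)) (gt A i)

theorem diagB_sound {A : BT Row} (h : diagB A = true) :
    mat A = diagonal fun i : Fin 248 => if (i : ℕ) < 120 then 1 else -1 := by
  ext i j
  have h1 := allLt_iff.1 h i i.2
  simp only [Bool.and_eq_true, Nat.beq_eq] at h1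
  rw [mat, h1.1, Nat.sub_zero, two_pow_31, mul_one, diagonal_apply]
  have h2 := h1.2
  by_cases hi : (i : ℕ) < 120
  · have h3 : Nat.blt i 120 = true := by rw [Nat.blt_eq]; exact hi
    rw [h3, Bool.and_eq_true] at h2
    rw [beqL_sound h2.1, beqL_sound h2.2, if_pos hi]
    by_cases e : i = j
    · simp [e]
    · have : (i : ℕ) ≠ j := fun h => e (Fin.ext h)
      simp [e, this]
  · have h3 : Nat.blt i 120 = false := by rw [← Bool.not_eq_true, Nat.blt_eq]; exact hi
    rw [h3, Bool.and_eq_true] at h2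
    rw [beqL_sound h2.1, beqL_sound h2.2, if_neg hi]
    by_cases e : i = j
    · simp [e]
    · have : (i : ℕ) ≠ j := fun h => e (Fin.ext h)
      simp [e, this]

theorem Φ_inv {a u : MMˣ} (ha : (a : MM) = diagonal fun i : Fin 248 => if (i : ℕ) < 120 then 1 else -1)
    (hu : u ∈ Orth) (hc : a * u = u * a) (z : V) : Φ ((u : MM) *ᵥ z) = Φ z := by
  have key : ∀ z : V, 2 * Φ z = z ⬝ᵥ z + z ⬝ᵥ ((a : MM) *ᵥ z) := fun z => by
    rw [ha, Φ, dotProduct, dotProduct, Finset.mul_sum, ← Finset.sum_add_distrib]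
    refine Finset.sum_congr rfl fun i _ => ?_
    rw [mulVec_diagonal]
    split_ifs <;> ring
  have h1 := key ((u : MM) *ᵥ z)
  rw [mulVec_mulVec, ← Units.val_mul, hc, Units.val_mul, ← mulVec_mulVec, Orth.dot hu, Orth.dot hu,
    ← key] at h1
  have h2 := two_pow_31
  linear_combination (2 ^ 30) * h1 - (Φ ((u : MM) *ᵥ z) - Φ z) * h2

noncomputable def val (X : BT ℕ) (k : ℕ) : ℕ :=
  Nat.mod (Nat.rec 0 (fun i ih => (fun x => Nat.add (Nat.mul x x) ih)
    (field 48 281474976710655 (gt X i) k)) 120) 2147483647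

theorem field_dg (T k : ℕ) : field 48 281474976710655 T k = dg (2 ^ 48) T k := by
  rw [dg, ← pow_mul, ← Nat.and_two_pow_sub_one_eq_mod, ← Nat.shiftRight_eq_div_pow, mul_comm]; rfl

theorem val_eq {n : ℕ} {X : BT ℕ} {v : ℕ → V} (hX : VS n X v) {k : ℕ} (hk : k < n) :
    val X k = (Φ (v k)).val := by
  have e : ∀ m : ℕ, (Nat.rec 0 (fun i ih => (fun x => Nat.add (Nat.mul x x) ih)
      (field 48 281474976710655 (gt X i) k)) m : ℕ) =
      ∑ i ∈ Finset.range m, dg (2 ^ 48) (gt X i) k * dg (2 ^ 48) (gt X i) k := fun m => by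
    induction m with
    | zero => rfl
    | succ m ih => rw [Finset.sum_range_succ, ← ih, ← field_dg]; exact add_comm _ _
  have h1 : Φ (v k) = ((∑ i ∈ Finset.range 120, dg (2 ^ 48) (gt X i) k * dg (2 ^ 48) (gt X i) k : ℕ) : R) := by
    rw [Φ, Nat.cast_sum]
    have h2 : ∀ i : Fin 248, (if (i : ℕ) < 120 then v k i * v k i else 0) =
        (fun i : ℕ => if i < 120 then
          ((dg (2 ^ 48) (gt X i) k * dg (2 ^ 48) (gt X i) k : ℕ) : R) else 0) i := fun i => by
      simp only [Nat.cast_mul, (hX i k).2.2 hk]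
    rw [Finset.sum_congr rfl fun i _ => h2 i, Fin.sum_univ_eq_sum_range
      (fun i : ℕ => if i < 120 then
          ((dg (2 ^ 48) (gt X i) k * dg (2 ^ 48) (gt X i) k : ℕ) : R) else 0) 248, ← Finset.sum_filter]
    congr 1
  rw [h1, ZMod.val_natCast, ← e]; rfl

/-! ### Families of vectors -/

section
variable {M : Type*} [Monoid M]

def stg (g : ℕ → M) (hs : List M) (ws : List (List ℕ)) : List M :=
  ws.flatMap fun w => hs.map (ev g w * ·)

def prg (g : ℕ → M) (ps : List (List (List (List ℕ)))) : List M :=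
  ps.flatMap fun ss => ss.foldl (stg g) [1]

theorem map_prg {N F : Type*} [Monoid N] [FunLike F M N] [MonoidHomClass F M N] (f : F) (g : ℕ → M)
    (ps : List (List (List (List ℕ)))) : (prg g ps).map f = prg (fun a => f (g a)) ps := by
  have key : ∀ (ss : List (List (List ℕ))) (hs : List M),
      (ss.foldl (stg g) hs).map f = ss.foldl (stg fun a => f (g a)) (hs.map f) := fun ss => by
    induction ss with
    | nil => exact fun _ => rfl
    | cons ws ss ih =>
      intro hs
      rw [List.foldl_cons, List.foldl_cons, ih]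
      congr 1
      simp [stg, List.map_flatMap, map_ev, Function.comp_def]
  simp [prg, List.map_flatMap, key]

end

def Bt (x : V) (hs : List MM) (X : BT ℕ) : Prop := VS hs.length X fun k => hs.getD k 1 *ᵥ x

theorem VS.congr {n : ℕ} {X : BT ℕ} {v v' : ℕ → V} (h : VS n X v) (e : ∀ k < n, v k = v' k) :
    VS n X v' := fun i k => ⟨(h i k).1, (h i k).2.1, fun hk => ((h i k).2.2 hk).trans (congrFun (e k hk) i)⟩

theorem dg_shl (n Y k : ℕ) :
    dg (2 ^ 48) (Y <<< (48 * n)) k = if k < n then 0 else dg (2 ^ 48) Y (k - n) := by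
  rw [Nat.shiftLeft_eq, pow_mul]
  induction n generalizing k with
  | zero => simp
  | succ n ih =>
    have := dg_cons (X := 2 ^ 48) (r := 0) (by positivity) (Y * (2 ^ 48) ^ n)
    rw [zero_add, mul_left_comm, ← pow_succ'] at this
    rcases k with _ | k
    · rw [this.1]; simp
    · rw [this.2, ih]; simp

noncomputable def catT (n : ℕ) (X Y : BT ℕ) (k : BT ℕ → Bool) : Bool :=
  mapK sk (fun i k => lt' (Nat.add (gt X i) (Nat.shiftLeft (gt Y i) (Nat.mul 48 n))) k) k

theorem catT_sound {x : V} {hs hs' : List MM} {X Y : BT ℕ} (hX : Bt x hs X) (hY : Bt x hs' Y)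
    {k : BT ℕ → Bool} (h : catT hs.length X Y k = true) : ∃ Z, k Z = true ∧ Bt x (hs ++ hs') Z := by
  obtain ⟨Z, h1, h2⟩ := mapK_sound h (fun i => gt X i + gt Y i <<< (48 * hs.length)) (fun _ _ => rfl)
  refine ⟨Z, h1, fun i l => ?_⟩
  have b : ∀ l, dg (2 ^ 48) (gt X i) l + dg (2 ^ 48) (gt Y i <<< (48 * hs.length)) l < 2 ^ 33 := fun l => by
    rw [dg_shl]
    split_ifs with hl
    · exact (hX i l).1
    · rw [(hX i l).2.1 (by omega), zero_add]; exact (hY i _).1
  rw [h2, gt_sk, dg_add fun l => (b l).trans (by norm_num), List.length_append]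
  refine ⟨b l, fun hl => ?_, fun hl => ?_⟩
  · rw [dg_shl, if_neg (by omega), (hX i l).2.1 (by omega), (hY i _).2.1 (by omega)]
  · rw [dg_shl]
    split_ifs with hl'
    · rw [add_zero, (hX i l).2.2 hl']
      simp only [List.getD_append _ _ _ _ hl']
    · rw [(hX i l).2.1 (by omega), zero_add, (hY i _).2.2 (by omega)]
      simp only [List.getD_append_right _ _ _ _ (not_lt.1 hl')]

theorem Bt.app {g : ℕ → MM} {As : List (BT Row)} (hg : Lets g As) {x : V} {hs : List MM} {X : BT ℕ}
    (hX : Bt x hs X) {w : List ℕ} {k : BT ℕ → Bool} (h : appW As hs.length w X k = true) :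
    ∃ Y, k Y = true ∧ Bt x (hs.map (ev g w * ·)) Y := by
  obtain ⟨Y, h1, h2⟩ := appW_sound hg h hX
  refine ⟨Y, h1, ?_⟩
  rw [Bt, List.length_map]
  refine h2.congr fun l hl => ?_
  rw [mulVec_mulVec, List.getD_eq_getElem _ _ hl, List.getD_eq_getElem _ _ (by simpa using hl),
    List.getElem_map]

noncomputable def stgK (As : List (BT Row)) (n : ℕ) (X : BT ℕ) (ws : List (List ℕ))
    (k : ℕ → BT ℕ → Bool) : Bool :=
  List.rec (motive := fun _ => (ℕ → BT ℕ → Bool) → Bool) (fun k => k 0 (.leaf 0))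
    (fun w _ ih k => appW As n w X fun Y => ih fun m Z => catT n Y Z fun T =>
      lt' (Nat.add n m) fun l => k l T) ws k

theorem stgK_sound {g : ℕ → MM} {As : List (BT Row)} (hg : Lets g As) {x : V} {hs : List MM}
    {X : BT ℕ} (hX : Bt x hs X) {ws : List (List ℕ)} {k : ℕ → BT ℕ → Bool}
    (h : stgK As hs.length X ws k = true) :
    ∃ Y, k (stg g hs ws).length Y = true ∧ Bt x (stg g hs ws) Y := by
  induction ws generalizing k with
  | nil =>
    refine ⟨_, h, fun i l => ?_⟩
    have : dg (2 ^ 48) (gt (.leaf 0) i) l = 0 := dg_of_zero _ _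
    rw [this]
    exact ⟨by norm_num, fun _ => rfl, fun hl => absurd hl (Nat.not_lt_zero _)⟩
  | cons w ws ih =>
    obtain ⟨Y, h1, h2⟩ := hX.app hg h
    obtain ⟨Z, h3, h4⟩ := ih h1
    obtain ⟨T, h5, h6⟩ := catT_sound h2 h4 (by rw [List.length_map]; exact h3)
    refine ⟨T, ?_, h6⟩
    rw [stg, List.flatMap_cons, List.length_append, List.length_map]
    exact h5

noncomputable def brnK (As : List (BT Row)) (ss : List (List (List ℕ))) (k : ℕ → BT ℕ → Bool)
    (n : ℕ) (X : BT ℕ) : Bool :=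
  List.rec (motive := fun _ => ℕ → BT ℕ → Bool) k (fun ws _ ih n X => stgK As n X ws ih) ss n X

theorem brnK_sound {g : ℕ → MM} {As : List (BT Row)} (hg : Lets g As) {x : V}
    {ss : List (List (List ℕ))} {k : ℕ → BT ℕ → Bool} {hs : List MM} {X : BT ℕ} (hX : Bt x hs X)
    (h : brnK As ss k hs.length X = true) :
    ∃ Y, k (ss.foldl (stg g) hs).length Y = true ∧ Bt x (ss.foldl (stg g) hs) Y := by
  induction ss generalizing hs X with
  | nil => exact ⟨X, h, hX⟩
  | cons ws ss ih =>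
    obtain ⟨Y, h1, h2⟩ := stgK_sound hg hX h
    exact ih h2 h1

noncomputable def prgK (As : List (BT Row)) (tst : ℕ → ℕ → Bool) (ps : List (List (List (List ℕ))))
    (X : BT ℕ) (o : ℕ) : Bool :=
  List.rec (motive := fun _ => ℕ → Bool) (fun _ => true)
    (fun ss _ ih o => brnK As ss (fun n Y => (allLt n fun k => tst (Nat.add o k) (val Y k)) &&
      lt' (Nat.add o n) ih) 1 X) ps o

theorem prgK_sound {g : ℕ → MM} {As : List (BT Row)} (hg : Lets g As) {x : V} {tst : ℕ → ℕ → Bool}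
    {ps : List (List (List (List ℕ)))} {X : BT ℕ} (hX : Bt x [1] X) {o : ℕ}
    (h : prgK As tst ps X o = true) :
    ∀ i < (prg g ps).length, tst (o + i) (Φ ((prg g ps).getD i 1 *ᵥ x)).val = true := by
  induction ps generalizing o with
  | nil => exact fun i hi => absurd hi (Nat.not_lt_zero _)
  | cons ss ps ih =>
    obtain ⟨Y, h1, h2⟩ := brnK_sound hg hX h
    rw [Bool.and_eq_true, allLt_iff] at h1
    intro i hi
    have e : prg g (ss :: ps) = ss.foldl (stg g) [1] ++ prg g ps := rfl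
    rw [e] at hi ⊢
    by_cases hl : i < (ss.foldl (stg g) [1]).length
    · rw [List.getD_append _ _ _ _ hl, ← val_eq h2 hl]; exact h1.1 i hl
    · rw [List.getD_append_right _ _ _ _ (not_lt.1 hl)]
      rw [List.length_append] at hi
      have := ih h1.2 (i - (ss.foldl (stg g) [1]).length) (by omega)
      rwa [show Nat.add o (ss.foldl (stg g) [1]).length + (i - (ss.foldl (stg g) [1]).length) = o + i by
        show o + _ + _ = _; omega] at this

/-- The vector with the given coordinates. -/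
noncomputable def vec (X : BT ℕ) : V := fun i => (gt X i : ℕ)

/-- The test on the images of `w • X` under the elements of the program. -/
noncomputable def test (As As' : List (BT Row)) (tst : ℕ → ℕ → Bool)
    (ps : List (List (List (List ℕ)))) (X : BT ℕ) (w : List ℕ) : Bool :=
  allT X (fun y => Nat.blt y 8589934592) && appW As' 1 w X fun Y => prgK As tst ps Y 0

theorem test_sound {g g' : ℕ → MM} {As As' : List (BT Row)} (hg : Lets g As) (hg' : Lets g' As')
    {tst : ℕ → ℕ → Bool} {ps : List (List (List (List ℕ)))} {X : BT ℕ} {w : List ℕ}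
    (h : test As As' tst ps X w = true) :
    ∀ i < (prg g ps).length, tst i (Φ (((prg g ps).getD i 1 * ev g' w) *ᵥ vec X)).val = true := by
  rw [test, Bool.and_eq_true] at h
  have hX : VS 1 X fun _ => vec X := fun i k => by
    have h1 : gt X i < 2 ^ 33 := by have := allT_sound h.1 i; rwa [Nat.blt_eq] at this
    rcases k with _ | k
    · rw [dg_zero', Nat.mod_eq_of_lt (h1.trans (by norm_num))]
      exact ⟨h1, by simp, fun _ => rfl⟩
    · rw [dg_succ', Nat.div_eq_of_lt (h1.trans (by norm_num)), dg_of_zero]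
      exact ⟨by norm_num, fun _ => rfl, by simp⟩
  obtain ⟨Y, h1, h2⟩ := appW_sound hg' h.2 hX
  have h3 : Bt (ev g' w *ᵥ vec X) [1] Y := h2.congr fun k hk => by
    obtain rfl : k = 0 := by simpa using hk
    simp
  intro i hi
  have := prgK_sound hg h3 h1 i hi
  rwa [zero_add, mulVec_mulVec] at this

end Cfsg.Agent.ThO
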