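import Cfsg.Agent.CGT.Dce
import Cfsg.Agent.PM.Basic

set_option autoImplicit false
set_option maxRecDepth 10000

/-! Sparse matrices of size 248 modulo `2 ^ 31 - 1`, acting on many vectors at once: a coordinate
of a family of vectors is one number with digits in base `2 ^ 48`. -/

namespace Cfsg.Agent.ThO

open Cfsg.Agent.CGT Cfsg.Agent.PM Matrix

abbrev R : Type := ZMod 2147483647
abbrev V : Type := Fin 248 → R
abbrev MM : Type := Matrix (Fin 248) (Fin 248) R

/-- A row: the positions of `2 ^ (-m)` and of `-2 ^ (-m)`. -/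
structure Row where
  pos : List ℕ
  neg : List ℕ
  m : ℕ

noncomputable def gt {α : Type} (t : BT α) (i : ℕ) : α :=
  BT.rec (motive := fun _ => α) (fun a => a) (fun h _ _ il ir => Bool.rec il ir (Nat.ble h i)) t

noncomputable def allT {α : Type} (A : BT α) (f : α → Bool) : Bool :=
  BT.rec f (fun _ _ _ il ir => il && ir) A

theorem allT_sound {α : Type} {A : BT α} {f : α → Bool} (h : allT A f = true) (i : ℕ) :
    f (gt A i) = true := by
  induction A with
  | leaf a => exact h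
  | node t l r il ir =>
    have h' : (allT l f && allT r f) = true := h
    rw [Bool.and_eq_true] at h'
    show f (Bool.rec (gt l i) (gt r i) (Nat.ble t i)) = true
    cases Nat.ble t i
    · exact il h'.1
    · exact ir h'.2

noncomputable def mapK {α : Type} (A : BT α) (f : α → (ℕ → Bool) → Bool) (k : BT ℕ → Bool) : Bool :=
  BT.rec (motive := fun _ => (BT ℕ → Bool) → Bool) (fun r k => f r fun y => k (.leaf y))
    (fun h _ _ il ir k => il fun L => ir fun R => k (.node h L R)) A k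

theorem mapK_sound {α : Type} {A : BT α} {f : α → (ℕ → Bool) → Bool} {k : BT ℕ → Bool}
    (h : mapK A f k = true) (F : α → ℕ) (hf : ∀ r k, f r k = k (F r)) :
    ∃ Y, k Y = true ∧ ∀ i, gt Y i = F (gt A i) := by
  induction A generalizing k with
  | leaf a => exact ⟨.leaf (F a), (hf a _).symm.trans h, fun _ => rfl⟩
  | node t l r il ir =>
    obtain ⟨L, h1, h2⟩ := il h
    obtain ⟨R, h3, h4⟩ := ir h1
    refine ⟨_, h3, fun i => ?_⟩
    show Bool.rec (gt L i) (gt R i) (Nat.ble t i) = F (Bool.rec (gt l i) (gt r i) (Nat.ble t i))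
    cases Nat.ble t i
    · exact h2 i
    · exact h4 i

noncomputable def sumX (X : BT ℕ) (l : List ℕ) (z : ℕ) : ℕ :=
  List.rec z (fun j _ ih => Nat.add (gt X j) ih) l

noncomputable def rowY (M40 K : ℕ) (X : BT ℕ) (r : Row) : ℕ :=
  sumX X r.pos (Nat.add (Nat.xor (sumX X r.neg 0) M40) K)

noncomputable def nrm (o M31 M11 m y : ℕ) : ℕ :=
  Nat.add (Nat.add (Nat.land (Nat.shiftRight y m) M31) (Nat.land (Nat.shiftRight y (Nat.add m 31)) M11))
    (Nat.shiftLeft (Nat.land y (Nat.mul (Nat.sub (Nat.pow 2 m) 1) o)) (Nat.sub 31 m))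

noncomputable def rowV (o M40 K M31 M11 : ℕ) (X : BT ℕ) (r : Row) (k : ℕ → Bool) : Bool :=
  lt' (rowY M40 K X r) fun y => lt' (nrm o M31 M11 r.m y) k

noncomputable def ones (n : ℕ) : ℕ :=
  Nat.div (Nat.sub (Nat.pow 281474976710656 n) 1) (Nat.sub 281474976710656 1)

def dA : BT Row := .leaf ⟨[], [], 0⟩

/-- Apply a word to `n` vectors. -/
noncomputable def appW (As : List (BT Row)) (n : ℕ) (w : List ℕ) (X : BT ℕ) (k : BT ℕ → Bool) : Bool :=
  allL w (fun a => Nat.blt a As.length) &&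
  lt' (ones n) fun o => lt' (Nat.mul 1099511627775 o) fun M40 => lt' (Nat.mul 2147483136 o) fun K =>
    lt' (Nat.mul 2147483647 o) fun M31 => lt' (Nat.mul 2047 o) fun M11 =>
  List.rec (motive := fun _ => (BT ℕ → Bool) → Bool) (fun k => k X)
    (fun a _ ih k => ih fun Y => mapK (nth dA As a) (rowV o M40 K M31 M11 Y) k) w k

noncomputable def wfR (r : Row) : Bool :=
  Nat.ble r.m 6 && (Nat.ble r.pos.length 128 && (Nat.ble r.neg.length 128 &&
    (allL r.pos (fun j => Nat.blt j 248) && allL r.neg fun j => Nat.blt j 248)))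

/-- The matrix. -/
noncomputable def mat (A : BT Row) : MM := fun i j =>
  (((gt A i).pos.count (j : ℕ) : R) - ((gt A i).neg.count (j : ℕ) : R)) * 2 ^ (31 - (gt A i).m)

/-- The digits represent the values. -/
def Ln (n X : ℕ) (v : ℕ → R) : Prop := ∀ k, dg (2 ^ 48) X k < 2 ^ 33 ∧
  (n ≤ k → dg (2 ^ 48) X k = 0) ∧ (k < n → (dg (2 ^ 48) X k : R) = v k)

def VS (n : ℕ) (X : BT ℕ) (v : ℕ → V) : Prop := ∀ i : Fin 248, Ln n (gt X i) fun k => v k i

theorem dg_ones {c : ℕ} (hc : c < 2 ^ 48) (n k : ℕ) :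
    dg (2 ^ 48) (Nat.mul c (ones n)) k = if k < n then c else 0 :=
  dg_rp (X := 2 ^ 48) (by norm_num) hc n k

theorem dg_xor (w a b i : ℕ) : dg (2 ^ w) (a ^^^ b) i = dg (2 ^ w) a i ^^^ dg (2 ^ w) b i := by
  rw [dg, dg, dg, ← pow_mul, Nat.xor_div_two_pow, Nat.xor_mod_two_pow]

theorem xor_mask {c y : ℕ} (h : y < 2 ^ c) : (y ^^^ (2 ^ c - 1)) + y = 2 ^ c - 1 := by
  have : y ^^^ (2 ^ c - 1) = 2 ^ c - (y + 1) := by
    apply Nat.eq_of_testBit_eq
    intro i
    rw [Nat.testBit_xor, Nat.testBit_two_pow_sub_one, Nat.testBit_two_pow_sub_succ h]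
    by_cases hi : i < c
    · simp [hi]
    · have : y.testBit i = false :=
        Nat.testBit_lt_two_pow (h.trans_le (Nat.pow_le_pow_right (by norm_num) (by omega)))
      simp [hi, this]
  omega

theorem dg_shr_and {s t : ℕ} (h : s + t ≤ 48) (ht : t < 48) (X n k : ℕ) :
    dg (2 ^ 48) ((X >>> s) &&& Nat.mul (2 ^ t - 1) (ones n)) k =
      if k < n then dg (2 ^ 48) X k / 2 ^ s % 2 ^ t else 0 := by
  have h1 : 2 ^ t - 1 < 2 ^ 48 :=
    (Nat.sub_le _ _).trans_lt (Nat.pow_lt_pow_right (by norm_num) ht)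
  rw [dg_and, dg_ones h1]
  split_ifs
  · rw [Nat.and_two_pow_sub_one_eq_mod, Nat.shiftRight_eq_div_pow, dg, dg, Nat.div_div_eq_div_mul,
      mul_comm, ← Nat.div_div_eq_div_mul]
    generalize X / (2 ^ 48) ^ k = Y
    obtain ⟨e, he⟩ := Nat.exists_eq_add_of_le h
    rw [Nat.mod_mod_of_dvd _ (pow_dvd_pow 2 ht.le), he, add_assoc, pow_add,
      Nat.mod_mul_right_div_self, Nat.mod_mod_of_dvd _ (pow_dvd_pow 2 (by omega))]
  · simp

theorem dg_sumX {X : BT ℕ} (hX : ∀ j < 248, ∀ k, dg (2 ^ 48) (gt X j) k < 2 ^ 33) {l : List ℕ}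
    (hl : ∀ j ∈ l, j < 248) {z c : ℕ} (hz : ∀ k, dg (2 ^ 48) z k ≤ c)
    (hc : c + l.length * (2 ^ 33 - 1) < 2 ^ 48) (k : ℕ) :
    dg (2 ^ 48) (sumX X l z) k = (l.map fun j => dg (2 ^ 48) (gt X j) k).sum + dg (2 ^ 48) z k ∧
      dg (2 ^ 48) (sumX X l z) k ≤ c + l.length * (2 ^ 33 - 1) := by
  induction l generalizing k with
  | nil => exact ⟨by simp [sumX], by simpa [sumX] using hz k⟩
  | cons j l ih =>
    rw [List.length_cons, add_mul, one_mul] at hc ⊢
    have ih' := ih (fun i hi => hl i (by simp [hi]))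
      ((Nat.add_le_add_left (Nat.le_add_right _ _) c).trans_lt hc)
    have h1 := hX j (hl j (by simp))
    have e : dg (2 ^ 48) (sumX X (j :: l) z) k = dg (2 ^ 48) (gt X j) k + dg (2 ^ 48) (sumX X l z) k :=
      dg_add (b := sumX X l z) (fun i => by have := h1 i; have := (ih' i).2; omega) k
    rw [e, List.map_cons, List.sum_cons]
    have := h1 k
    have := ih' k
    omega

theorem sum_count {S : Type*} [CommRing S] {n : ℕ} (l : List ℕ) (hl : ∀ j ∈ l, j < n) (x : Fin n → S)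
    (y : ℕ → S) (h : ∀ j : Fin n, y j = x j) :
    ∑ j : Fin n, (l.count (j : ℕ) : S) * x j = (l.map y).sum := by
  induction l with
  | nil => simp
  | cons a l ih =>
    have ha := hl a (by simp)
    rw [List.map_cons, List.sum_cons, ← ih fun i hi => hl i (by simp [hi]), h ⟨a, ha⟩]
    simp only [List.count_cons, Nat.cast_add, add_mul, Finset.sum_add_distrib]
    rw [add_comm]
    congr 1
    rw [Finset.sum_eq_single ⟨a, ha⟩]
    · simp
    · intro b _ hb
      have : a ≠ b := fun e => hb (Fin.ext e.symm)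
      simp [this]
    · simp

theorem two_pow_31 : (2 : R) ^ 31 = 1 := by decide +kernel

theorem ln_nrm {n m y : ℕ} (hm : m ≤ 6) (hy : ∀ k, dg (2 ^ 48) y k < 2 ^ 42) :
    Ln n (nrm (ones n) (Nat.mul 2147483647 (ones n)) (Nat.mul 2047 (ones n)) m y)
      fun k => (dg (2 ^ 48) y k : R) * 2 ^ (31 - m) := by
  have e1 := dg_shr_and (s := m) (t := 31) (by omega) (by omega) y n
  have e2 := dg_shr_and (s := m + 31) (t := 11) (by omega) (by omega) y n
  have e3 := dg_shr_and (s := 0) (t := m) (by omega) (by omega) y n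
  simp only [Nat.shiftRight_zero, pow_zero, Nat.div_one] at e3
  have hp : 2 ^ (31 - m) * 2 ^ m = 2 ^ 31 := by rw [← pow_add]; congr 1; omega
  have b3 : ∀ k, 2 ^ (31 - m) * dg (2 ^ 48) (y &&& Nat.mul (2 ^ m - 1) (ones n)) k < 2 ^ 31 := fun k => by
    rw [e3, ← hp]
    split_ifs
    · exact Nat.mul_lt_mul_of_pos_left (Nat.mod_lt _ (by positivity)) (by positivity)
    · rw [mul_zero]; positivity
  have b1 : ∀ k, dg (2 ^ 48) ((y >>> m) &&& Nat.mul (2 ^ 31 - 1) (ones n)) k < 2 ^ 31 := fun k => by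
    rw [e1]; split_ifs
    · exact Nat.mod_lt _ (by positivity)
    · positivity
  have b2 : ∀ k, dg (2 ^ 48) ((y >>> (m + 31)) &&& Nat.mul (2 ^ 11 - 1) (ones n)) k < 2 ^ 11 := fun k => by
    rw [e2]; split_ifs
    · exact Nat.mod_lt _ (by positivity)
    · positivity
  have e4 := dg_mul (B := 2 ^ 48) (fun k => (b3 k).trans (by norm_num))
  have e5 := dg_add (B := 2 ^ 48) (fun k => (Nat.add_lt_add (b1 k) (b2 k)).trans (by norm_num))
  have e6 := dg_add (B := 2 ^ 48)
    (a := ((y >>> m) &&& Nat.mul (2 ^ 31 - 1) (ones n)) + ((y >>> (m + 31)) &&& Nat.mul (2 ^ 11 - 1) (ones n)))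
    (b := 2 ^ (31 - m) * (y &&& Nat.mul (2 ^ m - 1) (ones n))) (fun k => by
    rw [e5, e4]; have := b1 k; have := b2 k; have := b3 k; omega)
  have e0 : nrm (ones n) (Nat.mul 2147483647 (ones n)) (Nat.mul 2047 (ones n)) m y =
      ((y >>> m) &&& Nat.mul (2 ^ 31 - 1) (ones n)) + ((y >>> (m + 31)) &&& Nat.mul (2 ^ 11 - 1) (ones n)) +
        2 ^ (31 - m) * (y &&& Nat.mul (2 ^ m - 1) (ones n)) := by
    rw [mul_comm (2 ^ (31 - m)), ← Nat.shiftLeft_eq]; rfl
  intro k
  rw [e0, e6, e5, e4]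
  refine ⟨by have := b1 k; have := b2 k; have := b3 k; omega, fun hk => ?_, fun hk => ?_⟩
  · rw [e1, e2, e3]; simp [not_lt.2 hk]
  · rw [e1, e2, e3]
    simp only [hk, if_true]
    have h1 := hy k
    generalize dg (2 ^ 48) y k = x at *
    have h2 : x / 2 ^ (m + 31) % 2 ^ 11 = x / 2 ^ m / 2 ^ 31 := by
      rw [Nat.div_div_eq_div_mul, ← pow_add, Nat.mod_eq_of_lt]
      rw [Nat.div_lt_iff_lt_mul (by positivity), ← pow_add]
      exact h1.trans_le (Nat.pow_le_pow_right (by norm_num) (by omega))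
    have h3 := congrArg (Nat.cast : ℕ → R) (Nat.mod_add_div x (2 ^ m))
    have h4 := congrArg (Nat.cast : ℕ → R) (Nat.mod_add_div (x / 2 ^ m) (2 ^ 31))
    have h5 := congrArg (Nat.cast : ℕ → R) hp
    rw [h2]
    simp only [Nat.cast_add, Nat.cast_mul, Nat.cast_pow, Nat.cast_ofNat, two_pow_31] at h3 h4 h5 ⊢
    rw [← h3, ← h4]
    linear_combination (-(((x / 2 ^ m % 2 ^ 31 : ℕ) : R) + ((x / 2 ^ m / 2 ^ 31 : ℕ) : R))) * h5

theorem rowY_sound {n : ℕ} {X : BT ℕ} {v : ℕ → V} (hX : VS n X v) {r : Row} (hr : wfR r = true) (k : ℕ) :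
    dg (2 ^ 48) (rowY (Nat.mul 1099511627775 (ones n)) (Nat.mul 2147483136 (ones n)) X r) k < 2 ^ 42 ∧
    (k < n → (dg (2 ^ 48) (rowY (Nat.mul 1099511627775 (ones n)) (Nat.mul 2147483136 (ones n)) X r) k : R)
      = ∑ j : Fin 248, ((r.pos.count (j : ℕ) : R) - (r.neg.count (j : ℕ) : R)) * v k j) := by
  simp only [wfR, Bool.and_eq_true, Nat.ble_eq, allL_iff, Nat.blt_eq] at hr
  obtain ⟨-, h1, h2, h3, h4⟩ := hr
  have hb : ∀ j < 248, ∀ k, dg (2 ^ 48) (gt X j) k < 2 ^ 33 := fun j hj k => (hX ⟨j, hj⟩ k).1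
  have a1 := dg_sumX hb h4 (z := 0) (c := 0) (fun k => (dg_of_zero _ k).le) (by omega)
  have a2 : ∀ k, dg (2 ^ 48) (sumX X r.neg 0) k < 2 ^ 40 := fun k => by have := (a1 k).2; omega
  have a3 : ∀ k, dg (2 ^ 48) (sumX X r.neg 0 ^^^ Nat.mul (2 ^ 40 - 1) (ones n)) k < 2 ^ 40 := fun k => by
    rw [dg_xor, dg_ones (by norm_num)]
    exact Nat.xor_lt_two_pow (a2 k) (by split_ifs <;> norm_num)
  have a4 := dg_ones (c := 2147483136) (by norm_num) n
  have a5 := dg_add (B := 2 ^ 48) (a := sumX X r.neg 0 ^^^ Nat.mul (2 ^ 40 - 1) (ones n))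
    (b := Nat.mul 2147483136 (ones n)) fun k => by rw [a4]; have := a3 k; split_ifs <;> omega
  have a6 := dg_sumX hb h3 (c := 2 ^ 40 + 2 ^ 31) (fun k => by
    rw [a5, a4]; have := a3 k; split_ifs <;> omega) (by omega) k
  refine ⟨a6.2.trans_lt (by omega), fun hk => ?_⟩
  have a7 := xor_mask (a2 k)
  have a8 := a6.1
  rw [a5, a4, dg_xor, dg_ones (by norm_num), if_pos hk, if_pos hk] at a8
  have a9 := (a1 k).1
  rw [dg_of_zero, add_zero] at a9
  have hy : ∀ j : Fin 248, ((dg (2 ^ 48) (gt X j) k : ℕ) : R) = v k j := fun j => (hX j k).2.2 hk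
  simp only [sub_mul, Finset.sum_sub_distrib]
  rw [sum_count _ h3 _ (fun j => ((dg (2 ^ 48) (gt X j) k : ℕ) : R)) hy,
    sum_count _ h4 _ (fun j => ((dg (2 ^ 48) (gt X j) k : ℕ) : R)) hy]
  have b7 := congrArg (Nat.cast : ℕ → R) a7
  have b8 := congrArg (Nat.cast : ℕ → R) a8
  have b9 := congrArg (Nat.cast : ℕ → R) a9
  simp only [Nat.cast_add, Nat.cast_list_sum, List.map_map] at b7 b8 b9
  have c1 : ((2 ^ 40 - 1 : ℕ) : R) + ((2147483136 : ℕ) : R) = 0 := by decide +kernel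
  refine b8.trans ?_
  simp only [Function.comp_def] at b9 ⊢
  linear_combination b7 - b9 + c1

/-- The letters have the given matrices. -/
def Lets (g : ℕ → MM) (As : List (BT Row)) : Prop :=
  ∀ a < As.length, allT (nth dA As a) wfR = true ∧ g a = mat (nth dA As a)

theorem appW_sound {g : ℕ → MM} {As : List (BT Row)} (hg : Lets g As) {n : ℕ} {w : List ℕ} {X : BT ℕ}
    {k : BT ℕ → Bool} (h : appW As n w X k = true) {v : ℕ → V} (hX : VS n X v) :
    ∃ Y, k Y = true ∧ VS n Y fun i => ev g w *ᵥ v i := by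
  simp only [appW, lt'_eq, Bool.and_eq_true, allL_iff, Nat.blt_eq] at h
  obtain ⟨hw, h⟩ := h
  induction w generalizing k with
  | nil => exact ⟨X, h, by simpa using hX⟩
  | cons a w ih =>
    obtain ⟨Z, h1, h2⟩ := ih (fun b hb => hw b (by simp [hb])) h
    obtain ⟨h3, h4⟩ := hg a (hw a (by simp))
    obtain ⟨Y, h5, h6⟩ := mapK_sound h1 _ (fun _ _ => rfl)
    refine ⟨Y, h5, fun i => ?_⟩
    have h7 := allT_sound h3 i
    have h8 := rowY_sound h2 h7
    have hm : (gt (nth dA As a) i).m ≤ 6 := by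
      simp only [wfR, Bool.and_eq_true, Nat.ble_eq] at h7; exact h7.1
    intro l
    have h9 := ln_nrm (n := n) hm (fun k => (h8 k).1) l
    rw [h6]
    refine ⟨h9.1, h9.2.1, fun hl => (h9.2.2 hl).trans ?_⟩
    beta_reduce
    rw [(h8 l).2 hl, ev_cons, ← mulVec_mulVec, h4, Finset.sum_mul]
    simp only [mulVec, dotProduct, mat]
    exact Finset.sum_congr rfl fun j _ => by ring

/-- The tree of the indices. -/
noncomputable def sk : BT ℕ :=
  (.node 124 (.node 62 (.node 31 (.node 15 (.node 7 (.node 3 (.node 1 (.leaf 0) (.node 2 (.leaf 1)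
  (.leaf 2))) (.node 5 (.node 4 (.leaf 3) (.leaf 4)) (.node 6 (.leaf 5) (.leaf 6)))) (.node 11
  (.node 9 (.node 8 (.leaf 7) (.leaf 8)) (.node 10 (.leaf 9) (.leaf 10))) (.node 13 (.node 12
  (.leaf 11) (.leaf 12)) (.node 14 (.leaf 13) (.leaf 14))))) (.node 23 (.node 19 (.node 17 (.node
  16 (.leaf 15) (.leaf 16)) (.node 18 (.leaf 17) (.leaf 18))) (.node 21 (.node 20 (.leaf 19)
  (.leaf 20)) (.node 22 (.leaf 21) (.leaf 22)))) (.node 27 (.node 25 (.node 24 (.leaf 23) (.leaf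
  24)) (.node 26 (.leaf 25) (.leaf 26))) (.node 29 (.node 28 (.leaf 27) (.leaf 28)) (.node 30
  (.leaf 29) (.leaf 30)))))) (.node 46 (.node 38 (.node 34 (.node 32 (.leaf 31) (.node 33 (.leaf
  32) (.leaf 33))) (.node 36 (.node 35 (.leaf 34) (.leaf 35)) (.node 37 (.leaf 36) (.leaf 37))))
  (.node 42 (.node 40 (.node 39 (.leaf 38) (.leaf 39)) (.node 41 (.leaf 40) (.leaf 41))) (.node 44
  (.node 43 (.leaf 42) (.leaf 43)) (.node 45 (.leaf 44) (.leaf 45))))) (.node 54 (.node 50 (.node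
  48 (.node 47 (.leaf 46) (.leaf 47)) (.node 49 (.leaf 48) (.leaf 49))) (.node 52 (.node 51 (.leaf
  50) (.leaf 51)) (.node 53 (.leaf 52) (.leaf 53)))) (.node 58 (.node 56 (.node 55 (.leaf 54)
  (.leaf 55)) (.node 57 (.leaf 56) (.leaf 57))) (.node 60 (.node 59 (.leaf 58) (.leaf 59)) (.node
  61 (.leaf 60) (.leaf 61))))))) (.node 93 (.node 77 (.node 69 (.node 65 (.node 63 (.leaf 62)
  (.node 64 (.leaf 63) (.leaf 64))) (.node 67 (.node 66 (.leaf 65) (.leaf 66)) (.node 68 (.leaf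
  67) (.leaf 68)))) (.node 73 (.node 71 (.node 70 (.leaf 69) (.leaf 70)) (.node 72 (.leaf 71)
  (.leaf 72))) (.node 75 (.node 74 (.leaf 73) (.leaf 74)) (.node 76 (.leaf 75) (.leaf 76)))))
  (.node 85 (.node 81 (.node 79 (.node 78 (.leaf 77) (.leaf 78)) (.node 80 (.leaf 79) (.leaf 80)))
  (.node 83 (.node 82 (.leaf 81) (.leaf 82)) (.node 84 (.leaf 83) (.leaf 84)))) (.node 89 (.node
  87 (.node 86 (.leaf 85) (.leaf 86)) (.node 88 (.leaf 87) (.leaf 88))) (.node 91 (.node 90 (.leaf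
  89) (.leaf 90)) (.node 92 (.leaf 91) (.leaf 92)))))) (.node 108 (.node 100 (.node 96 (.node 94
  (.leaf 93) (.node 95 (.leaf 94) (.leaf 95))) (.node 98 (.node 97 (.leaf 96) (.leaf 97)) (.node
  99 (.leaf 98) (.leaf 99)))) (.node 104 (.node 102 (.node 101 (.leaf 100) (.leaf 101)) (.node 103
  (.leaf 102) (.leaf 103))) (.node 106 (.node 105 (.leaf 104) (.leaf 105)) (.node 107 (.leaf 106)
  (.leaf 107))))) (.node 116 (.node 112 (.node 110 (.node 109 (.leaf 108) (.leaf 109)) (.node 111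
  (.leaf 110) (.leaf 111))) (.node 114 (.node 113 (.leaf 112) (.leaf 113)) (.node 115 (.leaf 114)
  (.leaf 115)))) (.node 120 (.node 118 (.node 117 (.leaf 116) (.leaf 117)) (.node 119 (.leaf 118)
  (.leaf 119))) (.node 122 (.node 121 (.leaf 120) (.leaf 121)) (.node 123 (.leaf 122) (.leaf
  123)))))))) (.node 186 (.node 155 (.node 139 (.node 131 (.node 127 (.node 125 (.leaf 124) (.node
  126 (.leaf 125) (.leaf 126))) (.node 129 (.node 128 (.leaf 127) (.leaf 128)) (.node 130 (.leaf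
  129) (.leaf 130)))) (.node 135 (.node 133 (.node 132 (.leaf 131) (.leaf 132)) (.node 134 (.leaf
  133) (.leaf 134))) (.node 137 (.node 136 (.leaf 135) (.leaf 136)) (.node 138 (.leaf 137) (.leaf
  138))))) (.node 147 (.node 143 (.node 141 (.node 140 (.leaf 139) (.leaf 140)) (.node 142 (.leaf
  141) (.leaf 142))) (.node 145 (.node 144 (.leaf 143) (.leaf 144)) (.node 146 (.leaf 145) (.leaf
  146)))) (.node 151 (.node 149 (.node 148 (.leaf 147) (.leaf 148)) (.node 150 (.leaf 149) (.leaf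
  150))) (.node 153 (.node 152 (.leaf 151) (.leaf 152)) (.node 154 (.leaf 153) (.leaf 154))))))
  (.node 170 (.node 162 (.node 158 (.node 156 (.leaf 155) (.node 157 (.leaf 156) (.leaf 157)))
  (.node 160 (.node 159 (.leaf 158) (.leaf 159)) (.node 161 (.leaf 160) (.leaf 161)))) (.node 166
  (.node 164 (.node 163 (.leaf 162) (.leaf 163)) (.node 165 (.leaf 164) (.leaf 165))) (.node 168
  (.node 167 (.leaf 166) (.leaf 167)) (.node 169 (.leaf 168) (.leaf 169))))) (.node 178 (.node 174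
  (.node 172 (.node 171 (.leaf 170) (.leaf 171)) (.node 173 (.leaf 172) (.leaf 173))) (.node 176
  (.node 175 (.leaf 174) (.leaf 175)) (.node 177 (.leaf 176) (.leaf 177)))) (.node 182 (.node 180
  (.node 179 (.leaf 178) (.leaf 179)) (.node 181 (.leaf 180) (.leaf 181))) (.node 184 (.node 183
  (.leaf 182) (.leaf 183)) (.node 185 (.leaf 184) (.leaf 185))))))) (.node 217 (.node 201 (.node
  193 (.node 189 (.node 187 (.leaf 186) (.node 188 (.leaf 187) (.leaf 188))) (.node 191 (.node 190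
  (.leaf 189) (.leaf 190)) (.node 192 (.leaf 191) (.leaf 192)))) (.node 197 (.node 195 (.node 194
  (.leaf 193) (.leaf 194)) (.node 196 (.leaf 195) (.leaf 196))) (.node 199 (.node 198 (.leaf 197)
  (.leaf 198)) (.node 200 (.leaf 199) (.leaf 200))))) (.node 209 (.node 205 (.node 203 (.node 202
  (.leaf 201) (.leaf 202)) (.node 204 (.leaf 203) (.leaf 204))) (.node 207 (.node 206 (.leaf 205)
  (.leaf 206)) (.node 208 (.leaf 207) (.leaf 208)))) (.node 213 (.node 211 (.node 210 (.leaf 209)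
  (.leaf 210)) (.node 212 (.leaf 211) (.leaf 212))) (.node 215 (.node 214 (.leaf 213) (.leaf 214))
  (.node 216 (.leaf 215) (.leaf 216)))))) (.node 232 (.node 224 (.node 220 (.node 218 (.leaf 217)
  (.node 219 (.leaf 218) (.leaf 219))) (.node 222 (.node 221 (.leaf 220) (.leaf 221)) (.node 223
  (.leaf 222) (.leaf 223)))) (.node 228 (.node 226 (.node 225 (.leaf 224) (.leaf 225)) (.node 227
  (.leaf 226) (.leaf 227))) (.node 230 (.node 229 (.leaf 228) (.leaf 229)) (.node 231 (.leaf 230)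
  (.leaf 231))))) (.node 240 (.node 236 (.node 234 (.node 233 (.leaf 232) (.leaf 233)) (.node 235
  (.leaf 234) (.leaf 235))) (.node 238 (.node 237 (.leaf 236) (.leaf 237)) (.node 239 (.leaf 238)
  (.leaf 239)))) (.node 244 (.node 242 (.node 241 (.leaf 240) (.leaf 241)) (.node 243 (.leaf 242)
  (.leaf 243))) (.node 246 (.node 245 (.leaf 244) (.leaf 245)) (.node 247 (.leaf 246) (.leaf
  247)))))))))

theorem gt_sk (i : Fin 248) : gt sk i = i :=
  Nat.eq_of_beq_eq_true (allLt_iff.1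
    (by decide +kernel : (allLt 248 fun i => Nat.beq (gt sk i) i) = true) i i.2)

noncomputable def isOne (As : List (BT Row)) (w : List ℕ) : Bool :=
  mapK sk (fun i k => lt' (Nat.pow 281474976710656 i) k) fun X =>
    appW As 248 w X fun Y => lt' (Nat.mul 7 (ones 248)) fun M =>
      allLt 248 fun i => lt' (Nat.add (gt Y i) (Nat.mul 2147483646 (gt X i))) fun z =>
        lt' (Nat.div z 2147483647) fun q => Nat.beq (Nat.mul 2147483647 q) z && Nat.beq (Nat.land q M) q

theorem isOne_sound {g : ℕ → MM} {As : List (BT Row)} (hg : Lets g As) {w : List ℕ}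
    (h : isOne As w = true) : ev g w = 1 := by
  unfold isOne at h
  obtain ⟨X, h1, h2⟩ := mapK_sound h (fun i => (2 ^ 48) ^ i) (fun _ _ => rfl)
  have hd : ∀ (i : Fin 248) k, dg (2 ^ 48) (gt X i) k = if (i : ℕ) = k then 1 else 0 := fun i k => by
    rw [h2, gt_sk, dg_pow (by norm_num)]
  have hX : VS 248 X fun k i => if (i : ℕ) = k then 1 else 0 := fun i k => by
    rw [hd]
    refine ⟨by split_ifs <;> norm_num, fun hk => if_neg (by omega), fun _ => by simp⟩
  obtain ⟨Y, h3, h4⟩ := appW_sound hg h1 hX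
  simp only [lt'_eq, allLt_iff, Bool.and_eq_true, Nat.beq_eq] at h3
  ext i j
  obtain ⟨h5, h6⟩ := h3 i i.2
  generalize Nat.div _ 2147483647 = q at h5 h6
  have h7 : ∀ k, dg (2 ^ 48) q k ≤ 7 := fun k => by
    rw [← h6, land_eq, dg_and, dg_ones (by norm_num)]
    exact Nat.and_le_right.trans (by split_ifs <;> omega)
  have h8 := dg_mul (B := 2 ^ 48) (c := 2147483647) (a := q) (fun k => by have := h7 k; omega) j
  have h9 := dg_mul (B := 2 ^ 48) (c := 2147483646) (a := gt X i)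
    (fun k => by rw [hd]; split_ifs <;> norm_num)
  have h10 := dg_add (B := 2 ^ 48) (a := gt Y i) (b := 2147483646 * gt X i)
    (fun k => by rw [h9, hd]; have := (h4 i k).1; split_ifs <;> omega) j
  have h11 : 2147483647 * q = gt Y i + 2147483646 * gt X i := h5
  rw [← h11, h8, h9, hd] at h10
  have h12 := congrArg (Nat.cast : ℕ → R) h10
  have c1 : ((2147483647 : ℕ) : R) = 0 := by decide +kernel
  have c2 : ((2147483646 : ℕ) : R) = -1 := by decide +kernel
  rw [Nat.cast_add, Nat.cast_mul, Nat.cast_mul, c1, c2, (h4 i j).2.2 j.2] at h12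
  have h13 : (ev g w *ᵥ fun i : Fin 248 => if (i : ℕ) = j then (1 : R) else 0) i = ev g w i j := by
    simp [mulVec, dotProduct, Fin.val_inj]
  rw [← h13, one_apply]
  simp only [Fin.val_inj] at h12 ⊢
  split_ifs at h12 ⊢ <;> simp at h12 ⊢ <;> linear_combination -h12

end Cfsg.Agent.ThO
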